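import Cfsg.Agent.H862.T5.OMain

/-!
# The middle rows of the orthogonal groups in cross characteristic (T5)

`pomegaOdd_mrow`, `pomegaPlus_mrow`, `pomegaMinus_mrow`.
-/

set_option autoImplicit false
set_option linter.unusedSectionVars false

namespace Cfsg.Agent.H862.T5.ORow

open QuadraticMap Module Cfsg.Agent.LieClassical.OrthCore Cfsg.Agent.LieClassical.OrthTrans
  Cfsg.Agent.ClassicalGeometry.OrthSemi Cfsg.Agent.ClassicalGeometry.OrthAut1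
open Cfsg.Agent.LieClassical.QuadForms
open Cfsg.Agent.H208.ConjSS (exists_normal isSS_scal_mul Psi_scal nontrivial_of_good)
open Cfsg.Agent.H862.T5.OBase Cfsg.Agent.H862.T5.OFrame Cfsg.Agent.H862.T5.OMain
open Cfsg.Agent.H957.T5V Cfsg.Agent.H957.T5M
open Cfsg.Agent.H208.Parity (ofO)
open Cfsg.Agent.H106.MT Cfsg.Agent.H106.MB

universe u

section

variable {F V : Type u} [Field F] [Fintype F] [AddCommGroup V] [Module F V] [FiniteDimensional F V]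
  {Q : QuadraticForm F V}

/-- normalisation of a semisimilitude -/
theorem exists_norm {p : ℕ} (hp : p.Prime) (hp2 : p ≠ 2) (hG : Good Q) (X : Gam Q) (hXp : IsScal F (X.1 ^ p))
    (hXn : ¬ IsScal F X.1) : (∃ g, NLin Q p g ∧ Scl F (toA g) X.1) ∨ ∃ σ M, NNl Q p σ M ∧ Scl F M X.1 := by
  obtain ⟨σ, c, hX⟩ := X.2
  have hpsi := psi_pow_eq_one hG hXp
  by_cases hσ : σ = 1
  · subst hσ
    left
    obtain ⟨g, hg, hgp, h⟩ := exists_isom hG (hp.odd_of_ne_two hp2) hX hpsi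
    obtain ⟨a, ha⟩ := exists_scal hG (M := ofO g hg * X⁻¹) (by rw [map_mul, map_inv, h, mul_inv_cancel])
    have hs : Scl F (toA g) X.1 := by
      refine ⟨a, a.ne_zero, fun v => ?_⟩
      have h1 : (ofO g hg * X⁻¹).1 (X.1 v) = (scal Q a).1 (X.1 v) := by rw [ha]
      have h2 : (ofO g hg * X⁻¹).1 (X.1 v) = toA g (X.1⁻¹ (X.1 v)) := rfl
      have h3 : X.1⁻¹ (X.1 v) = v := X.1.symm_apply_apply v
      rw [h2, h3] at h1
      exact h1
    refine ⟨g, ⟨hg, hgp, ?_⟩, hs⟩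
    rintro rfl
    apply hXn
    rw [← hs.isScal_iff]
    exact ⟨1, fun v => by rw [one_smul]; rfl⟩
  · right
    have := nontrivial_of_good hG
    obtain ⟨hoσ, a, ha⟩ := exists_normal hG hX hσ hp hpsi
    obtain ⟨c', hc'⟩ := isSS_scal_mul hX a
    exact ⟨σ, (scal Q a * X).1, ⟨⟨c', hc'⟩, hσ, hoσ, ha⟩, ⟨a, a.ne_zero, fun v => rfl⟩⟩

/-- **The pair predicate for semisimilitudes.** -/
theorem mpq_gam {p : ℕ} (hAA : AAHyp.{u} p) [hp : Fact p.Prime] (hG : Good Q) (h7 : 7 ≤ finrank F V)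
    (hp5 : 5 ≤ p) (hpF : (p : F) ≠ 0) (X Y : Gam Q) (hXp : IsScal F (X.1 ^ p)) (hXn : ¬ IsScal F X.1)
    (hYp : IsScal F (Y.1 ^ p)) (hYn : ¬ IsScal F Y.1) : MPQ Q p X.1 Y.1 := by
  obtain ⟨σ, c, hX⟩ := id X.2
  obtain ⟨τ, d, hY⟩ := id Y.2
  have hXs : Semi σ X.1 := ⟨hX.add, hX.smul⟩
  have hYs : Semi τ Y.1 := ⟨hY.add, hY.smul⟩
  rcases exists_norm hp.out (by omega) hG X hXp hXn with ⟨g₁, h₁, s₁⟩ | ⟨σ₁, M₁, h₁, s₁⟩
  · rcases exists_norm hp.out (by omega) hG Y hYp hYn with ⟨g₂, h₂, s₂⟩ | ⟨σ₂, M₂, h₂, s₂⟩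
    · exact MPQ.of_scl hXs hYs s₁ s₂ (mpq_ll hAA hG h7 hp5 hpF h₁ h₂)
    · exact MPQ.of_scl hXs hYs s₁ s₂ (mpq_ln hAA hG h7 hp5 hpF h₁ h₂)
  · rcases exists_norm hp.out (by omega) hG Y hYp hYn with ⟨g₂, h₂, s₂⟩ | ⟨σ₂, M₂, h₂, s₂⟩
    · exact MPQ.of_scl hXs hYs s₁ s₂ (MPQ.symm (semi_toA g₂) (mpq_ln hAA hG h7 hp5 hpF h₂ h₁))
    · exact MPQ.of_scl hXs hYs s₁ s₂ (mpq_small hG h7 hp5 hpF (h₁.fr4 hp.out hG) (h₂.fr4 hp.out hG) h₁.isScal
        h₂.isScal)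

end

/-- the row for a good form -/
theorem mrow_good {ι F : Type} [Fintype ι] [DecidableEq ι] [Nonempty ι] [Field F] [Fintype F]
    {Q : QuadraticForm F (ι → F)} (hG : Good Q) (h7 : 7 ≤ Fintype.card ι) {p : ℕ} (hAA : AAHyp.{0} p)
    (hp : p.Prime) (hp5 : 5 ≤ p) (hpF : (p : F) ≠ 0)
    (hind : ∀ c : MulAut (Cfsg.POmega F ⇑Q), orderOf c = p → ∃ y, H903.SylSemi.SemiO F ⇑Q y ∧
      H903.SylSemi.Ind (H152.MeetOmega.proj ⇑Q) (H152.MeetOmega.rho ⇑Q) y c) : MRow p (Cfsg.POmega F ⇑Q) := by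
  have := Fact.mk hp
  refine mrow_of_mpq hG hp hind fun y z hy hz hyp hyn hzp hzn => ?_
  exact mpq_gam hAA hG (by rwa [Module.finrank_fintype_fun_eq_card]) hp5 hpF ⟨y, H152.MeetOmega.mem_gam_iff.2 hy⟩
    ⟨z, H152.MeetOmega.mem_gam_iff.2 hz⟩ hyp hyn hzp hzn

/-- nonzero in the field -/
theorem cast_ne {F : Type} [Field F] {p : ℕ} (hp : p.Prime) (h : ¬ Nonempty (CharP F p)) : (p : F) ≠ 0 := by
  intro h0
  apply h
  obtain ⟨r, hr⟩ := CharP.exists F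
  have h1 : r ∣ p := (CharP.cast_eq_zero_iff F r p).1 h0
  have h2 : r = p := by
    rcases (Nat.dvd_prime hp).1 h1 with h3 | h3
    · subst h3
      exact absurd rfl (CharP.ringChar_ne_one.symm.trans_eq (by rw [ringChar.eq F 1]) : (1 : ℕ) ≠ 1)
    · exact h3
  rw [← h2]
  exact ⟨hr⟩

/-- **The middle row for `PΩ_{2m+1}(q)`**, cross characteristic. -/
theorem pomegaOdd_mrow {S : Type*} [Group S] (hS : Cfsg.IsPOmegaOdd S) {p : ℕ} (hp : p.Prime) (hp5 : 5 ≤ p)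
    (hch : ¬ Cfsg.IsPOmegaOddChar p S) (hAA : AAHyp.{0} p) : MRow p S := by
  obtain ⟨F, _, _, m, hm, hq, ⟨e⟩⟩ := hS
  have hpF : (p : F) ≠ 0 := cast_ne hp (by
    rintro ⟨hF⟩
    exact hch ⟨F, _, _, hF, m, hm, hq, ⟨e⟩⟩)
  have h2 : (2 : F) ≠ 0 := by
    intro h
    have h3 : CharP F 2 := CharTwo.of_one_ne_zero_of_two_eq_zero one_ne_zero h
    have h4 := FiniteField.even_card_iff_char_two.1 (ringChar.eq F 2 ▸ rfl : ringChar F = 2)
    rw [Nat.odd_iff] at hq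
    omega
  have hG := AutOrth.Main.good_odd (F := F) (m := m) (by omega) h2
  refine MRow.congr e ?_
  have hind : ∀ c : MulAut (Cfsg.POmega F (Cfsg.quadFormOdd m F)), orderOf c = p →
      ∃ y, H903.SylSemi.SemiO F (Cfsg.quadFormOdd m F) y ∧
      H903.SylSemi.Ind (H152.MeetOmega.proj (Cfsg.quadFormOdd m F)) (H152.MeetOmega.rho (Cfsg.quadFormOdd m F)) y c :=
    fun c _ => H152.MeetOmega.gamma_odd hm h2 c
  rw [← coe_oddForm] at hind ⊢
  exact mrow_good hG (by simp only [Fintype.card_sum, Fintype.card_fin, Fintype.card_unit]; omega) hAA hp hp5 hpF hind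

/-- **The middle row for `PΩ⁺_{2m}(q)`**, cross characteristic. -/
theorem pomegaPlus_mrow {S : Type*} [Group S] (hS : Cfsg.IsPOmegaPlus S) {p : ℕ} (hp : p.Prime) (hp5 : 5 ≤ p)
    (hch : ¬ Cfsg.IsPOmegaPlusChar p S) (hAA : AAHyp.{0} p) : MRow p S := by
  obtain ⟨F, _, _, m, hm, ⟨e⟩⟩ := hS
  have := Fact.mk hp
  have hpF : (p : F) ≠ 0 := cast_ne hp (by
    rintro ⟨hF⟩
    exact hch ⟨F, inferInstance, inferInstance, hF, m, hm, ⟨e⟩⟩)
  have hG := AutOrth.Main.good_plus (F := F) (m := m) (by omega)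
  have : Nonempty (Fin m ⊕ Fin m) := ⟨.inl ⟨0, by omega⟩⟩
  refine MRow.congr e ?_
  have hind : ∀ c : MulAut (Cfsg.POmega F (Cfsg.quadFormPlus m F)), orderOf c = p →
      ∃ y, H903.SylSemi.SemiO F (Cfsg.quadFormPlus m F) y ∧
      H903.SylSemi.Ind (H152.MeetOmega.proj (Cfsg.quadFormPlus m F)) (H152.MeetOmega.rho (Cfsg.quadFormPlus m F))
        y c := by
    intro c hc
    refine H152.MeetOmega.gamma_plus hp5 hm (P := Subgroup.zpowers c) ?_ c (Subgroup.mem_zpowers c)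
    exact IsPGroup.of_card (n := 1) (by rw [Nat.card_zpowers, hc, pow_one])
  rw [← coe_plusForm] at hind ⊢
  exact mrow_good hG (by simp only [Fintype.card_sum, Fintype.card_fin]; omega) hAA hp hp5 hpF hind

/-- **The middle row for `PΩ⁻_{2m}(q)`**, cross characteristic. -/
theorem pomegaMinus_mrow {S : Type*} [Group S] (hS : Cfsg.IsPOmegaMinus S) {p : ℕ} (hp : p.Prime) (hp5 : 5 ≤ p)
    (hch : ¬ Cfsg.IsPOmegaMinusChar p S) (hAA : AAHyp.{0} p) : MRow p S := by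
  obtain ⟨F, _, _, m, a, b, hm, hab, ⟨e⟩⟩ := hS
  have hpF : (p : F) ≠ 0 := cast_ne hp (by
    rintro ⟨hF⟩
    exact hch ⟨F, inferInstance, inferInstance, hF, m, a, b, hm, hab, ⟨e⟩⟩)
  have hG := AutOrth.Main.good_minus (F := F) (m := m - 1) (by omega) hab
  refine MRow.congr e ?_
  have hind : ∀ c : MulAut (Cfsg.POmega F (Cfsg.quadFormMinus (m - 1) F a b)), orderOf c = p →
      ∃ y, H903.SylSemi.SemiO F (Cfsg.quadFormMinus (m - 1) F a b) y ∧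
      H903.SylSemi.Ind (H152.MeetOmega.proj (Cfsg.quadFormMinus (m - 1) F a b))
        (H152.MeetOmega.rho (Cfsg.quadFormMinus (m - 1) F a b)) y c :=
    fun c _ => H152.MeetOmega.gamma_minus (by omega) hab c
  rw [← coe_minusForm] at hind ⊢
  exact mrow_good hG (by simp only [Fintype.card_sum, Fintype.card_fin]; omega) hAA hp hp5 hpF hind

end Cfsg.Agent.H862.T5.ORow
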