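import Cfsg.Agent.H862.T5.LevPair
import Cfsg.Agent.GenExc.TwE
import Cfsg.Agent.H897.T5Sub

/-!
# `²E₆(q)` in its own characteristic: the inner pairs (helper862)

* `mpair_of_NT` : elements acting non-trivially on panels of the types `1`, `2` (either of them) form a middle pair,
  given the middle rows of the smaller simple groups (the section of the Levi subgroup of the nodes `1`, `2`);
* `mpair_inner` : all pairs of non-trivial `p`-elements.
-/

set_option autoImplicit false
set_option linter.unusedSectionVars false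

universe u

namespace Cfsg.Agent.H862.T5.E6Pair

open CoxeterSystem Cfsg.Agent.ChevalleyStructure.CoxeterGeom Cfsg.Agent.Tits.Roots Cfsg.Agent.Tits.Core
  Cfsg.Agent.Tits.RootComb Cfsg.Agent.Nodes.Comb Cfsg.Agent.Nodes.Reps Cfsg.Agent.Nodes.BNOf
  Cfsg.Agent.Nodes.RGDTwE6 Cfsg.Agent.Nodes.RGDLib Cfsg.Agent.Nodes.SubComb Cfsg.Agent.Nodes.Sub
  Cfsg.Agent.Nodes.Bruhat Cfsg.Agent.Nodes.StabComb
open Cfsg.Lie Cfsg.Agent.ChevalleyStructure Cfsg.Agent.GenExc Cfsg.Agent.GenExc.TwE
open Cfsg.Agent.UGT.U2.FOne.TwESix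
open Cfsg.Agent.H798.T5Geo Cfsg.Agent.H957.T5M Cfsg.Agent.H533.T5 Cfsg.Agent.H862.T5.LevPair

variable {K : Type} [Field K] [Fintype K] {q : ℕ} {φ : K →+* K} (hφ : ∀ x, φ x = x ^ q)
  (hK : Fintype.card K = q ^ 2) {W : Type*} [Group W] (cs : CoxeterSystem CoxeterMatrix.F₄ W)

include hK in
theorem frob_two (t : K) : (t ^ q) ^ q = t := by
  rw [← pow_mul, ← pow_two, ← hK]
  exact FiniteField.pow_card t

include hK in
theorem le_q {p : ℕ} [Fact p.Prime] [CharP K p] (hp5 : 5 ≤ p) : 5 ≤ q := by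
  have h1 : p ∣ q := by
    have h2 : p ∣ Fintype.card K := by
      obtain ⟨k, -, hk⟩ := FiniteField.card K p
      rw [hk]
      exact dvd_pow_self p k.ne_zero
    rw [hK] at h2
    exact (Fact.out : p.Prime).dvd_of_dvd_pow h2
  have h3 : 0 < q := by
    rcases Nat.eq_zero_or_pos q with h4 | h4
    · rw [h4] at hK
      exact absurd hK Fintype.card_ne_zero
    · exact h4
  exact hp5.trans (Nat.le_of_dvd h3 h1)

include hφ hK in
/-- **Pairs of elements acting on panels of the middle types**, `p ≥ 5`. -/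
theorem mpair_of_NT {p : ℕ} [Fact p.Prime] [CharP K p] (hp5 : 5 ≤ p)
    (hlt : ∀ (L : Type u) [Group L] [Finite L], IsSimpleGroup L → ¬ IsMulCommutative L →
      Nat.card L < Nat.card ↥(twistedE6 K q) → MRow p L)
    {c d : ↥(twistedE6 K q)} {i j : Fin 2} (hc : NT cs isCartan (X φ q) c (f2 i))
    (hd : NT cs isCartan (X φ q) d (f2 j)) : MPair p (⊤ : Subgroup ↥(twistedE6 K q)) c d := by
  have hqq := frob_two hK
  have hW : Finite W := Cfsg.Agent.KFacts.TwESix.Comb.finiteW cs
  have hq3 : 3 ≤ q := by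
    have := le_q hK hp5
    omega
  have R := rgd cs hφ hqq p
  refine mpair_of_levi f2 R (nn_mem_HL hφ hqq cs f2) sub2.conn' (fun a ha b hb => comm_T ha hb)
    (perf hφ hqq sub2 cs hq3 hK perf2) ?_ hc hd
  have hqs := sub2.isQuasisimple hφ hqq cs p hq3 hK perf2
  have hcard := card_lt f2 R (k := 0) (by decide)
  set S := ↥(HL cs isCartan (X φ q) f2) ⧸ Subgroup.center ↥(HL cs isCartan (X φ q) f2) with hS
  have hs : IsSimpleGroup S := hqs.2
  have hna : ¬ IsMulCommutative S := by
    intro hcomm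
    have h2 : commutator S = ⊥ := by
      rw [commutator_def, Subgroup.commutator_eq_bot_iff_le_centralizer]
      intro x _
      rw [Subgroup.mem_centralizer_iff]
      intro y _
      exact hcomm.is_comm.comm y x
    have h3 : commutator S = ⊤ := by
      have h4 : commutator ↥(HL cs isCartan (X φ q) f2) = ⊤ := hqs.1.commutator_eq_top
      have h5 := congrArg (Subgroup.map (QuotientGroup.mk' (Subgroup.center ↥(HL cs isCartan (X φ q) f2)))) h4
      rw [map_commutator_eq, MonoidHom.range_eq_top.2 (QuotientGroup.mk'_surjective _),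
        Subgroup.map_top_of_surjective _ (QuotientGroup.mk'_surjective _)] at h5
      exact h5
    rw [h2] at h3
    exact bot_ne_top h3
  have e : ULift.{u} S ≃* S := MulEquiv.ulift
  have hsu : IsSimpleGroup (ULift.{u} S) := e.isSimpleGroup
  refine Cfsg.Agent.H897.T5Sub.MRow.congr e (hlt (ULift.{u} S) hsu ?_ ?_)
  · intro h1
    apply hna
    exact ⟨⟨fun a b => by
      have := h1.is_comm.comm (e.symm a) (e.symm b)
      rw [← map_mul, ← map_mul] at this
      exact e.symm.injective this⟩⟩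
  · rw [Nat.card_congr e.toEquiv]
    exact hcard

include hφ hK in
/-- **All pairs of non-trivial `p`-elements**, `p ≥ 5`. -/
theorem mpair_inner {p : ℕ} [Fact p.Prime] [CharP K p] (hp5 : 5 ≤ p) (hs : IsSimpleGroup ↥(twistedE6 K q))
    (hlt : ∀ (L : Type u) [Group L] [Finite L], IsSimpleGroup L → ¬ IsMulCommutative L →
      Nat.card L < Nat.card ↥(twistedE6 K q) → MRow p L)
    {c d : ↥(twistedE6 K q)} (hc : IsPGroup p (Subgroup.zpowers c)) (hc1 : c ≠ 1)
    (hd : IsPGroup p (Subgroup.zpowers d)) (hd1 : d ≠ 1) : MPair p (⊤ : Subgroup ↥(twistedE6 K q)) c d := by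
  let cs : CoxeterSystem CoxeterMatrix.F₄ CoxeterMatrix.F₄.Group := CoxeterMatrix.F₄.toCoxeterSystem
  have hqq := frob_two hK
  have hW : Finite CoxeterMatrix.F₄.Group := Cfsg.Agent.KFacts.TwESix.Comb.finiteW cs
  have R := rgd cs hφ hqq p
  have hG := GG_top (cs := cs) φ hφ hqq
  have key : ∀ {c : ↥(twistedE6 K q)}, IsPGroup p (Subgroup.zpowers c) → c ≠ 1 →
      ∃ i : Fin 2, NT cs isCartan (X φ q) c (f2 i) := by
    intro c hc hc1
    obtain ⟨a, ha⟩ := exists_NT R hG hc hc1
    fin_cases a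
    · exact ⟨0, Cfsg.Agent.H798.T5Root.NT.of_three R (a := 1) (b := 0) (by decide) ha⟩
    · exact ⟨0, ha⟩
    · exact ⟨1, ha⟩
    · exact ⟨1, Cfsg.Agent.H798.T5Root.NT.of_three R (a := 2) (b := 3) (by decide) ha⟩
  obtain ⟨i, hi⟩ := key hc hc1
  obtain ⟨j, hj⟩ := key hd hd1
  exact mpair_of_NT hφ hK cs hp5 hlt hi hj

end Cfsg.Agent.H862.T5.E6Pair
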