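import Cfsg.Agent.H862.T5.OFrame
import Cfsg.Agent.H957.T5Main
import Cfsg.Agent.LieClassical.OrthFourPlus

/-!
# The four-dimensional plus type space `(M₂(F), det)` (T5)

`TR z c` : `z X = c(X) B`, `c` applied to the columns.  Two maps `x`, `y` with frames in `(M₂(F), det)` and
nonscalar column parts give the pair predicate (`mpq_core`).
-/

set_option autoImplicit false
set_option linter.unusedSectionVars false

namespace Cfsg.Agent.H862.T5.OPlusFour

open QuadraticMap Module Cfsg.Agent.LieClassical.OrthCore Cfsg.Agent.LieClassical.OrthTrans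
open Cfsg.Agent.H862.T5.OBase Cfsg.Agent.H862.T5.OFrame
open Cfsg.Agent.H957.T5V Cfsg.Agent.H957.T5M
open scoped Matrix MatrixGroups

variable {F V : Type*} [Field F] [AddCommGroup V] [Module F V] {Q : QuadraticForm F V}

/-- two by two matrices -/
abbrev M2 (F : Type*) := Matrix (Fin 2) (Fin 2) F

/-- the determinant -/
def detQ (F : Type*) [Field F] : QuadraticForm F (M2 F) :=
  QuadraticMap.linMulLin (Matrix.entryLinearMap F F 0 0) (Matrix.entryLinearMap F F 1 1) -
    QuadraticMap.linMulLin (Matrix.entryLinearMap F F 0 1) (Matrix.entryLinearMap F F 1 0)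

theorem detQ_apply (X : M2 F) : detQ F X = X 0 0 * X 1 1 - X 0 1 * X 1 0 := rfl

theorem detQ_eq_det (X : M2 F) : detQ F X = X.det := by
  rw [detQ_apply, Matrix.det_fin_two]

theorem polar_detQ (X Y : M2 F) :
    polar (detQ F) X Y = X 0 0 * Y 1 1 + Y 0 0 * X 1 1 - X 0 1 * Y 1 0 - Y 0 1 * X 1 0 := by
  rw [polar, detQ_apply, detQ_apply, detQ_apply]
  simp only [Matrix.add_apply]
  ring

theorem nondeg_detQ : Nondeg (detQ F) := by
  intro X hX
  have h00 := hX !![0, 0; 0, 1]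
  have h01 := hX !![0, 0; 1, 0]
  have h10 := hX !![0, 1; 0, 0]
  have h11 := hX !![1, 0; 0, 0]
  rw [polar_detQ] at h00 h01 h10 h11
  simp at h00 h01 h10 h11
  ext i k
  fin_cases i <;> fin_cases k <;> simp [h00, h01, h10, h11]

/-- apply `c` to the columns -/
def cols (c : (Fin 2 → F) → (Fin 2 → F)) (X : M2 F) : M2 F := Matrix.of fun i k => c (fun l => X l k) i

theorem cols_apply (c : (Fin 2 → F) → (Fin 2 → F)) (X : M2 F) (i k : Fin 2) :
    cols c X i k = c (fun l => X l k) i := rfl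

theorem cols_mul {τ : F ≃+* F} {c : Equiv.Perm (Fin 2 → F)} (hc : Semi τ c) (X B : M2 F) :
    cols c (X * B) = cols c X * B.map τ := by
  ext i k
  have e : (fun l => (X * B) l k) = B 0 k • (fun l => X l 0) + B 1 k • (fun l => X l 1) := by
    funext l
    rw [Matrix.mul_apply, Fin.sum_univ_two]
    simp only [Pi.add_apply, Pi.smul_apply, smul_eq_mul]
    ring
  rw [cols_apply, e, hc.add, hc.smul, hc.smul, Matrix.mul_apply, Fin.sum_univ_two]
  simp only [Pi.add_apply, Pi.smul_apply, smul_eq_mul, Matrix.map_apply, cols_apply]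
  ring

/-- `z X = c(X) B` -/
def TR (z : Equiv.Perm (M2 F)) (c : Equiv.Perm (Fin 2 → F)) : Prop := ∃ B : M2 F, ∀ X, z X = cols c X * B

theorem TR.one : TR (1 : Equiv.Perm (M2 F)) 1 := ⟨1, fun X => by
  rw [mul_one]
  rfl⟩

theorem TR.mul {τ : F ≃+* F} {z w : Equiv.Perm (M2 F)} {c d : Equiv.Perm (Fin 2 → F)} (hc : Semi τ c)
    (h : TR z c) (h' : TR w d) : TR (z * w) (c * d) := by
  obtain ⟨B, hB⟩ := h
  obtain ⟨B', hB'⟩ := h'
  refine ⟨B'.map τ * B, fun X => ?_⟩
  rw [Equiv.Perm.mul_apply, hB, hB', cols_mul hc, Matrix.mul_assoc]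
  rfl

theorem TR.pow {τ : F ≃+* F} {z : Equiv.Perm (M2 F)} {c : Equiv.Perm (Fin 2 → F)} (hc : Semi τ c)
    (h : TR z c) (n : ℕ) : TR (z ^ n) (c ^ n) := by
  induction n with
  | zero => exact TR.one
  | succ n ih => rw [pow_succ', pow_succ']; exact h.mul hc ih

theorem TR.isScal {τ : F ≃+* F} {z : Equiv.Perm (M2 F)} {c : Equiv.Perm (Fin 2 → F)} (hc : Semi τ c) (h : TR z c)
    (hz : IsScal F z) : IsScal F c := by
  obtain ⟨B, hB⟩ := h
  obtain ⟨a, ha⟩ := hz
  have key : ∀ v : Fin 2 → F, ∀ i, c v i * B 0 0 = a * v i := by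
    intro v i
    have h1 := congrFun (congrFun ((ha (Matrix.of fun i k => if k = 0 then v i else 0)).symm.trans
      (hB (Matrix.of fun i k => if k = 0 then v i else 0))) i) 0
    rw [Matrix.mul_apply, Fin.sum_univ_two, Matrix.smul_apply, cols_apply, cols_apply] at h1
    have h2 : (fun l => (Matrix.of fun i k => if k = 0 then v i else 0 : M2 F) l 1) = 0 := by
      funext l
      simp
    have h3 : (fun l => (Matrix.of fun i k => if k = 0 then v i else 0 : M2 F) l 0) = v := by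
      funext l
      simp
    rw [h2, h3, hc.zero, Pi.zero_apply, zero_mul, add_zero, Matrix.of_apply, if_pos rfl, smul_eq_mul] at h1
    exact h1.symm
  have hB0 : B 0 0 ≠ 0 := by
    intro h0
    have ha0 : a = 0 := by
      have := key 1 0
      rw [h0, mul_zero, Pi.one_apply, mul_one] at this
      exact this.symm
    have h1 : z 1 = z 0 := by rw [ha, ha, ha0, zero_smul, zero_smul]
    exact one_ne_zero (z.injective h1)
  refine ⟨a / B 0 0, fun v => ?_⟩
  funext i
  rw [Pi.smul_apply, smul_eq_mul, div_mul_eq_mul_div, eq_div_iff hB0]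
  exact key v i

/-- the map `g` on the columns -/
def lm (g : (Fin 2 → F) ≃ₗ[F] (Fin 2 → F)) : M2 F ≃ₗ[F] M2 F where
  toFun X := cols g X
  invFun X := cols g.symm X
  map_add' X Y := by
    ext i k
    rw [Matrix.add_apply, cols_apply, cols_apply, cols_apply]
    have : (fun l => (X + Y) l k) = (fun l => X l k) + (fun l => Y l k) := rfl
    rw [this, map_add, Pi.add_apply]
  map_smul' a X := by
    ext i k
    rw [Matrix.smul_apply, cols_apply, cols_apply]
    have : (fun l => (a • X) l k) = a • (fun l => X l k) := rfl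
    rw [this, map_smul, Pi.smul_apply]
    rfl
  left_inv X := by
    ext i k
    show g.symm (g (fun l => X l k)) i = X i k
    rw [LinearEquiv.symm_apply_apply]
  right_inv X := by
    ext i k
    show g (g.symm (fun l => X l k)) i = X i k
    rw [LinearEquiv.apply_symm_apply]

theorem lm_apply (g : (Fin 2 → F) ≃ₗ[F] (Fin 2 → F)) (X : M2 F) : lm g X = cols g X := rfl

theorem lm_eq_mul (g : (Fin 2 → F) ≃ₗ[F] (Fin 2 → F)) (X : M2 F) :
    lm g X = LinearMap.toMatrix' (g : (Fin 2 → F) →ₗ[F] (Fin 2 → F)) * X := by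
  ext i k
  rw [lm_apply, cols_apply]
  have h1 : g (fun l => X l k) = LinearMap.toMatrix' (g : (Fin 2 → F) →ₗ[F] (Fin 2 → F)) *ᵥ (fun l => X l k) := by
    rw [LinearMap.toMatrix'_mulVec]
    rfl
  rw [h1]
  rfl

theorem tr_lm (g : (Fin 2 → F) ≃ₗ[F] (Fin 2 → F)) : TR (toA (lm g)) (toA g) := ⟨1, fun X => by
  rw [mul_one]
  rfl⟩

theorem tr_lm_inv (g : (Fin 2 → F) ≃ₗ[F] (Fin 2 → F)) : TR (toA (lm g))⁻¹ (toA g)⁻¹ := ⟨1, fun X => by
  rw [mul_one]
  rfl⟩

/-- left multiplication by a matrix of determinant one -/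
def lmul (A : SL(2, F)) : M2 F ≃ₗ[F] M2 F where
  toFun X := (A : M2 F) * X
  invFun X := ((A⁻¹ : SL(2, F)) : M2 F) * X
  map_add' X Y := mul_add _ _ _
  map_smul' a X := Matrix.mul_smul _ _ _
  left_inv X := by
    show ((A⁻¹ : SL(2, F)) : M2 F) * ((A : M2 F) * X) = X
    rw [← Matrix.mul_assoc, ← Matrix.SpecialLinearGroup.coe_mul, inv_mul_cancel, Matrix.SpecialLinearGroup.coe_one,
      Matrix.one_mul]
  right_inv X := by
    show (A : M2 F) * (((A⁻¹ : SL(2, F)) : M2 F) * X) = X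
    rw [← Matrix.mul_assoc, ← Matrix.SpecialLinearGroup.coe_mul, mul_inv_cancel, Matrix.SpecialLinearGroup.coe_one,
      Matrix.one_mul]

theorem lmul_apply (A : SL(2, F)) (X : M2 F) : lmul A X = (A : M2 F) * X := rfl

variable {j : M2 F →ₗ[F] V}

theorem lift_lmul (h : Emb Q (detQ F) j) (A : SL(2, F)) : LiftE Q j (lmul A) := by
  refine Matrix.SL2.transvection_induction (fun A => LiftE Q j (lmul A)) ?_ ?_ A
  · intro i k hik c
    have e01 : ∀ X : M2 F, (1 + Matrix.single (0 : Fin 2) 1 c) * X = X + polar (detQ F) !![1, 0; 0, 0] X • !![0, c; 0, 0] -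
        polar (detQ F) !![0, c; 0, 0] X • !![1, 0; 0, 0] -
        (detQ F !![0, c; 0, 0] * polar (detQ F) !![1, 0; 0, 0] X) • !![1, 0; 0, 0] := by
      intro X
      rw [polar_detQ, polar_detQ, detQ_apply]
      ext i k
      fin_cases i <;> fin_cases k <;>
        simp [Matrix.mul_apply, Fin.sum_univ_two, Matrix.single_apply] <;> ring
    have e10 : ∀ X : M2 F, (1 + Matrix.single (1 : Fin 2) 0 c) * X = X + polar (detQ F) !![0, 0; 0, 1] X • !![0, 0; c, 0] -
        polar (detQ F) !![0, 0; c, 0] X • !![0, 0; 0, 1] -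
        (detQ F !![0, 0; c, 0] * polar (detQ F) !![0, 0; 0, 1] X) • !![0, 0; 0, 1] := by
      intro X
      rw [polar_detQ, polar_detQ, detQ_apply]
      ext i k
      fin_cases i <;> fin_cases k <;>
        simp [Matrix.mul_apply, Fin.sum_univ_two, Matrix.single_apply] <;> ring
    have hik' : (i = 0 ∧ k = 1) ∨ (i = 1 ∧ k = 0) := by
      fin_cases i <;> fin_cases k <;> simp_all
    rcases hik' with ⟨rfl, rfl⟩ | ⟨rfl, rfl⟩
    · have hu : detQ F !![1, 0; 0, 0] = 0 := by rw [detQ_apply]; simp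
      have hw : polar (detQ F) !![1, 0; 0, 0] !![0, c; 0, 0] = 0 := by rw [polar_detQ]; simp
      have e : lmul (Matrix.SpecialLinearGroup.transvection hik c) = siegel (detQ F) _ _ hu hw := by
        ext1 X
        rw [lmul_apply, siegel_apply, ← e01, Matrix.SpecialLinearGroup.transvection_coe]
      rw [e]
      exact h.liftE_siegel hu hw
    · have hu : detQ F !![0, 0; 0, 1] = 0 := by rw [detQ_apply]; simp
      have hw : polar (detQ F) !![0, 0; 0, 1] !![0, 0; c, 0] = 0 := by rw [polar_detQ]; simp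
      have e : lmul (Matrix.SpecialLinearGroup.transvection hik c) = siegel (detQ F) _ _ hu hw := by
        ext1 X
        rw [lmul_apply, siegel_apply, ← e10, Matrix.SpecialLinearGroup.transvection_coe]
      rw [e]
      exact h.liftE_siegel hu hw
  · intro A B hA hB
    have : lmul (A * B) = lmul A * lmul B := by
      ext1 X
      rw [LinearEquiv.mul_apply, lmul_apply, lmul_apply, lmul_apply, Matrix.SpecialLinearGroup.coe_mul,
        Matrix.mul_assoc]
    rw [this]
    exact hA.mul hB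

theorem lift_lm (h : Emb Q (detQ F) j) {g : (Fin 2 → F) ≃ₗ[F] (Fin 2 → F)} (hg : LinearEquiv.det g = 1) :
    LiftE Q j (lm g) := by
  have hd : (LinearMap.toMatrix' (g : (Fin 2 → F) →ₗ[F] (Fin 2 → F))).det = 1 := by
    rw [LinearMap.det_toMatrix', ← LinearEquiv.coe_det, hg, Units.val_one]
  let A : SL(2, F) := ⟨_, hd⟩
  have e : lm g = lmul A := by
    ext1 X
    rw [lm_eq_mul, lmul_apply]
  rw [e]
  exact lift_lmul h _

/-- **The core computation for the plus type four-space.** -/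
theorem mpq_core [Finite F] {p : ℕ} (hp : p.Prime) (hp5 : 5 ≤ p) (hpF : (p : F) ≠ 0) (he : Emb Q (detQ F) j)
    {x y : Equiv.Perm V} {x' y' : Equiv.Perm (M2 F)} {c d : Equiv.Perm (Fin 2 → F)} {σ τ : F ≃+* F}
    (hx : Cov j x x') (hy : Cov j y y') (hc : Semi σ c) (hd : Semi τ d) (hxc : TR x' c) (hyd : TR y' d)
    (hxp : IsScal F (x ^ p)) (hyp : IsScal F (y ^ p)) (hcn : ¬ IsScal F c) (hdn : ¬ IsScal F d) : MPQ Q p x y := by
  have hj := he.injective nondeg_detQ
  have hcp : IsScal F (c ^ p) := (hxc.pow hc p).isScal (hc.pow p) ((hx.pow p).isScal hj hxp)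
  have hdp : IsScal F (d ^ p) := (hyd.pow hd p).isScal (hd.pow p) ((hy.pow p).isScal hj hyp)
  obtain ⟨g, hg, i, k, h⟩ := H957.T5Main.mp_main (V := Fin 2 → F) hp hp5
    (by rw [Module.finrank_fintype_fun_eq_card, Fintype.card_fin]) hpF hc hcp hcn hd hdp hdn
  refine mpq_of_cov hj hx hy (lift_lm he hg) (i := i) (k := k) fun n hn => h n ?_
  have h1 : TR (toA (lm g) * y' * (toA (lm g))⁻¹) (toA g * d * (toA g)⁻¹) :=
    ((tr_lm g).mul (semi_toA g) hyd).mul ((semi_toA g).mul hd) (tr_lm_inv g)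
  have hs : Semi τ (toA g * d * (toA g)⁻¹) := hd.conj g
  exact (((hxc.pow hc i).mul (hc.pow i) (h1.pow hs k)).pow ((hc.pow i).mul (hs.pow k)) _).isScal
    (((hc.pow i).mul (hs.pow k)).pow _) hn

/-! ### maps with a good four-space -/

/-- `x` has a frame in `(M₂(F), det)` with nonscalar column part -/
def Fr4 (Q : QuadraticForm F V) (x : Equiv.Perm V) : Prop :=
  ∃ (j : M2 F →ₗ[F] V) (x' : Equiv.Perm (M2 F)) (σ : F ≃+* F) (c : Equiv.Perm (Fin 2 → F)),
    Emb Q (detQ F) j ∧ Cov j x x' ∧ Semi σ c ∧ TR x' c ∧ ¬ IsScal F c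

theorem finrank_M2 : finrank F (M2 F) = 4 := by
  rw [Module.finrank_matrix, Module.finrank_self, Fintype.card_fin]

theorem mpq_of_fr4 [Finite F] [FiniteDimensional F V] (hG : Good Q) (h7 : 7 ≤ finrank F V) {p : ℕ} (hp : p.Prime)
    (hp5 : 5 ≤ p) (hpF : (p : F) ≠ 0) {x y : Equiv.Perm V} (hx : Fr4 Q x) (hy : Fr4 Q y)
    (hxp : IsScal F (x ^ p)) (hyp : IsScal F (y ^ p)) : MPQ Q p x y := by
  obtain ⟨j₁, x', σ, c, h₁, hx', hc, hxc, hcn⟩ := hx
  obtain ⟨j₂, y', τ, d, h₂, hy', hd, hyd, hdn⟩ := hy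
  obtain ⟨T, hT, hTj⟩ := exists_common hG nondeg_detQ h₁ h₂ (by rw [finrank_M2]; omega)
  refine MPQ.conj_right hT ?_
  have hj : T.toLinearMap ∘ₗ j₂ = j₁ := LinearMap.ext hTj
  have hy'' : Cov j₁ (toA T * y * (toA T)⁻¹) y' := by
    rw [← hj]
    exact hy'.left T
  refine mpq_core hp hp5 hpF h₁ hx' hy'' hc hd hxc hyd hxp ?_ hcn hdn
  rw [conj_pow]
  exact isScal_conj (semi_toA T) hyp

/-- replace `x` by a scalar multiple -/
theorem Fr4.of_smul {x : Equiv.Perm V} (s : Fˣ) (h : Fr4 Q (smulA s x)) : Fr4 Q x := by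
  obtain ⟨j, x', σ, c, hj, hx', hc, ⟨B, hB⟩, hcn⟩ := h
  have h1 : ∀ u, x (j u) = j ((s⁻¹ : Fˣ) • x' u) := by
    intro u
    have := hx' u
    rw [smulA_apply] at this
    rw [Units.smul_def, map_smul, ← this, smul_smul, Units.inv_mul, one_smul]
  refine ⟨j, smulA s⁻¹ x', σ, smulA s⁻¹ c, hj, h1, hc.smulA _, ⟨B, fun X => ?_⟩, fun hs => hcn ?_⟩
  · rw [smulA_apply, hB]
    have : cols (smulA s⁻¹ c) X = ((s⁻¹ : Fˣ) : F) • cols c X := by
      ext i k
      rfl
    rw [this, Matrix.smul_mul]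
  · exact (scl_smulA s⁻¹ c).isScal_iff.1 hs

end Cfsg.Agent.H862.T5.OPlusFour
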