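import Mathlib
import Cfsg.Agent.GenExc.LeviQs
import Cfsg.Agent.H53.HC.RgdLevi
import Cfsg.Agent.H798.T5Root
import Cfsg.Agent.H957.T5M

/-!
# Own characteristic pairs through sections of Levi subgroups (helper862)

`f : J ↪ I` a connected subdiagram, `HL f = ⟨X x | x supported on J⟩` perfect, `T` commutative:
* `mpair_of_levi`, `spair_of_levi` : `NT c (f i)`, `NT d (f j)` and the middle (strong) row of `HL f / Z` give
  `MPair p ⊤ c d` (`SPair p ⊤ c d`);
* `card_lt` : `|HL f / Z| < |Y|` if the subdiagram is proper.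
-/

set_option autoImplicit false
set_option linter.unusedSectionVars false

namespace Cfsg.Agent.H862.T5.LevPair

open CoxeterSystem Cfsg.Agent.ChevalleyStructure.CoxeterGeom Cfsg.Agent.Tits.Roots Cfsg.Agent.Tits.Core
  Cfsg.Agent.Tits.RootComb Cfsg.Agent.Tits.Exchange Cfsg.Agent.Nodes.Reps Cfsg.Agent.Nodes.BNOf
  Cfsg.Agent.Nodes.StabComb Cfsg.Agent.Nodes.Bruhat Cfsg.Agent.Nodes.OppDec Cfsg.Agent.Nodes.LeviDec
  Cfsg.Agent.Nodes.RGDLib Cfsg.Agent.Nodes.SubComb Cfsg.Agent.Nodes.Sub Cfsg.Agent.GenExc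
  Cfsg.Agent.H798.T5Geo Cfsg.Agent.H957.T5M Cfsg.Agent.H533.T5

variable {I W Y : Type*} [Fintype I] [DecidableEq I] [Group W] [Group Y] {M : CoxeterMatrix I}
  {cs : CoxeterSystem M W} {A : I → I → ℤ} {h : IsCartan M A} {p : ℕ} {T : Subgroup Y} {n : I → Y}
  {X : (I → ℤ) → Subgroup Y} {J : Type*} [Fintype J] [DecidableEq J] (f : J ↪ I)

theorem LR_eq (cs : CoxeterSystem M W) (h : IsCartan M A) : LR cs h f = RootsJ cs h (Set.range f) := by
  ext x
  constructor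
  · rintro ⟨h1, h2⟩
    exact ⟨h1, fun k hk => h2 k fun j hj => hk ⟨j, hj⟩⟩
  · rintro ⟨h1, h2⟩
    refine ⟨h1, fun k hk => h2 k ?_⟩
    rintro ⟨j, hj⟩
    exact hk j hj

theorem HL_le_LJ : HL cs h X f ≤ LJ cs h T X (Set.range f) := by
  unfold HL
  rw [LR_eq]
  exact le_sup_right

variable (R : RGD cs h p T n X)

include R in
theorem HL_le_norm : HL cs h X f ≤ Subgroup.normalizer (VJ cs h X (Set.range f) : Set Y) :=
  (HL_le_LJ f).trans (LJ_le_normalizer_VJ R _)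

/-- `⟨X x | x ∈ J⟩ V_J` -/
def OL (cs : CoxeterSystem M W) (h : IsCartan M A) (X : (I → ℤ) → Subgroup Y) (f : J ↪ I) : Subgroup Y :=
  HL cs h X f ⊔ VJ cs h X (Set.range f)

theorem OL_le_PJ : OL cs h X f ≤ PJ cs h T X (Set.range f) :=
  sup_le ((HL_le_LJ f).trans LJ_le_PJ) VJ_le_PJ

theorem U_le_OL : RGD.Sup X (RGD.Pos cs h) ≤ OL cs h X f := by
  refine RGD.Sup_le fun x hx => ?_
  rcases mem_PosJ_or_NotJ (Set.range f) hx.1 hx.2 with h1 | h1
  · refine le_trans (X_le_HL f ?_) le_sup_left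
    rw [LR_eq]
    exact PosJ_subset _ h1
  · exact (RGD.le_Sup (S := NotJ cs h (Set.range f)) h1).trans le_sup_right

include R in
theorem mem_OL {o : Y} : o ∈ OL cs h X f ↔ ∃ l ∈ HL cs h X f, ∃ v ∈ VJ cs h X (Set.range f), o = l * v := by
  constructor
  · intro ho
    have h2 : o ∈ ((HL cs h X f ⊔ VJ cs h X (Set.range f) : Subgroup Y) : Set Y) := ho
    rw [Subgroup.coe_mul_of_left_le_normalizer_right _ _ (HL_le_norm f R)] at h2
    obtain ⟨l, hl, v, hv, rfl⟩ := h2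
    exact ⟨l, hl, v, hv, rfl⟩
  · rintro ⟨l, hl, v, hv, rfl⟩
    exact mul_mem (Subgroup.mem_sup_left hl) (Subgroup.mem_sup_right hv)

include R in
/-- The projection of `OL` onto `HL`. -/
theorem exists_proj [Finite W] : ∃ π : ↥(OL cs h X f) →* ↥(HL cs h X f),
    Function.Surjective π ∧
      ∀ (l : Y) (hl : l ∈ HL cs h X f) (v : Y) (hv : v ∈ VJ cs h X (Set.range f)) (ho : l * v ∈ OL cs h X f),
        π ⟨l * v, ho⟩ = ⟨l, hl⟩ := by
  obtain ⟨π, h1, h2⟩ := Cfsg.Agent.H53.HC.exists_projL R (Set.range f)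
  have key : ∀ (l : Y) (hl : l ∈ HL cs h X f) (v : Y) (hv : v ∈ VJ cs h X (Set.range f))
      (ho : l * v ∈ OL cs h X f), (π ⟨l * v, OL_le_PJ f ho⟩ : Y) = l := by
    intro l hl v hv ho
    have e : (⟨l * v, OL_le_PJ f ho⟩ : ↥(PJ cs h T X (Set.range f))) =
        ⟨l, LJ_le_PJ (HL_le_LJ f hl)⟩ * ⟨v, VJ_le_PJ hv⟩ := rfl
    rw [e, map_mul, h1 l (HL_le_LJ f hl), h2 v hv, mul_one]
  have hmem : ∀ o : ↥(OL cs h X f), (π ⟨o, OL_le_PJ f o.2⟩ : Y) ∈ HL cs h X f := by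
    rintro ⟨o, ho⟩
    obtain ⟨l, hl, v, hv, rfl⟩ := (mem_OL f R).1 ho
    rw [key l hl v hv ho]
    exact hl
  refine ⟨{ toFun := fun o => ⟨π ⟨o, OL_le_PJ f o.2⟩, hmem o⟩
            map_one' := ?_
            map_mul' := ?_ }, ?_, ?_⟩
  · apply Subtype.ext
    have e : (⟨((1 : ↥(OL cs h X f)) : Y), OL_le_PJ f (1 : ↥(OL cs h X f)).2⟩ : ↥(PJ cs h T X (Set.range f))) = 1 := rfl
    show ((π _ : ↥(LJ cs h T X (Set.range f))) : Y) = 1
    rw [e, map_one]; rfl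
  · intro a b
    apply Subtype.ext
    have e : (⟨((a * b : ↥(OL cs h X f)) : Y), OL_le_PJ f (a * b).2⟩ : ↥(PJ cs h T X (Set.range f))) =
      ⟨a, OL_le_PJ f a.2⟩ * ⟨b, OL_le_PJ f b.2⟩ := rfl
    show ((π _ : ↥(LJ cs h T X (Set.range f))) : Y) = _
    rw [e, map_mul]; rfl
  · rintro ⟨l, hl⟩
    have ho : l * 1 ∈ OL cs h X f := mul_mem (Subgroup.mem_sup_left hl) (one_mem _)
    refine ⟨⟨l * 1, ho⟩, Subtype.ext ?_⟩
    exact key l hl 1 (one_mem _) ho
  · intro l hl v hv ho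
    exact Subtype.ext (key l hl v hv ho)

include R in
/-- **The section** `HL f / Z`, acting on itself by conjugation. -/
theorem exists_section [Finite W] [Finite Y] [Nonempty J] [Fact p.Prime] (hn : ∀ j, n (f j) ∈ HL cs h X f)
    (hconn : ∀ S : Set J, S.Nonempty → S ≠ Set.univ → ∃ a ∈ S, ∃ b, b ∉ S ∧ M (f a) (f b) ≠ 2)
    (hT : ∀ a ∈ T, ∀ b ∈ T, a * b = b * a) (hperf : ∀ x ∈ LR cs h f, X x ≤ ⁅HL cs h X f, HL cs h X f⁆) :
    ∃ Φ : ↥(OL cs h X f) →* MulAut (↥(HL cs h X f) ⧸ Subgroup.center ↥(HL cs h X f)),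
      (MulAut.conj : (↥(HL cs h X f) ⧸ Subgroup.center ↥(HL cs h X f)) →* MulAut _).range ≤
        ((⊤ : Subgroup Y).subgroupOf (OL cs h X f)).map Φ ∧
      ∀ (c : Y) (hc : c ∈ RGD.Sup X (RGD.Pos cs h)) (i : J), c ∉ VJ cs h X {f i} → Φ ⟨c, U_le_OL f hc⟩ ≠ 1 := by
  have : Finite (leviMatrix f M).Group := finite_WL (cs := cs) (h := h) f
  have R' := rgd_HL f R hn
  have hZT := center_le_T R' (G1_HL_top f) hconn (solvable_T f hT) (perfect_HL f hperf)
  have hq : Cfsg.IsQuasisimple ↥(HL cs h X f) := isQuasisimple_HL f R hn hconn hT hperf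
  obtain ⟨π, hs, hπ⟩ := exists_proj f R
  set Z := Subgroup.center ↥(HL cs h X f) with hZ
  set S := ↥(HL cs h X f) ⧸ Z with hS
  have hsimp : IsSimpleGroup S := hq.2
  have hcen : Subgroup.center S = ⊥ := by
    rcases (inferInstance : (Subgroup.center S).Normal).eq_bot_or_eq_top with h1 | h1
    · exact h1
    · exfalso
      have h2 : commutator S = ⊥ := by
        rw [commutator_def, Subgroup.commutator_eq_bot_iff_le_centralizer]
        rw [← h1]
        exact Subgroup.center_le_centralizer _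
      have h3 : commutator S = ⊤ := by
        have h4 : commutator ↥(HL cs h X f) = ⊤ := perfect_HL f hperf
        have h5 := congrArg (Subgroup.map (QuotientGroup.mk' Z)) h4
        rw [map_commutator_eq, MonoidHom.range_eq_top.2 (QuotientGroup.mk'_surjective Z),
          Subgroup.map_top_of_surjective _ (QuotientGroup.mk'_surjective Z)] at h5
        exact h5
      rw [h2] at h3
      exact bot_ne_top h3
  let Φ : ↥(OL cs h X f) →* MulAut S := (MulAut.conj : S →* MulAut S).comp ((QuotientGroup.mk' Z).comp π)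
  refine ⟨Φ, ?_, ?_⟩
  · rintro _ ⟨s, rfl⟩
    obtain ⟨x, rfl⟩ := QuotientGroup.mk'_surjective Z s
    obtain ⟨o, rfl⟩ := hs x
    exact ⟨o, by simp, rfl⟩
  · intro c hc1 i hc2
    obtain ⟨l, hl, v, hv, rfl⟩ := (mem_OL f R).1 (U_le_OL f hc1)
    have hp1 : IsPGroup p (Subgroup.zpowers (l * v)) := R.isPGroup_Upos.to_le (by
      rw [Subgroup.zpowers_le]; exact hc1)
    obtain ⟨m, hm⟩ := (IsPGroup.iff_orderOf.1 hp1) ⟨l * v, Subgroup.mem_zpowers _⟩
    rw [← Subgroup.orderOf_coe] at hm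
    change orderOf (l * v) = p ^ m at hm
    set o : ↥(OL cs h X f) := ⟨l * v, U_le_OL f hc1⟩ with ho
    have hoo : orderOf o = p ^ m := by rw [← Subgroup.orderOf_coe]; exact hm
    intro h1
    have h2 : (QuotientGroup.mk' Z) (π o) ∈ Subgroup.center S := by
      rw [Subgroup.mem_center_iff]
      intro s
      have h3 : (MulAut.conj ((QuotientGroup.mk' Z) (π o)) : MulAut S) s = s := by
        have h4 : MulAut.conj ((QuotientGroup.mk' Z) (π o)) = (1 : MulAut S) := h1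
        rw [h4]; rfl
      rw [MulAut.conj_apply, mul_inv_eq_iff_eq_mul] at h3
      exact h3.symm
    rw [hcen, Subgroup.mem_bot] at h2
    have h3 : π o ∈ Z := (QuotientGroup.eq_one_iff _).1 h2
    have h4 := hZT h3
    rw [Subgroup.mem_subgroupOf] at h4
    have h5 : π o = ⟨l, hl⟩ := hπ l hl v hv _
    have h6 : orderOf (π o) ∣ p ^ m := by rw [← hoo]; exact orderOf_map_dvd π o
    have h7 : orderOf (⟨((π o : ↥(HL cs h X f)) : Y), h4⟩ : T) ∣ Nat.card T := orderOf_dvd_natCard _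
    rw [← Subgroup.orderOf_coe] at h7
    change orderOf ((π o : ↥(HL cs h X f)) : Y) ∣ Nat.card T at h7
    rw [Subgroup.orderOf_coe] at h7
    have h8 : orderOf (π o) = 1 :=
      Nat.eq_one_of_dvd_coprimes (Nat.Coprime.pow_right m R.tcop) h7 h6
    rw [orderOf_eq_one_iff, h5] at h8
    have h9 : l = 1 := congrArg Subtype.val h8
    apply hc2
    rw [h9, one_mul]
    exact H798.T5Root.V_anti (by rintro _ rfl; exact ⟨i, rfl⟩) hv

include R in
/-- **The section argument.** -/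
theorem mpair_of_levi [Finite W] [Finite Y] [Nonempty J] [Fact p.Prime] (hn : ∀ j, n (f j) ∈ HL cs h X f)
    (hconn : ∀ S : Set J, S.Nonempty → S ≠ Set.univ → ∃ a ∈ S, ∃ b, b ∉ S ∧ M (f a) (f b) ≠ 2)
    (hT : ∀ a ∈ T, ∀ b ∈ T, a * b = b * a) (hperf : ∀ x ∈ LR cs h f, X x ≤ ⁅HL cs h X f, HL cs h X f⁆)
    (hrow : MRow p (↥(HL cs h X f) ⧸ Subgroup.center ↥(HL cs h X f)))
    {c d : Y} {i j : J} (hc : NT cs h X c (f i)) (hd : NT cs h X d (f j)) : MPair p (⊤ : Subgroup Y) c d := by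
  obtain ⟨g, hc1, hc2⟩ := hc
  obtain ⟨g', hd1, hd2⟩ := hd
  refine MPair.conj_left (s := g) (Subgroup.mem_top _) (MPair.conj_right (s := g') (Subgroup.mem_top _) ?_)
  generalize g * c * g⁻¹ = c at hc1 hc2
  generalize g' * d * g'⁻¹ = d at hd1 hd2
  obtain ⟨Φ, hΦ, hne⟩ := exists_section f R hn hconn hT hperf
  have key : ∀ (c : Y) (hc1 : c ∈ RGD.Sup X (RGD.Pos cs h)) (i : J), c ∉ VJ cs h X {f i} →
      ∃ a : ℕ, orderOf (Φ (⟨c, U_le_OL f hc1⟩ ^ a)) = p := by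
    intro c hc1 i hc2
    have hp1 : IsPGroup p (Subgroup.zpowers c) := R.isPGroup_Upos.to_le (by
      rw [Subgroup.zpowers_le]; exact hc1)
    obtain ⟨m, hm⟩ := (IsPGroup.iff_orderOf.1 hp1) ⟨c, Subgroup.mem_zpowers _⟩
    rw [← Subgroup.orderOf_coe] at hm
    change orderOf c = p ^ m at hm
    set o : ↥(OL cs h X f) := ⟨c, U_le_OL f hc1⟩ with ho
    have hoo : orderOf o = p ^ m := by rw [← Subgroup.orderOf_coe]; exact hm
    have hne := hne c hc1 i hc2
    have h1 : orderOf (Φ o) ∣ p ^ m := by rw [← hoo]; exact orderOf_map_dvd Φ o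
    obtain ⟨k, -, hk⟩ := (Nat.dvd_prime_pow (Fact.out : p.Prime)).1 h1
    have hk1 : 1 ≤ k := by
      rcases Nat.eq_zero_or_pos k with h2 | h2
      · rw [h2, pow_zero, orderOf_eq_one_iff] at hk
        exact absurd hk hne
      · exact h2
    refine ⟨p ^ (k - 1), ?_⟩
    rw [map_pow, orderOf_pow' _ (pow_ne_zero _ (Fact.out : p.Prime).ne_zero), hk]
    rw [Nat.gcd_eq_right (pow_dvd_pow p (by omega)), Nat.pow_div (by omega) (Fact.out : p.Prime).pos]
    rw [show k - (k - 1) = 1 by omega, pow_one]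
  obtain ⟨a, ha⟩ := key c hc1 i hc2
  obtain ⟨b, hb⟩ := key d hd1 j hd2
  have h1 := hrow _ _ ha hb
  have h2 := MPair.of_section (M := OL cs h X f) (S := (⊤ : Subgroup Y)) Φ hΦ h1
  exact MPair.of_pow a b h2

include R in
/-- **The section argument**, strong pairs. -/
theorem spair_of_levi [Finite W] [Finite Y] [Nonempty J] [Fact p.Prime] (hn : ∀ j, n (f j) ∈ HL cs h X f)
    (hconn : ∀ S : Set J, S.Nonempty → S ≠ Set.univ → ∃ a ∈ S, ∃ b, b ∉ S ∧ M (f a) (f b) ≠ 2)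
    (hT : ∀ a ∈ T, ∀ b ∈ T, a * b = b * a) (hperf : ∀ x ∈ LR cs h f, X x ≤ ⁅HL cs h X f, HL cs h X f⁆)
    (hrow : SRow p (↥(HL cs h X f) ⧸ Subgroup.center ↥(HL cs h X f)))
    {c d : Y} (hcp : orderOf c = p) (hdp : orderOf d = p) {i j : J} (hc : NT cs h X c (f i))
    (hd : NT cs h X d (f j)) : SPair p (⊤ : Subgroup Y) c d := by
  have ho : ∀ g c : Y, orderOf (g * c * g⁻¹) = orderOf c := fun g c => by
    rw [← MulAut.conj_apply]
    exact MulEquiv.orderOf_eq (MulAut.conj g) c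
  obtain ⟨g, hc1, hc2⟩ := hc
  obtain ⟨g', hd1, hd2⟩ := hd
  refine SPair.conj_left (s := g) (Subgroup.mem_top _) (SPair.conj_right (s := g') (Subgroup.mem_top _) ?_)
  rw [← ho g c] at hcp
  rw [← ho g' d] at hdp
  generalize g * c * g⁻¹ = c at hc1 hc2 hcp
  generalize g' * d * g'⁻¹ = d at hd1 hd2 hdp
  obtain ⟨Φ, hΦ, hne⟩ := exists_section f R hn hconn hT hperf
  have key : ∀ (c : Y) (hc1 : c ∈ RGD.Sup X (RGD.Pos cs h)) (i : J), c ∉ VJ cs h X {f i} → orderOf c = p →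
      orderOf (Φ ⟨c, U_le_OL f hc1⟩) = p := by
    intro c hc1 i hc2 hcp
    have h1 : orderOf (Φ ⟨c, U_le_OL f hc1⟩) ∣ p := by
      have h2 := orderOf_map_dvd Φ (⟨c, U_le_OL f hc1⟩ : ↥(OL cs h X f))
      rwa [← Subgroup.orderOf_coe, hcp] at h2
    rcases (Nat.dvd_prime (Fact.out : p.Prime)).1 h1 with h2 | h2
    · exact absurd (orderOf_eq_one_iff.1 h2) (hne c hc1 i hc2)
    · exact h2
  have h1 := hrow _ _ (key c hc1 i hc2 hcp) (key d hd1 j hd2 hdp)
  have h2 := SPair.of_section (Fact.out : p.Prime) (M := OL cs h X f) (S := (⊤ : Subgroup Y)) Φ hΦ h1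
  exact h2

include R in
/-- The section is smaller than the group. -/
theorem card_lt [Finite W] [Finite Y] {k : I} (hk : ∀ j, f j ≠ k) :
    Nat.card (↥(HL cs h X f) ⧸ Subgroup.center ↥(HL cs h X f)) < Nat.card Y := by
  have h1 : Nat.card (↥(HL cs h X f) ⧸ Subgroup.center ↥(HL cs h X f)) ≤ Nat.card ↥(HL cs h X f) :=
    Nat.card_le_card_of_surjective _ (QuotientGroup.mk'_surjective _)
  refine lt_of_le_of_lt h1 ?_
  obtain ⟨u, hu, hu1⟩ := exists_ne_one R k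
  have hkJ : k ∉ Set.range f := by
    rintro ⟨j, hj⟩
    exact hk j hj
  have hV : u ∈ VJ cs h X (Set.range f) := RGD.le_Sup (S := NotJ cs h (Set.range f)) (sr_mem_NotJ hkJ) hu
  have h2 : u ∉ HL cs h X f := fun h3 => hu1 (eq_one_of_mem_LJ_of_mem_VJ R (HL_le_LJ f h3) hV)
  refine lt_of_le_of_ne (Nat.le_of_dvd Nat.card_pos (Subgroup.card_subgroup_dvd_card _)) fun h3 => h2 ?_
  rw [(Subgroup.card_eq_iff_eq_top _).1 h3]
  exact Subgroup.mem_top _

end Cfsg.Agent.H862.T5.LevPair
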