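import Cfsg.Agent.H862.T5.OPlusFour

/-!
# Frames of nonlinear semisimilitudes (T5)
-/

set_option autoImplicit false
set_option linter.unusedSectionVars false

namespace Cfsg.Agent.H862.T5.ONonlin

open QuadraticMap Module Cfsg.Agent.LieClassical.OrthCore Cfsg.Agent.LieClassical.OrthTrans
open Cfsg.Agent.ClassicalGeometry.OrthSemi Cfsg.Agent.H966.Frob
open Cfsg.Agent.H208.Ext Cfsg.Agent.H208.Frame
open Cfsg.Agent.H862.T5.OBase Cfsg.Agent.H862.T5.OFrame
open Cfsg.Agent.H957.T5V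

variable {F V : Type*} [Field F] [AddCommGroup V] [Module F V] {Q : QuadraticForm F V}

/-- extension of a linear map from the fixed field -/
theorem exists_extend_map {σ : F ≃+* F} {κ κ' : Type} [Fintype κ] [DecidableEq κ] [Fintype κ'] [DecidableEq κ']
    (k : (κ' → fix σ) →ₗ[fix σ] (κ → fix σ)) :
    ∃ k' : (κ' → F) →ₗ[F] (κ → F), (∀ v, k' (inc (fix σ) v) = inc (fix σ) (k v)) ∧
      ∀ v, k' (frob κ' σ v) = frob κ σ (k' v) := by
  let M : Matrix κ κ' F := (LinearMap.toMatrix' k).map (fun a => (a : F))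
  refine ⟨Matrix.toLin' M, fun v => ?_, fun v => ?_⟩
  · ext i
    rw [Matrix.toLin'_apply, Matrix.mulVec, dotProduct]
    have h1 : k v = Matrix.mulVec (LinearMap.toMatrix' k) v := by
      rw [LinearMap.toMatrix'_mulVec]
    show _ = ((k v i : fix σ) : F)
    rw [h1, Matrix.mulVec, dotProduct]
    push_cast
    rfl
  · ext i
    rw [frob_apply, Matrix.toLin'_apply, Matrix.toLin'_apply, Matrix.mulVec, Matrix.mulVec, dotProduct, dotProduct,
      map_sum]
    refine Finset.sum_congr rfl fun l _ => ?_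
    rw [map_mul, frob_apply]
    congr 1
    exact ((LinearMap.toMatrix' k i l).2).symm

/-- **Frames of nonlinear semisimilitudes.** -/
theorem exists_frame_nl [Finite F] [FiniteDimensional F V] [Nontrivial V] (hQ : Nondeg Q) {σ : F ≃+* F} {c : F}
    {M : Equiv.Perm V} (hM : IsSS Q σ c M) {l : ℕ} (hσ : orderOf σ = l) (hl : 0 < l) (hMl : M ^ l = 1)
    {κ' : Type} [Fintype κ'] [DecidableEq κ'] {k : ℕ} (hk : Fintype.card κ' = 2 * k)
    (hd : 2 * k + 1 ≤ finrank F V) {P₀ : QuadraticForm (fix σ) (κ' → fix σ)} (hP₀ : Nondeg P₀)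
    {P : QuadraticForm F (κ' → F)} (hP : ∀ x, P (inc _ x) = (P₀ x : F)) :
    ∃ (j : (κ' → F) →ₗ[F] V) (e : F), e ≠ 0 ∧ (∀ x, Q (j x) = e * P x) ∧ ∀ x, M (j x) = j (frob κ' σ x) := by
  have hκ : Fintype.card (Fin (finrank F V)) = finrank F V := Fintype.card_fin _
  obtain ⟨h, e, Q₀, he, hh, hQ₀⟩ := exists_descent (exists_ne_zero hQ) hM hσ hl hMl hκ
  have hn := nondeg_descent hQ hQ₀
  have hd' : finrank (fix σ) (Fin (finrank F V) → fix σ) = finrank F V := by
    rw [Module.finrank_fintype_fun_eq_card, hκ]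
  obtain ⟨j₀, hj₀⟩ := H193.QuadEmb.exists_emb k hP₀ hn (by rw [Module.finrank_fintype_fun_eq_card, hk])
    (by rw [hd']; exact hd)
  obtain ⟨j₁, hj₁, hf⟩ := exists_extend_map j₀
  refine ⟨h.toLinearMap ∘ₗ j₁, e, he, fun x => ?_, fun x => ?_⟩
  · have h1 := quad_ext (fix σ) (Q.comp (h.toLinearMap ∘ₗ j₁)) (e • P) (fun x => ?_) x
    · exact h1
    · change Q (h (j₁ (inc _ x))) = e * P (inc _ x)
      rw [hj₁, hQ₀, hj₀, hP]
  · rw [LinearMap.comp_apply, LinearEquiv.coe_coe, hh, LinearMap.comp_apply, LinearEquiv.coe_coe, hf]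

/-! ### the plus type four-space -/

open Cfsg.Agent.H862.T5.OPlusFour Cfsg.Agent.LieClassical.QuadForms

/-- coordinates of the four-space, the form multiplied by `e` -/
def co (e : F) : M2 F →ₗ[F] (Fin 2 ⊕ Fin 2 → F) where
  toFun X := Sum.elim ![X 0 0, X 0 1] ![e⁻¹ * X 1 1, -(e⁻¹ * X 1 0)]
  map_add' X Y := by
    funext i
    rcases i with i | i <;> fin_cases i <;> simp <;> ring
  map_smul' a X := by
    funext i
    rcases i with i | i <;> fin_cases i <;> simp <;> ring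

theorem co_form {e : F} (he : e ≠ 0) (X : M2 F) : e * plusForm 2 F (co e X) = detQ F X := by
  rw [coe_plusForm]
  unfold Cfsg.quadFormPlus
  rw [Fin.sum_univ_two, detQ_apply]
  show e * (X 0 0 * (e⁻¹ * X 1 1) + X 0 1 * -(e⁻¹ * X 1 0)) = _
  field_simp
  ring

/-- the permutation of the columns -/
def colsP (c : Equiv.Perm (Fin 2 → F)) : Equiv.Perm (M2 F) where
  toFun X := cols c X
  invFun X := cols c.symm X
  left_inv X := by
    ext i k
    show c.symm (c (fun l => X l k)) i = X i k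
    rw [Equiv.symm_apply_apply]
  right_inv X := by
    ext i k
    show c (c.symm (fun l => X l k)) i = X i k
    rw [Equiv.apply_symm_apply]

theorem tr_colsP (c : Equiv.Perm (Fin 2 → F)) : TR (colsP c) c := ⟨1, fun X => by
  rw [mul_one]
  rfl⟩

/-- `v ↦ (σ v₀, m σ v₁)` -/
def twist (σ : F ≃+* F) (m : Fˣ) : Equiv.Perm (Fin 2 → F) where
  toFun v := ![σ (v 0), m * σ (v 1)]
  invFun v := ![σ.symm (v 0), σ.symm (((m⁻¹ : Fˣ) : F) * v 1)]
  left_inv v := by
    funext i
    fin_cases i <;> simp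
  right_inv v := by
    funext i
    fin_cases i <;> simp

theorem semi_twist (σ : F ≃+* F) (m : Fˣ) : Semi σ (twist σ m) where
  add u v := by
    funext i
    fin_cases i <;> simp [twist, mul_add]
  smul a v := by
    funext i
    fin_cases i <;> simp [twist]
    ring

theorem not_isScal_of_semi [Nontrivial V] {σ : F ≃+* F} (hσ : σ ≠ 1) {c : Equiv.Perm V} (hc : Semi σ c) :
    ¬ IsScal F c := by
  rintro ⟨a, ha⟩
  apply hσ
  ext b
  obtain ⟨v, hv⟩ := exists_ne (0 : V)
  have h1 : a • b • v = σ b • a • v := by rw [← ha, ← ha, hc.smul]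
  rw [smul_comm] at h1
  have h2 : a • v ≠ 0 := by
    rw [← ha]
    intro h0
    rw [← hc.zero] at h0
    exact hv (c.injective h0)
  have h3 : (b - σ b) • a • v = 0 := by rw [sub_smul, h1, sub_self]
  exact (sub_eq_zero.1 ((smul_eq_zero.1 h3).resolve_right h2)).symm

/-- **Nonlinear semisimilitudes have a good four-space.** -/
theorem fr4_nl [Finite F] [FiniteDimensional F V] (hG : Good Q) {σ : F ≃+* F} {c : F}
    {M : Equiv.Perm V} (hM : IsSS Q σ c M) (hσ1 : σ ≠ 1) {l : ℕ} (hσ : orderOf σ = l) (hl : 0 < l)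
    (hMl : M ^ l = 1) : Fr4 Q M := by
  have := H208.ConjSS.nontrivial_of_good hG
  obtain ⟨j, e, he, hj, hjM⟩ := exists_frame_nl hG.nondeg hM hσ hl hMl (κ' := Fin 2 ⊕ Fin 2) (k := 2)
    (by simp) (by have := hG.dim; omega) (P₀ := plusForm 2 (fix σ)) (polar_plusForm_nondeg 2)
    (P := plusForm 2 F) (fun x => by rw [coe_plusForm, coe_plusForm, coe_plus])
  have hσe : σ e ≠ 0 := by simpa using he
  let m : Fˣ := Units.mk0 (e * (σ e)⁻¹) (mul_ne_zero he (inv_ne_zero hσe))
  have hm : (m : F) = e * (σ e)⁻¹ := rfl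
  refine ⟨j ∘ₗ co e, colsP (twist σ m), σ, twist σ m, ⟨fun X => ?_⟩, fun X => ?_, semi_twist σ m, tr_colsP _,
    not_isScal_of_semi hσ1 (semi_twist σ m)⟩
  · rw [LinearMap.comp_apply, hj, co_form he]
  · rw [LinearMap.comp_apply, hjM, LinearMap.comp_apply]
    congr 1
    funext i
    rw [frob_apply]
    rcases i with i | i
    · fin_cases i
      · rfl
      · rfl
    · fin_cases i
      · show σ (e⁻¹ * X 1 1) = e⁻¹ * (m * σ (X 1 1))
        rw [map_mul, map_inv₀, hm]
        field_simp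
      · show σ (-(e⁻¹ * X 1 0)) = -(e⁻¹ * (m * σ (X 1 0)))
        rw [map_neg, map_mul, map_inv₀, hm]
        field_simp

end Cfsg.Agent.H862.T5.ONonlin
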