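import Cfsg.Agent.H862.T5.OFix
import Cfsg.Agent.H862.T5.ONonlin
import Cfsg.Agent.S0126
import Cfsg.Agent.H106.MTools2

/-!
# The AA argument for spaces of the dimension of one block (T5)

`cyclic_sylow` : `dim V = c` (the block dimension): the Sylow `p`-subgroups of `P Q` are cyclic;
`mpair_lin` : a linear against an arbitrary semisimilitude;
`mpq_of_mpair` : translation.
-/

set_option autoImplicit false
set_option linter.unusedSectionVars false

namespace Cfsg.Agent.H862.T5.OAA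

open QuadraticMap Module Cfsg.Agent.LieClassical.OrthCore Cfsg.Agent.LieClassical.OrthTrans
  Cfsg.Agent.ClassicalGeometry.OrthSemi Cfsg.Agent.ClassicalGeometry.OrthAut1
open Cfsg.Agent.LieClassical.OrthSimple (good_isSimpleGroup)
open Cfsg.Agent.H208.ConjSS (exists_normal isSS_scal_mul Psi_scal nontrivial_of_good)
open Cfsg.Agent.H862.T5.OBase Cfsg.Agent.H862.T5.OFrame Cfsg.Agent.H862.T5.OLinFour Cfsg.Agent.H862.T5.OBlock
  Cfsg.Agent.H862.T5.OFix
open Cfsg.Agent.H957.T5V Cfsg.Agent.H957.T5M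
open Cfsg.Agent.H208.Parity (ofO)
open Cfsg.Agent.H951

universe u

section sums

variable {F V : Type*} [Field F] [AddCommGroup V] [Module F V]

/-- Commuting linear maps `g`, `h` of order dividing `p`, `h` and all `g h^k` without fixed vectors. -/
theorem no_rank_two {p : ℕ} (hp : p.Prime) (hpF : (p : F) ≠ 0) {g h : V ≃ₗ[F] V} (hg : g ^ p = 1) (hh : h ^ p = 1)
    (hc : g * h = h * g) (h1 : ∀ v, h v = v → v = 0) (h2 : ∀ k < p, ∀ v, (g * h ^ k) v = v → v = 0) (v : V) :
    v = 0 := by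
  have hcomm : Commute g h := hc
  -- sum of the powers
  have key : ∀ f : V ≃ₗ[F] V, f ^ p = 1 → ∀ v, f (∑ i ∈ Finset.range p, (f ^ i) v) = ∑ i ∈ Finset.range p, (f ^ i) v := by
    intro f hf v
    rw [map_sum]
    have h3 : ∀ i, f ((f ^ i) v) = (f ^ (i + 1)) v := fun i => by rw [pow_succ', LinearEquiv.mul_apply]
    simp only [h3]
    have h4 := Finset.sum_range_succ' (fun i => (f ^ i) v) p
    have h5 := Finset.sum_range_succ (fun i => (f ^ i) v) p
    rw [h5, hf, pow_zero] at h4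
    exact (add_right_cancel h4).symm
  have s1 : ∀ k < p, ∑ i ∈ Finset.range p, ((g * h ^ k) ^ i) v = 0 := by
    intro k hk
    apply h2 k hk
    apply key
    rw [(hcomm.pow_right k).mul_pow, hg, ← pow_mul, mul_comm, pow_mul, hh, one_pow, one_mul]
  have s2 : ∀ i, 0 < i → i < p → ∑ k ∈ Finset.range p, ((h ^ i) ^ k) v = 0 := by
    intro i hi0 hip
    apply h1
    have h3 := key (h ^ i) (by rw [← pow_mul, mul_comm, pow_mul, hh, one_pow]) v
    -- `h` is a power of `h ^ i`
    have hco : Nat.Coprime (orderOf h) i :=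
      Nat.Coprime.coprime_dvd_left (orderOf_dvd_of_pow_eq_one hh) (Nat.coprime_of_lt_prime hi0.ne' hip hp)
    obtain ⟨m, hm⟩ := exists_pow_eq_self_of_coprime hco.symm
    have h4 : ∀ n : ℕ, ((h ^ i) ^ n) (∑ k ∈ Finset.range p, ((h ^ i) ^ k) v) = ∑ k ∈ Finset.range p, ((h ^ i) ^ k) v := by
      intro n
      induction n with
      | zero => rfl
      | succ n ih => rw [pow_succ, LinearEquiv.mul_apply, h3, ih]
    have h5 := h4 m
    rwa [hm] at h5
  have s3 : ∑ k ∈ Finset.range p, ∑ i ∈ Finset.range p, ((g * h ^ k) ^ i) v = 0 :=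
    Finset.sum_eq_zero fun k hk => s1 k (Finset.mem_range.1 hk)
  rw [Finset.sum_comm] at s3
  have s4 : ∀ i ∈ Finset.range p, i ≠ 0 → ∑ k ∈ Finset.range p, ((g * h ^ k) ^ i) v = 0 := by
    intro i hi hi0
    have h3 : ∀ k, ((g * h ^ k) ^ i) v = (g ^ i) (((h ^ i) ^ k) v) := by
      intro k
      rw [(hcomm.pow_right k).mul_pow, LinearEquiv.mul_apply, ← pow_mul, ← pow_mul, mul_comm k i]
    simp only [h3]
    rw [← map_sum, s2 i (Nat.pos_of_ne_zero hi0) (Finset.mem_range.1 hi), map_zero]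
  rw [Finset.sum_eq_single 0 s4 (fun h => absurd (Finset.mem_range.2 hp.pos) h)] at s3
  simp only [pow_zero] at s3
  rw [Finset.sum_const, Finset.card_range] at s3
  have s5 : (p : F) • v = 0 := by
    rw [Nat.cast_smul_eq_nsmul]
    exact s3
  exact (smul_eq_zero.1 s5).resolve_left hpF

end sums

section cyc

variable {F : Type u} {V : Type u} [Field F] [AddCommGroup V] [Module F V] {Q : QuadraticForm F V}

/-- in a space of dimension `c` a nontrivial isometry of order `p` has no fixed vectors -/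
theorem nofix [Fintype F] [FiniteDimensional F V] (hG : Good Q) {g : V ≃ₗ[F] V} (hg : g ∈ O Q) {p : ℕ}
    [hp : Fact p.Prime] (hp2 : p ≠ 2) (hpF : (p : F) ≠ 0) (hgp : g ^ p = 1) (hg1 : g ≠ 1) {c : ℕ}
    (hc : c = if Even (orderOf (Fintype.card F : ZMod p)) then orderOf (Fintype.card F : ZMod p) else
      2 * orderOf (Fintype.card F : ZMod p)) (hd : finrank F V = c) (v : V) (hv : g v = v) : v = 0 := by
  have hB := frm_polar Q
  have hxr := en_pow_one hgp
  have hcmn : Nd (BB Q) (cm (en g)) := (isom_en hg).nd_cm hB hpF hxr (nd_top hG.nondeg)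
  have h1 := dvd_finrank hg hp2 hpF hgp hc inv_cm hcmn le_rfl
  have hcm0 : cm (en g) ≠ ⊥ := by
    intro h
    apply hg1
    ext1 v
    have h1 : g v - v ∈ cm (en g) := mem_cm.2 ⟨v, rfl⟩
    rw [h, Submodule.mem_bot] at h1
    exact sub_eq_zero.1 h1
  have h2 : 0 < finrank F (cm (en g)) := by
    rw [Nat.pos_iff_ne_zero]
    intro h
    exact hcm0 (Submodule.finrank_eq_zero.1 h)
  have h3 : cm (en g) = ⊤ := by
    apply Submodule.eq_top_of_finrank_eq
    have := Nat.le_of_dvd h2 h1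
    have := Submodule.finrank_le (cm (en g))
    omega
  by_contra h0
  exact ne_of_mem_cm hpF hgp (by rw [h3]; trivial) h0 hv

theorem ofO_pow {g : V ≃ₗ[F] V} (hg : g ∈ O Q) (n : ℕ) (v : V) : ((ofO g hg) ^ n).1 v = (g ^ n) v := by
  induction n with
  | zero => rfl
  | succ n ih =>
    rw [pow_succ', pow_succ', LinearEquiv.mul_apply, ← ih]
    rfl

/-- elements of `P Q` of odd order come from isometries -/
theorem exists_isom_P (hG : Good Q) {p : ℕ} (hp : Odd p) {a : P Q} (ha : a ^ p = 1) :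
    ∃ (g : V ≃ₗ[F] V) (hg : g ∈ O Q), g ^ p = 1 ∧ MulAut.conj a = Psi Q (ofO g hg) := by
  obtain ⟨⟨n, hn⟩, rfl⟩ := QuotientGroup.mk_surjective a
  obtain ⟨g, hg, hgp, h⟩ := exists_isom hG hp (isSS_ofO (E_le_O hn)) (by
    rw [Psi_E hn, ← map_pow, ha, map_one])
  exact ⟨g, hg, hgp, by rw [← h, Psi_E hn]⟩

theorem commute_of_Psi (hG : Good Q) {p : ℕ} (hp : Odd p) {g h : V ≃ₗ[F] V} (hg : g ∈ O Q) (hh : h ∈ O Q)
    (hhp : h ^ p = 1) (hc : Commute (Psi Q (ofO g hg)) (Psi Q (ofO h hh))) : g * h = h * g := by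
  -- the isometry `g h g⁻¹` has the same image as `h`
  have hk : g * h * g⁻¹ ∈ O Q := (O Q).mul_mem ((O Q).mul_mem hg hh) ((O Q).inv_mem hg)
  have h1 : Psi Q (ofO (g * h * g⁻¹) hk) = Psi Q (ofO h hh) := by
    have h2 : ofO (g * h * g⁻¹) hk = ofO g hg * ofO h hh * (ofO g hg)⁻¹ := rfl
    rw [h2, map_mul, map_mul, map_inv, hc.eq, mul_inv_cancel_right]
  obtain ⟨a, ha⟩ := exists_scal hG (M := ofO (g * h * g⁻¹) hk * (ofO h hh)⁻¹) (by
    rw [map_mul, map_inv, h1, mul_inv_cancel])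
  have ha' : ∀ v, (g * h * g⁻¹) v = (a : F) • h v := by
    intro v
    have h2 : (ofO (g * h * g⁻¹) hk * (ofO h hh)⁻¹).1 (h v) = (scal Q a).1 (h v) := by rw [ha]
    have h3 : (ofO (g * h * g⁻¹) hk * (ofO h hh)⁻¹).1 (h v) = (g * h * g⁻¹) (h.symm (h v)) := rfl
    rw [h3, LinearEquiv.symm_apply_apply] at h2
    exact h2
  have hpow : ∀ (n : ℕ) v, ((g * h * g⁻¹) ^ n) v = (a : F) ^ n • (h ^ n) v := by
    intro n
    induction n with
    | zero => intro v; simp
    | succ n ih =>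
      intro v
      rw [pow_succ', LinearEquiv.mul_apply, ih, ha', map_smul, smul_smul, pow_succ' h, LinearEquiv.mul_apply,
        pow_succ']
  obtain ⟨x, y, hxy⟩ := hG.exists_hyp
  have hv1 : Q (x + (1 : F) • y) = 1 := OBase.Hyp.norm hxy 1
  have h1 : (a : F) * a = 1 := by
    have h2 := hk (x + (1 : F) • y)
    rw [ha', QuadraticMap.map_smul, hh, hv1, smul_eq_mul, mul_one] at h2
    exact h2
  have h2 : (a : F) ^ p = 1 := by
    have h3 := hpow p (x + (1 : F) • y)
    rw [conj_pow, hhp, mul_one, mul_inv_cancel] at h3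
    have h4 : (1 - (a : F) ^ p) • (x + (1 : F) • y) = 0 := by
      rw [sub_smul, one_smul]
      exact sub_eq_zero.2 h3
    have h5 : x + (1 : F) • y ≠ 0 := by
      intro h0
      rw [h0, QuadraticMap.map_zero] at hv1
      exact zero_ne_one hv1
    exact (sub_eq_zero.1 ((smul_eq_zero.1 h4).resolve_right h5)).symm
  have h3 : (a : F) = 1 := by
    obtain ⟨k, hk⟩ := hp
    rw [hk, pow_succ, pow_mul, pow_two, h1, one_pow, one_mul] at h2
    exact h2
  have h4 : g * h * g⁻¹ = h := by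
    ext1 v
    rw [ha', h3, one_smul]
  exact mul_inv_eq_iff_eq_mul.1 h4

/-- **Cyclic Sylow subgroups.** -/
theorem cyclic_sylow [Fintype F] [FiniteDimensional F V] (hG : Good Q) {p : ℕ}
    [hp : Fact p.Prime] (hp2 : p ≠ 2) (hpF : (p : F) ≠ 0) {c : ℕ}
    (hc : c = if Even (orderOf (Fintype.card F : ZMod p)) then orderOf (Fintype.card F : ZMod p) else
      2 * orderOf (Fintype.card F : ZMod p)) (hd : finrank F V = c) (S : Sylow p (P Q)) :
    IsCyclic ↥(S : Subgroup (P Q)) := by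
  have hfin : Finite V := Module.finite_of_finite F
  have hfinL : Finite (V ≃ₗ[F] V) := Finite.of_injective (fun f => (f : V → V)) DFunLike.coe_injective
  have hfinP : Finite (P Q) := Quotient.finite _
  have hodd := hp.out.odd_of_ne_two hp2
  by_contra hnc
  obtain ⟨A, -, ⟨hAc, hAp⟩, hAcard⟩ := Cfsg.Agent.S0126.result hp2 S.2 hnc
  -- two independent elements
  have hA1 : Nat.card A ≠ 1 := by
    rw [hAcard]
    have := hp.out.one_lt
    intro h
    rw [Nat.pow_eq_one] at h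
    omega
  obtain ⟨a, ha⟩ : ∃ a : A, a ≠ 1 := by
    by_contra hno
    push Not at hno
    apply hA1
    rw [Nat.card_eq_one_iff_unique]
    exact ⟨⟨fun x y => by rw [hno x, hno y]⟩, ⟨1⟩⟩
  have hap : a ^ p = 1 := Subtype.ext (hAp a a.2)
  have hao : orderOf a = p := orderOf_eq_prime hap ha
  obtain ⟨b, hb⟩ : ∃ b : A, b ∉ Subgroup.zpowers a := by
    by_contra hno
    push Not at hno
    have h1 : Subgroup.zpowers a = ⊤ := by
      rw [eq_top_iff]
      exact fun x _ => hno x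
    have h2 : Nat.card (Subgroup.zpowers a) = p := by rw [Nat.card_zpowers, hao]
    rw [h1, Subgroup.card_top, hAcard] at h2
    have := hp.out.one_lt
    nlinarith
  have hbp : b ^ p = 1 := Subtype.ext (hAp b b.2)
  have hab : Commute a b := hAc.is_comm.comm a b
  have hv : ∀ x : A, (((x : S) : P Q)) ^ p = 1 := fun x => by
    have := hAp x x.2
    exact congrArg (fun z : S => (z : P Q)) this
  -- lifts
  obtain ⟨g, hg, hgp, hga⟩ := exists_isom_P hG hodd (hv b)
  obtain ⟨h, hh, hhp, hha⟩ := exists_isom_P hG hodd (hv a)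
  have hgh : g * h = h * g := by
    apply commute_of_Psi hG hodd hg hh hhp
    rw [← hga, ← hha]
    have h1 : Commute (((b : S) : P Q)) ((a : S) : P Q) := by
      have := congrArg (fun z : A => ((z : S) : P Q)) hab.symm.eq
      exact this
    exact h1.map (MulAut.conj : P Q →* MulAut (P Q))
  have hh1 : h ≠ 1 := by
    rintro rfl
    have h1 : MulAut.conj ((a : S) : P Q) = 1 := by
      rw [hha]
      exact map_one _
    have h2 : ((a : S) : P Q) = 1 := conj_injective_P hG (by rw [h1, map_one])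
    exact ha (Subtype.ext (Subtype.ext h2))
  have hcomm : Commute g h := hgh
  have := nontrivial_of_good hG
  obtain ⟨v, hv0⟩ := exists_ne (0 : V)
  apply hv0
  refine no_rank_two hp.out hpF hgp hhp hgh (nofix hG hh hp2 hpF hhp hh1 hc hd) (fun k hk => ?_) v
  have hghk : g * h ^ k ∈ O Q := (O Q).mul_mem hg ((O Q).pow_mem hh k)
  refine nofix hG hghk hp2 hpF ?_ ?_ hc hd
  · rw [(hcomm.pow_right k).mul_pow, hgp, ← pow_mul, mul_comm, pow_mul, hhp, one_pow, one_mul]
  · intro h1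
    apply hb
    have h2 : MulAut.conj (((b * a ^ k : A) : S) : P Q) = 1 := by
      have h3 : (((b * a ^ k : A) : S) : P Q) = ((b : S) : P Q) * ((a : S) : P Q) ^ k := rfl
      rw [h3, map_mul, map_pow, hga, hha, ← map_pow, ← map_mul]
      have h4 : ofO g hg * ofO h hh ^ k = 1 := by
        apply Subtype.ext
        ext1 v
        show g ((ofO h hh ^ k).1 v) = v
        rw [ofO_pow, ← LinearEquiv.mul_apply, h1]
        rfl
      rw [h4, map_one]
    have h3 : (((b * a ^ k : A) : S) : P Q) = 1 := conj_injective_P hG (by rw [h2, map_one])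
    have h4 : b * a ^ k = 1 := Subtype.ext (Subtype.ext h3)
    rw [mul_eq_one_iff_eq_inv] at h4
    rw [h4]
    exact Subgroup.inv_mem _ (Subgroup.pow_mem _ (Subgroup.mem_zpowers a) k)

end cyc

section core

open Cfsg.Agent.H106.MT Cfsg.Agent.H106.MB
open scoped commutatorElement

variable {F : Type u} {V : Type u} [Field F] [AddCommGroup V] [Module F V] {Q : QuadraticForm F V}

theorem not_lin_of_nl (hG : Good Q) {M L : Gam Q} {σ : F ≃+* F} {c μ : F} (hM : IsSS Q σ c M.1) (hσ : σ ≠ 1)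
    (hL : IsSS Q (RingEquiv.refl F) μ L.1) : Psi Q M ≠ Psi Q L := by
  intro h
  have := nontrivial_of_good hG
  obtain ⟨a, ha⟩ := exists_scal hG (M := M * L⁻¹) (by rw [map_mul, map_inv, h, mul_inv_cancel])
  have hs1 : Semi σ M.1 := ⟨hM.add, hM.smul⟩
  have hs2 : Semi (1 : F ≃+* F) L.1 := ⟨hL.add, hL.smul⟩
  refine ONonlin.not_isScal_of_semi (σ := σ * 1⁻¹) (by rwa [inv_one, mul_one]) (hs1.mul hs2.inv) ⟨a, fun v => ?_⟩
  have h1 : (M * L⁻¹).1 v = (scal Q a).1 v := by rw [ha]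
  exact h1

theorem not_inner_of_nl (hG : Good Q) {M : Gam Q} {σ : F ≃+* F} {c : F} (hM : IsSS Q σ c M.1) (hσ : σ ≠ 1)
    (y : P Q) : Psi Q M ≠ MulAut.conj y := by
  obtain ⟨⟨n, hn⟩, rfl⟩ := QuotientGroup.mk_surjective y
  rw [← Psi_E hn]
  exact not_lin_of_nl hG hM hσ (isSS_ofO (E_le_O hn))

/-- a nonabelian simple group is quasisimple -/
theorem quasisimple_of_simple {X : Type*} [Group X] (hs : IsSimpleGroup X)
    (hnc : ¬ IsMulCommutative X) : Cfsg.IsQuasisimple X := by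
  have hc : Subgroup.center X = ⊥ := by
    rcases hs.eq_bot_or_eq_top_of_normal (Subgroup.center X) inferInstance with h | h
    · exact h
    · exfalso
      apply hnc
      refine ⟨⟨fun a b => ?_⟩⟩
      have : b ∈ Subgroup.center X := by rw [h]; exact Subgroup.mem_top b
      exact (Subgroup.mem_center_iff.mp this a)
  refine ⟨?_, ?_⟩
  · rw [Group.isPerfect_def]
    rcases hs.eq_bot_or_eq_top_of_normal (commutator X) inferInstance with h | h
    · exfalso
      apply hnc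
      refine ⟨⟨fun a b => ?_⟩⟩
      have : ⁅a, b⁆ ∈ commutator X := by
        rw [_root_.commutator_def]
        exact Subgroup.commutator_mem_commutator (Subgroup.mem_top a) (Subgroup.mem_top b)
      rw [h, Subgroup.mem_bot, commutatorElement_eq_one_iff_mul_comm] at this
      exact this
    · exact h
  · have e : X ⧸ Subgroup.center X ≃* X := (QuotientGroup.quotientMulEquivOfEq hc).trans QuotientGroup.quotientBot
    have : Nontrivial (X ⧸ Subgroup.center X) := e.toEquiv.nontrivial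
    exact IsSimpleGroup.isSimpleGroup_of_surjective e.symm.toMonoidHom e.symm.surjective

theorem conj_mul_conj (d : MulAut (P Q)) (n : P Q) : d * MulAut.conj n * d⁻¹ = MulAut.conj (d n) := by
  ext x
  show d (n * d⁻¹ x * n⁻¹) = d n * x * (d n)⁻¹
  rw [map_mul, map_mul, map_inv, MulAut.apply_inv_self]

theorem commute_conj_of_fix {d : MulAut (P Q)} {n : P Q} (h : d n = n) : Commute (MulAut.conj n) d := by
  have h1 := conj_mul_conj d n
  rw [h] at h1
  exact (mul_inv_eq_iff_eq_mul.1 h1).symm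

theorem fix_of_commute (hG : Good Q) {d : MulAut (P Q)} {n : P Q} (h : Commute (MulAut.conj n) d) : d n = n := by
  apply conj_injective_P hG
  rw [← conj_mul_conj, ← h.eq, mul_inv_cancel_right]

/-- **A linear against a nonlinear semisimilitude.** -/
theorem mpair_lin_nl {p : ℕ} (hAA : AAHyp.{u} p) [hp : Fact p.Prime] [Fintype F] [FiniteDimensional F V]
    (hG : Good Q) {m : ℕ} (hm : 3 ≤ m) (hd : finrank F V = 2 * m) (hp2 : p ≠ 2)
    (hcyc : ∀ S : Sylow p (P Q), IsCyclic ↥(S : Subgroup (P Q)))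
    {X M : Gam Q} {σ : F ≃+* F} {μ c : F} (hX : IsSS Q (RingEquiv.refl F) μ X.1) (hXo : orderOf (Psi Q X) = p)
    (hM : IsSS Q σ c M.1) (hσ : σ ≠ 1) (hMo : orderOf (Psi Q M) = p) :
    MPair p (Inn (P Q)) (Psi Q X) (Psi Q M) := by
  have hfin : Finite V := Module.finite_of_finite F
  have hfinL : Finite (V ≃ₗ[F] V) := Finite.of_injective (fun f => (f : V → V)) DFunLike.coe_injective
  have hfinP : Finite (P Q) := Quotient.finite _
  have hodd := hp.out.odd_of_ne_two hp2
  have := good_isSimpleGroup hG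
  have hcinj := conj_injective_P hG
  obtain ⟨x0, hx0⟩ := H885.FC.Main.inner_of_lin hG hX hodd hXo
  have hx0o : orderOf x0 = p := by
    rw [hx0, orderOf_injective _ hcinj] at hXo
    exact hXo
  have hdvd : p ∣ Nat.card (P Q) := by rw [← hx0o]; exact orderOf_dvd_natCard _
  have hMp : Psi Q M ^ p = 1 := by rw [← hMo, pow_orderOf_eq_one]
  obtain ⟨N, hN1, hN2, hN3, hN4, hN5, hN6⟩ := fn_gam hG hm hd hM hσ hp.out hp2 hMp hdvd
  obtain ⟨⟨c0, hc0N⟩, hc0⟩ := exists_prime_orderOf_dvd_card' (G := N) p hN3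
  rw [Subgroup.orderOf_mk] at hc0
  let S : Sylow p (P Q) := default
  obtain ⟨s, j, hsj⟩ := exists_conj_of_cyclic S (hcyc S) hx0o hc0
  set n : P Q := c0 ^ j with hn
  have hnN : n ∈ N := Subgroup.zpow_mem _ hc0N j
  have hsn : x0 = s * n * s⁻¹ := by rw [← hsj, hn, conj_zpow]
  have hnx : s⁻¹ * x0 * s⁻¹⁻¹ = n := by rw [hsn]; group
  have hdn : Psi Q M n = n := hN4 n hnN
  have hno : orderOf n = p := by rw [← hnx, orderOf_cj, hx0o]
  set c1 : MulAut (P Q) := MulAut.conj s⁻¹ * Psi Q X * (MulAut.conj s⁻¹)⁻¹ with hc1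
  have hc1n : c1 = MulAut.conj n := by
    rw [hc1, hx0, ← map_inv, ← map_mul, ← map_mul, hnx]
  have hcd : Commute c1 (Psi Q M) := by
    rw [hc1n]
    exact commute_conj_of_fix hdn
  refine mpair_inner_outer hAA hXo hMo (s := MulAut.conj s⁻¹) ⟨_, rfl⟩ hcd ?_
  rw [← hc1]
  set h : MulAut (P Q) := c1⁻¹ * Psi Q M with hh
  -- `h` comes from a nonlinear semisimilitude
  obtain ⟨⟨w, hw⟩, hwn⟩ := QuotientGroup.mk_surjective n
  have hc1w : c1 = Psi Q (ofO w (E_le_O hw)) := by rw [Psi_E hw, hc1n, ← hwn]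
  have hhM : h = Psi Q ((ofO w (E_le_O hw))⁻¹ * M) := by rw [map_mul, map_inv, ← hc1w]
  obtain ⟨c', hM'⟩ : ∃ c', IsSS Q σ c' ((ofO w (E_le_O hw))⁻¹ * M).1 :=
    ⟨_, (isSS_ofO ((O Q).inv_mem (E_le_O hw))).mul hM⟩
  have hhp : h ^ p = 1 := by
    rw [hh, hcd.inv_left.mul_pow, hMp, mul_one, inv_pow, hc1n, ← map_pow, ← hno, pow_orderOf_eq_one, map_one, inv_one]
  have hh1 : h ≠ 1 := by
    intro h1
    have h2 : (MulAut.conj (1 : P Q)) = h := by rw [h1, map_one]
    rw [hhM] at h2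
    exact not_inner_of_nl hG hM' hσ 1 h2.symm
  have hho : orderOf h = p := orderOf_eq_prime hhp hh1
  obtain ⟨N', hN'1, hN'2, hN'3, hN'4, hN'5, hN'6⟩ := fn_gam hG hm hd hM' hσ hp.out hp2 (by rw [← hhM]; exact hhp) hdvd
  rw [← hhM] at hN'4 hN'5
  -- the simple group of inner automorphisms
  let R : Subgroup (MulAut (P Q)) := N'.map (MulAut.conj : P Q →* MulAut (P Q))
  have eR : N' ≃* R := N'.equivMapOfInjective _ hcinj
  have hRs : IsSimpleGroup R := by
    have : Nontrivial R := eR.symm.toEquiv.nontrivial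
    exact IsSimpleGroup.isSimpleGroup_of_surjective eR.toMonoidHom eR.surjective
  have hRc : ¬ IsMulCommutative R := by
    intro h9
    apply hN'2
    refine ⟨⟨fun a b => eR.injective ?_⟩⟩
    rw [map_mul, map_mul]
    exact h9.is_comm.comm _ _
  have hhn : h n = n := by
    apply fix_of_commute hG
    rw [← hc1n, hh]
    exact (Commute.refl c1).inv_right.mul_right hcd
  have hhn' : h n⁻¹ = n⁻¹ := by rw [map_inv, hhn]
  intro hsol
  refine not_solvable_of_quasisimple (R := R) (quasisimple_of_simple hRs hRc) (c := c1) ?_ ?_ ?_ ?_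
  · rintro _ ⟨r, hr, rfl⟩
    refine ⟨n * r * n⁻¹, hN'5 n hhn r hr, ?_⟩
    rw [hc1n, map_mul, map_mul, map_inv]
  · rintro _ ⟨r, hr, rfl⟩
    refine ⟨n⁻¹ * r * n⁻¹⁻¹, hN'5 n⁻¹ hhn' r hr, ?_⟩
    rw [hc1n, map_mul, map_mul, map_inv, inv_inv]
  · by_contra hcon
    push Not at hcon
    have h1 : n = 1 := by
      apply hN'6
      intro r hr
      have h2 := hcon _ ⟨r, hr, rfl⟩
      rw [hc1n] at h2
      apply hcinj
      rw [map_mul, map_mul]
      exact h2.symm.eq
    rw [h1, orderOf_one] at hno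
    exact hp.out.one_lt.ne hno
  · have hle : Subgroup.closure {y : MulAut (P Q) | ∃ r ∈ R, y = r * c1 * r⁻¹} ≤
        Subgroup.closure {y : MulAut (P Q) | ∃ r ∈ Inn (P Q) ⊓ Subgroup.centralizer {h}, y = r * c1 * r⁻¹} := by
      apply Subgroup.closure_mono
      rintro _ ⟨_, ⟨r, hr, rfl⟩, rfl⟩
      refine ⟨MulAut.conj r, Subgroup.mem_inf.2 ⟨⟨r, rfl⟩, ?_⟩, rfl⟩
      rw [Subgroup.mem_centralizer_singleton_iff]
      exact (commute_conj_of_fix (hN'4 r hr)).eq
    exact Group.isSolvable_of_isSolvable_injective (Subgroup.inclusion_injective hle)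

/-- **Two linear semisimilitudes.** -/
theorem mpair_lin_lin {p : ℕ} (hAA : AAHyp.{u} p) [hp : Fact p.Prime] [Finite F] [FiniteDimensional F V]
    (hG : Good Q) (hp2 : p ≠ 2) (hcyc : ∀ S : Sylow p (P Q), IsCyclic ↥(S : Subgroup (P Q)))
    {X M : Gam Q} {μ c : F} (hX : IsSS Q (RingEquiv.refl F) μ X.1) (hXo : orderOf (Psi Q X) = p)
    (hM : IsSS Q (RingEquiv.refl F) c M.1) (hMo : orderOf (Psi Q M) = p) :
    MPair p (Inn (P Q)) (Psi Q X) (Psi Q M) := by
  have hfin : Finite V := Module.finite_of_finite F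
  have hfinL : Finite (V ≃ₗ[F] V) := Finite.of_injective (fun f => (f : V → V)) DFunLike.coe_injective
  have hfinP : Finite (P Q) := Quotient.finite _
  have hodd := hp.out.odd_of_ne_two hp2
  have := good_isSimpleGroup hG
  have hcinj := conj_injective_P hG
  obtain ⟨x0, hx0⟩ := H885.FC.Main.inner_of_lin hG hX hodd hXo
  obtain ⟨y0, hy0⟩ := H885.FC.Main.inner_of_lin hG hM hodd hMo
  rw [hx0, orderOf_injective _ hcinj] at hXo
  rw [hy0, orderOf_injective _ hcinj] at hMo
  let S : Sylow p (P Q) := default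
  have h := mpair_of_cyclic hAA (H885.FC.Orth.not_comm_P hG) S (hcyc S) hXo hMo
  rw [hx0, hy0]
  have h2 := h.of_injective (MulAut.conj : P Q →* MulAut (P Q)) hcinj
  refine h2.mono ?_
  rintro _ ⟨r, -, rfl⟩
  exact ⟨r, rfl⟩

/-- translation -/
theorem mpq_of_mpair {p : ℕ} (hG : Good Q) {X Y : Gam Q} (h : MPair p (Inn (P Q)) (Psi Q X) (Psi Q Y)) :
    MPQ Q p X.1 Y.1 := by
  obtain ⟨_, ⟨s, rfl⟩, i, j, h⟩ := h
  obtain ⟨⟨w, hw⟩, rfl⟩ := QuotientGroup.mk_surjective s
  refine ⟨w, hw, i, j, fun k hs => h k ?_⟩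
  obtain ⟨a, ha⟩ := hs
  have h1 : (X ^ i * (ofO w (E_le_O hw) * Y * (ofO w (E_le_O hw))⁻¹) ^ j) ^ p ^ k ∈ (Psi Q).ker := by
    rw [ker_Psi hG]
    have hne : a ≠ 0 := by
      rintro rfl
      have := nontrivial_of_good hG
      obtain ⟨v, hv⟩ := exists_ne (0 : V)
      apply hv
      apply ((X.1 ^ i * (toA w * Y.1 * (toA w)⁻¹) ^ j) ^ p ^ k).injective
      rw [ha, ha, zero_smul, zero_smul]
    refine ⟨Units.mk0 a hne, ?_⟩
    apply Subtype.ext
    ext1 v
    have e : ((X ^ i * (ofO w (E_le_O hw) * Y * (ofO w (E_le_O hw))⁻¹) ^ j) ^ p ^ k).1 =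
        (X.1 ^ i * (toA w * Y.1 * (toA w)⁻¹) ^ j) ^ p ^ k := by
      rw [SubmonoidClass.coe_pow, Subgroup.coe_mul, SubmonoidClass.coe_pow, SubmonoidClass.coe_pow,
        Subgroup.coe_mul, Subgroup.coe_mul, Subgroup.coe_inv]
      rfl
    rw [e, ha, scal_apply, Units.val_mk0]
  rw [← Psi_E hw]
  rw [MonoidHom.mem_ker] at h1
  simpa using h1

end core

end Cfsg.Agent.H862.T5.OAA
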