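import Cfsg.Agent.H208.SimForm
import Cfsg.Agent.H208.ConjSS
import Cfsg.Agent.H951.Main
import Cfsg.Agent.H709.GmnPOmega
import Cfsg.Agent.S0750
import Cfsg.Agent.H957.T5V

/-!
# Orthogonal groups: corrections by reflections, subspaces, isometries of odd order
-/

set_option autoImplicit false
set_option linter.unusedSectionVars false

namespace Cfsg.Agent.H862.T5.OBase

open QuadraticMap Module Cfsg.Agent.LieClassical.OrthCore Cfsg.Agent.LieClassical.OrthTrans
open Cfsg.Agent.ClassicalGeometry.OrthSemi Cfsg.Agent.ClassicalGeometry.OrthAut1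
open Cfsg.Agent.H951 (Frm Nd Inv)
open Cfsg.Agent.H208.Parity (ofO)
open Cfsg.Agent.H957.T5V (IsScal toA)

variable {F V : Type*} [Field F] [AddCommGroup V] [Module F V] {Q : QuadraticForm F V}

/-- the polar form as a function -/
def BB (Q : QuadraticForm F V) : V → V → F := fun u v => polar Q u v

theorem BB_apply (u v : V) : BB Q u v = polar Q u v := rfl

theorem frm_polar (Q : QuadraticForm F V) : Frm (RingHom.id F) 1 (BB Q) where
  add_left u v w := polar_add_left Q u v w
  smul_left a u v := by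
    rw [BB_apply, polar_smul_left]
    rfl
  herm u v := by
    rw [RingHom.id_apply, one_mul, BB_apply, BB_apply, polar_comm]
  sigma_sq a := rfl
  eps_ne := one_ne_zero

theorem refl_of_perp {u v : V} (hu : Q u ≠ 0) (h : polar Q u v = 0) : refl Q u hu v = v := by
  rw [refl_apply, h, mul_zero, zero_smul, sub_zero]

theorem Q_smul_add (a b : V) (t : F) : Q (a + t • b) = Q a + t * polar Q a b + t * t * Q b := by
  rw [Q_add, QuadraticMap.map_smul, polar_smul_right, smul_eq_mul, smul_eq_mul]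
  ring

/-! ### corrections by reflections -/

/-- the group generated by the reflections in the vectors of `S` -/
def RG (Q : QuadraticForm F V) (S : Set V) : Subgroup (V ≃ₗ[F] V) :=
  Subgroup.closure {g : V ≃ₗ[F] V | ∃ u ∈ S, ∃ hu : Q u ≠ 0, g = refl Q u hu}

theorem RG_le_O (S : Set V) : RG Q S ≤ O Q := by
  rw [RG, Subgroup.closure_le]
  rintro _ ⟨u, -, hu, rfl⟩
  exact refl_mem_O hu

theorem exists_corr [FiniteDimensional F V] (hG : Good Q) {S : Set V}
    (hS : ∀ c : F, c ≠ 0 → ∃ u ∈ S, ∃ s : F, s ≠ 0 ∧ Q u = s * s * c) {T : V ≃ₗ[F] V} (hT : T ∈ O Q) :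
    ∃ g ∈ RG Q S, g * T ∈ E Q := by
  rw [O_eq_closure hG.nondeg] at hT
  induction hT using Subgroup.closure_induction with
  | mem T hT =>
    rcases hT with ⟨v, hv, rfl⟩ | ⟨u, w, hu, hw, rfl⟩
    · obtain ⟨u, hu, s, hs, hsu⟩ := hS _ hv
      have hu' : Q u ≠ 0 := by
        rw [hsu]
        exact mul_ne_zero (mul_ne_zero hs hs) hv
      have hs' : s⁻¹ ≠ 0 := inv_ne_zero hs
      have e1 : Q (s⁻¹ • u) = Q v := by
        rw [QuadraticMap.map_smul, hsu, smul_eq_mul]
        field_simp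
      have h1 : Q (s⁻¹ • u) ≠ 0 := by rw [e1]; exact hv
      refine ⟨refl Q u hu', Subgroup.subset_closure ⟨u, hu, hu', rfl⟩, ?_⟩
      rw [← refl_smul hu' hs' h1]
      exact hG.refl_mul_refl_mem hv h1 e1.symm
    · exact ⟨1, Subgroup.one_mem _, by rw [one_mul]; exact siegel_mem_E hu hw⟩
  | one => exact ⟨1, Subgroup.one_mem _, by rw [one_mul]; exact (E Q).one_mem⟩
  | mul a b _ _ ha hb =>
    obtain ⟨g, hg, hga⟩ := ha
    obtain ⟨k, hk, hkb⟩ := hb
    refine ⟨k * g, (RG Q S).mul_mem hk hg, ?_⟩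
    have e : k * g * (a * b) = (k * (g * a) * k⁻¹) * (k * b) := by group
    rw [e]
    exact (E Q).mul_mem (conj_mem_E (RG_le_O S hk) hga) hkb
  | inv a _ ha =>
    obtain ⟨g, hg, hga⟩ := ha
    refine ⟨g⁻¹, (RG Q S).inv_mem hg, ?_⟩
    have e : g⁻¹ * a⁻¹ = (g⁻¹ * (g * a) * g⁻¹⁻¹)⁻¹ := by group
    rw [e]
    exact (E Q).inv_mem (conj_mem_E ((O Q).inv_mem (RG_le_O S hg)) hga)

/-- reflections in vectors of `U` preserve every subspace containing `U` -/
theorem RG_mem {S : Set V} {W : Submodule F V} (hSW : S ⊆ W) {g : V ≃ₗ[F] V} (hg : g ∈ RG Q S) :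
    ∀ w ∈ W, g w ∈ W ∧ g⁻¹ w ∈ W := by
  induction hg using Subgroup.closure_induction with
  | mem g hg =>
    obtain ⟨u, hu, hu', rfl⟩ := hg
    intro w hw
    have h1 : refl Q u hu' w ∈ W := by
      rw [refl_apply]
      exact W.sub_mem hw (W.smul_mem _ (hSW hu))
    exact ⟨h1, by rw [refl_inv]; exact h1⟩
  | one => intro w hw; exact ⟨hw, by rw [inv_one]; exact hw⟩
  | mul a b _ _ ha hb =>
    intro w hw
    refine ⟨(ha _ (hb w hw).1).1, ?_⟩
    rw [mul_inv_rev]
    exact (hb _ (ha w hw).2).2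
  | inv a _ ha =>
    intro w hw
    exact ⟨(ha w hw).2, by rw [inv_inv]; exact (ha w hw).1⟩

/-- reflections in vectors orthogonal to `w` fix `w` -/
theorem RG_fix {S : Set V} {w : V} (hSw : ∀ u ∈ S, polar Q u w = 0) {g : V ≃ₗ[F] V} (hg : g ∈ RG Q S) :
    g w = w ∧ g⁻¹ w = w := by
  induction hg using Subgroup.closure_induction with
  | mem g hg =>
    obtain ⟨u, hu, hu', rfl⟩ := hg
    have h1 : refl Q u hu' w = w := refl_of_perp hu' (hSw u hu)
    exact ⟨h1, by rw [refl_inv]; exact h1⟩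
  | one => exact ⟨rfl, by rw [inv_one]; rfl⟩
  | mul a b _ _ ha hb =>
    refine ⟨?_, ?_⟩
    · show a (b w) = w
      rw [hb.1, ha.1]
    · rw [mul_inv_rev]
      show b⁻¹ (a⁻¹ w) = w
      rw [ha.2, hb.2]
  | inv a _ ha => exact ⟨ha.2, by rw [inv_inv]; exact ha.1⟩

/-! ### restrictions -/

/-- the restriction of the form -/
abbrev qr (Q : QuadraticForm F V) (U : Submodule F V) : QuadraticForm F U := Q.comp U.subtype

theorem qr_apply (U : Submodule F V) (u : U) : qr Q U u = Q (u : V) := rfl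

theorem polar_qr (U : Submodule F V) (u v : U) : polar (qr Q U) u v = polar Q (u : V) (v : V) := by
  simp only [polar, qr_apply, Submodule.coe_add]

theorem nondeg_qr {U : Submodule F V} (hU : Nd (BB Q) U) : Nondeg (qr Q U) := by
  intro u hu
  by_contra h0
  obtain ⟨v, hv, huv⟩ := hU u u.2 (fun h => h0 (Subtype.ext h))
  apply huv
  have h1 := hu ⟨v, hv⟩
  rw [polar_qr] at h1
  exact h1

theorem nd_of_nondeg {U : Submodule F V} (hU : Nondeg (qr Q U)) : Nd (BB Q) U := by
  intro u hu h0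
  by_contra hno
  push Not at hno
  apply h0
  have h1 : (⟨u, hu⟩ : U) = 0 := by
    apply hU
    intro v
    rw [polar_qr]
    exact hno v v.2
  exact congrArg Subtype.val h1

theorem nd_top (hQ : Nondeg Q) : Nd (BB Q) (⊤ : Submodule F V) := by
  intro u _ h0
  by_contra hno
  push Not at hno
  exact h0 (hQ u fun v => hno v trivial)

theorem exists_hyp_sub [Finite F] [FiniteDimensional F V] {U : Submodule F V} (hU : Nd (BB Q) U)
    (hd : 3 ≤ finrank F U) : ∃ x ∈ U, ∃ y ∈ U, Hyp Q x y := by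
  obtain ⟨x, y, h⟩ := GenOrth.exists_hyp_of_nondeg (nondeg_qr hU) hd
  refine ⟨x, x.2, y, y.2, h.left, h.right, ?_⟩
  rw [← polar_qr]
  exact h.pair

theorem Hyp.norm {x y : V} (h : Hyp Q x y) (c : F) : Q (x + c • y) = c := by
  rw [Q_smul_add, h.left, h.right, h.pair]
  ring

/-- nondegenerate subspaces of dimension at least three represent everything -/
theorem exists_norm_sub [Finite F] [FiniteDimensional F V] {U : Submodule F V} (hU : Nd (BB Q) U)
    (hd : 3 ≤ finrank F U) (c : F) : ∃ u ∈ U, Q u = c := by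
  obtain ⟨x, hx, y, hy, h⟩ := exists_hyp_sub hU hd
  exact ⟨x + c • y, U.add_mem hx (U.smul_mem _ hy), Hyp.norm h c⟩

/-! ### lifts -/

theorem exists_scal (hG : Good Q) {M : Gam Q} (h : Psi Q M = 1) : ∃ a : Fˣ, M = scal Q a := by
  have h1 : M ∈ (Psi Q).ker := h
  rw [ker_Psi hG] at h1
  obtain ⟨a, ha⟩ := h1
  exact ⟨a, ha.symm⟩

/-- the inner automorphism of an element of `E Q` -/
theorem Psi_E {h : V ≃ₗ[F] V} (hh : h ∈ E Q) :
    Psi Q (ofO h (E_le_O hh)) = MulAut.conj (QuotientGroup.mk (⟨h, hh⟩ : E Q) : P Q) := by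
  ext x
  induction x using QuotientGroup.induction_on with
  | H s =>
    rw [Psi_mk, MulAut.conj_apply]
    have : conjE Q (ofO h (E_le_O hh)) s = ⟨h, hh⟩ * s * (⟨h, hh⟩ : E Q)⁻¹ := by
      apply Subtype.ext
      ext v
      rw [coe_conjE]
      rfl
    rw [this]
    rfl

/-- linear automorphisms of odd order come from isometries -/
theorem exists_isom (hG : Good Q) {p : ℕ} (hp : Odd p) {M : Gam Q} {μ : F} (hM : IsSS Q (RingEquiv.refl F) μ M.1)
    (hMp : Psi Q M ^ p = 1) : ∃ (g : V ≃ₗ[F] V) (hg : g ∈ O Q), g ^ p = 1 ∧ Psi Q M = Psi Q (ofO g hg) := by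
  obtain ⟨b, hb⟩ := exists_scal hG (M := M ^ p) (by rw [map_pow, hMp])
  have hb' : ∀ v, (M.1 ^ p) v = (b : F) • v := by
    intro v
    have h4 : (M ^ p).1 v = (scal Q b).1 v := by rw [hb]
    exact h4
  have hMf : ∀ v, Q (M.1 v) = μ * Q v := hM.form
  have hpow : ∀ (n : ℕ) (v : V), Q ((M.1 ^ n) v) = μ ^ n * Q v := by
    intro n
    induction n with
    | zero => intro v; simp
    | succ n ih =>
      intro v
      rw [pow_succ', Equiv.Perm.mul_apply, hMf, ih, pow_succ]
      ring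
  obtain ⟨x, y, hxy⟩ := hG.exists_hyp
  have hv1 : Q (x + (1 : F) • y) = 1 := Hyp.norm hxy 1
  have hμb : μ ^ p = (b : F) * b := by
    have h1 := hpow p (x + (1 : F) • y)
    rw [hb', QuadraticMap.map_smul, hv1, smul_eq_mul, mul_one, mul_one] at h1
    exact h1.symm
  obtain ⟨k, hk⟩ := hp
  have hb0 : (b : F) ≠ 0 := b.ne_zero
  have hμ0 : μ ≠ 0 := hM.ne
  set s : F := (b : F)⁻¹ * μ ^ k with hs
  have hs0 : s ≠ 0 := mul_ne_zero (inv_ne_zero hb0) (pow_ne_zero _ hμ0)
  have hs2 : s * s * μ = 1 := by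
    have h1 : s * s * μ = ((b : F) * b)⁻¹ * μ ^ (2 * k + 1) := by
      rw [hs]
      field_simp
      ring
    rw [h1, ← hk, hμb]
    field_simp
  have hsp : s ^ p * b = 1 := by
    have h1 : s ^ p = ((b : F) ^ p)⁻¹ * (μ ^ p) ^ k := by
      rw [hs, mul_pow, inv_pow, ← pow_mul, ← pow_mul, mul_comm k p]
    rw [h1, hμb, hk]
    have h2 : ((b : F) * b) ^ k = (b : F) ^ (2 * k) := by rw [← pow_two, ← pow_mul]
    rw [h2, pow_succ]
    field_simp
  let g : V ≃ₗ[F] V :=
    { toFun := fun v => s • M.1 v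
      invFun := fun v => M.1⁻¹ (s⁻¹ • v)
      map_add' := fun u v => by rw [hM.add, smul_add]
      map_smul' := fun a v => by
        rw [hM.smul, RingHom.id_apply, smul_comm]
        rfl
      left_inv := fun v => by
        show M.1⁻¹ (s⁻¹ • s • M.1 v) = v
        rw [smul_smul, inv_mul_cancel₀ hs0, one_smul]
        exact M.1.symm_apply_apply v
      right_inv := fun v => by
        show s • M.1 (M.1⁻¹ (s⁻¹ • v)) = v
        have : M.1 (M.1⁻¹ (s⁻¹ • v)) = s⁻¹ • v := M.1.apply_symm_apply _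
        rw [this, smul_smul, mul_inv_cancel₀ hs0, one_smul] }
  have hgv : ∀ v, g v = s • M.1 v := fun v => rfl
  have hg : g ∈ O Q := by
    intro v
    rw [hgv, QuadraticMap.map_smul, hMf, smul_eq_mul]
    linear_combination (Q v) * hs2
  refine ⟨g, hg, ?_, ?_⟩
  · have h1 : ∀ (n : ℕ) (v : V), (g ^ n) v = s ^ n • (M.1 ^ n) v := by
      intro n
      induction n with
      | zero => intro v; simp
      | succ n ih =>
        intro v
        rw [pow_succ', LinearEquiv.mul_apply, ih, hgv, hM.smul, pow_succ' M.1, Equiv.Perm.mul_apply, smul_smul,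
          pow_succ' s]
        rfl
    ext v
    rw [h1, hb', smul_smul, hsp, one_smul]
    rfl
  · have h1 : ofO g hg = scal Q (Units.mk0 s hs0) * M := by
      apply Subtype.ext
      ext v
      rfl
    rw [h1, map_mul, H208.ConjSS.Psi_scal hG, one_mul]

end Cfsg.Agent.H862.T5.OBase
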