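import Cfsg.Agent.H862.T5.OLinFour2
import Cfsg.Agent.H951.SBridge

/-!
# Blocks of linear isometries of order `p` (T5)

`exists_plus_block`, `exists_minus_block` : a nontrivial isometry `g` with `g ^ p = 1` has an invariant subspace of
plus type and dimension `2 i` (`i = ord_p(q)` odd), of minus type and dimension `i` (`i` even), without fixed vectors.
-/

set_option autoImplicit false
set_option linter.unusedSectionVars false

namespace Cfsg.Agent.H862.T5.OBlock

open QuadraticMap Module Cfsg.Agent.LieClassical.OrthCore Cfsg.Agent.LieClassical.OrthTrans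
open Cfsg.Agent.LieClassical.OrthForms
open Cfsg.Agent.H862.T5.OBase Cfsg.Agent.H862.T5.OFrame Cfsg.Agent.H862.T5.OPlusFour Cfsg.Agent.H862.T5.OLinFour
open Cfsg.Agent.H957.T5V
open Cfsg.Agent.H951
open Cfsg.Agent.ClassicalGeometry.OrthSemiForms (card_O)

variable {F V : Type*} [Field F] [AddCommGroup V] [Module F V] {Q : QuadraticForm F V}

/-- an alternating form -/
def AF (Q : QuadraticForm F V) (g : V ≃ₗ[F] V) : V → V → F := fun u v => polar Q (g u) v - polar Q (g⁻¹ u) v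

theorem polar_adj {g : V ≃ₗ[F] V} (hg : g ∈ O Q) (u v : V) : polar Q (g v) u = polar Q v (g⁻¹ u) := by
  have h1 := isom_en hg v (g⁻¹ u)
  have h2 : g (g⁻¹ u) = u := g.apply_symm_apply u
  have h3 : BB Q (en g v) (en g (g⁻¹ u)) = polar Q (g v) (g (g⁻¹ u)) := rfl
  rw [h3, h2] at h1
  exact h1

theorem frm_AF {g : V ≃ₗ[F] V} (hg : g ∈ O Q) : Frm (RingHom.id F) (-1) (AF Q g) where
  add_left u v w := by
    rw [AF, AF, AF, map_add, map_add, polar_add_left, polar_add_left]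
    ring
  smul_left a u v := by
    rw [AF, AF, map_smul, map_smul, polar_smul_left, polar_smul_left, smul_eq_mul, smul_eq_mul]
    ring
  herm u v := by
    rw [AF, AF, RingHom.id_apply, polar_adj hg, polar_adj hg, polar_adj ((O Q).inv_mem hg),
      polar_adj ((O Q).inv_mem hg), inv_inv, polar_comm Q v, polar_comm Q v, polar_adj hg,
      polar_adj ((O Q).inv_mem hg), inv_inv]
    ring
  sigma_sq a := rfl
  eps_ne := neg_ne_zero.2 one_ne_zero

theorem kind_AF {g : V ≃ₗ[F] V} (hg : g ∈ O Q) : Kind (RingHom.id F) (-1) (AF Q g) := by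
  refine Or.inr ⟨rfl, rfl, fun v => ?_⟩
  rw [AF, polar_adj hg, polar_comm Q v, sub_self]

theorem inv_of_inv [FiniteDimensional F V] {g : V ≃ₗ[F] V} {W : Submodule F V} (hW : Inv (en g) W) :
    ∀ w ∈ W, g⁻¹ w ∈ W := by
  have h1 : W.map (en g) = W := by
    apply Submodule.eq_of_le_of_finrank_eq (inv_iff_map.1 hW)
    exact (Submodule.equivMapOfInjective (en g) (en_injective g) _).finrank_eq.symm
  intro w hw
  rw [← h1] at hw
  obtain ⟨w', hw', rfl⟩ := hw
  have : g⁻¹ (g w') = w' := g.symm_apply_apply w'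
  show g⁻¹ (g w') ∈ _
  rw [this]
  exact hw'

theorem eq_of_sq {g : V ≃ₗ[F] V} {p : ℕ} (hodd : Odd p) (hgp : g ^ p = 1) {u : V} (h : g (g u) = u) : g u = u := by
  obtain ⟨k, hk⟩ := hodd
  have h2 : ∀ n : ℕ, (g ^ (2 * n)) u = u := by
    intro n
    induction n with
    | zero => simp
    | succ n ih =>
      rw [mul_add, mul_one, pow_add, LinearEquiv.mul_apply, pow_two, LinearEquiv.mul_apply, h, ih]
  have h3 : (g ^ p) u = u := by rw [hgp]; rfl
  rw [hk, pow_succ', LinearEquiv.mul_apply, h2] at h3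
  exact h3

theorem even_finrank [FiniteDimensional F V] {g : V ≃ₗ[F] V} (hg : g ∈ O Q) {p : ℕ} [hp : Fact p.Prime]
    (hp2 : p ≠ 2) (hpF : (p : F) ≠ 0) (hgp : g ^ p = 1) {W : Submodule F V} (hW : Inv (en g) W)
    (hWn : Nd (BB Q) W) (hWc : W ≤ cm (en g)) : Even (finrank F W) := by
  refine even_of_kind (frm_AF hg) (kind_AF hg) (U := W) ?_ rfl
  intro u hu hu0
  have h1 : g u - g⁻¹ u ∈ W := W.sub_mem (hW u hu) (inv_of_inv hW u hu)
  have h2 : g u - g⁻¹ u ≠ 0 := by
    intro h0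
    rw [sub_eq_zero] at h0
    have h3 : g (g u) = u := by
      rw [h0]
      exact g.apply_symm_apply u
    exact ne_of_mem_cm hpF hgp (hWc hu) hu0 (eq_of_sq (hp.out.odd_of_ne_two hp2) hgp h3)
  obtain ⟨v, hv, h3⟩ := hWn _ h1 h2
  refine ⟨v, hv, ?_⟩
  rw [BB_apply, polar_sub_left] at h3
  exact h3

/-- the dimension of the blocks is `c` -/
theorem dvd_finrank [Fintype F] [FiniteDimensional F V] {g : V ≃ₗ[F] V} (hg : g ∈ O Q) {p : ℕ} [hp : Fact p.Prime]
    (hp2 : p ≠ 2) (hpF : (p : F) ≠ 0) (hgp : g ^ p = 1) {c : ℕ}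
    (hc : c = if Even (orderOf (Fintype.card F : ZMod p)) then orderOf (Fintype.card F : ZMod p) else
      2 * orderOf (Fintype.card F : ZMod p)) {W : Submodule F V} (hW : Inv (en g) W)
    (hWn : Nd (BB Q) W) (hWc : W ≤ cm (en g)) : c ∣ finrank F W := by
  obtain ⟨j, hj⟩ := even_finrank hg hp2 hpF hgp hW hWn hWc
  have h1 := ord_dvd_finrank (en_pow_one hgp) hW (Cfsg.Agent.H951.inf_fx_of_le_cm hpF (en_pow_one hgp) hWc)
  have h2 : finrank F W = 2 * j := by omega
  rw [h2, dvd_iff_cs hc, ← h2]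
  exact h1

theorem exists_block [Fintype F] [FiniteDimensional F V] (hQ : Nondeg Q) {g : V ≃ₗ[F] V} (hg : g ∈ O Q) {p : ℕ}
    [hp : Fact p.Prime] (hp2 : p ≠ 2) (hpF : (p : F) ≠ 0) (hgp : g ^ p = 1) (hg1 : g ≠ 1) {c : ℕ}
    (hc : c = if Even (orderOf (Fintype.card F : ZMod p)) then orderOf (Fintype.card F : ZMod p) else
      2 * orderOf (Fintype.card F : ZMod p)) :
    ∃ W : Submodule F V, W ≤ cm (en g) ∧ Inv (en g) W ∧ Nd (BB Q) W ∧ finrank F W = c := by
  have hB := frm_polar Q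
  have hxr := en_pow_one hgp
  have hVn := nd_top hQ
  have hx := isom_en hg
  have hcmn : Nd (BB Q) (cm (en g)) := hx.nd_cm hB hpF hxr hVn
  have hcm0 : cm (en g) ≠ ⊥ := by
    intro h
    apply hg1
    ext1 v
    have h1 : g v - v ∈ cm (en g) := mem_cm.2 ⟨v, rfl⟩
    rw [h, Submodule.mem_bot] at h1
    exact sub_eq_zero.1 h1
  obtain ⟨l, hchar⟩ := CharP.exists F
  have hl : Fact l.Prime := ⟨CharP.char_is_prime F l⟩
  obtain ⟨W, hWc, hW, hWn, hWd⟩ := exists_nd_block hpF hp2 (p := l) hB hx hxr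
    (fun W' h1 h2 h3 => dvd_finrank hg hp2 hpF hgp hc h1 h2 h3)
    (blockNum_symp hp2 rfl rfl (ord_pos hpF) hc) inv_cm hcmn le_rfl hcm0
  exact ⟨W, hWc, hW, hWn, hWd⟩

/-! ### the type -/

theorem dvd_sub_iff {p q : ℕ} [Fact p.Prime] (hq : 0 < q) (j : ℕ) :
    p ∣ q ^ j - 1 ↔ orderOf (q : ZMod p) ∣ j := by
  rw [orderOf_dvd_iff_pow_eq_one, ← ZMod.natCast_eq_zero_iff, Nat.cast_sub (Nat.one_le_pow _ _ hq)]
  push_cast
  rw [sub_eq_zero]

theorem not_dvd_plus {p q m : ℕ} [hp : Fact p.Prime] (hp2 : p ≠ 2) (hq : 0 < q) (hpq : ¬ p ∣ q) (hm : 1 ≤ m)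
    (he : orderOf (q : ZMod p) = 2 * m) :
    ¬ p ∣ 2 * q ^ (m * (m - 1)) * (q ^ m - 1) * ∏ i ∈ Finset.range (m - 1), (q ^ (2 * (i + 1)) - 1) := by
  intro h
  have hpp := hp.out
  rcases hpp.dvd_mul.1 h with h | h
  · rcases hpp.dvd_mul.1 h with h | h
    · rcases hpp.dvd_mul.1 h with h | h
      · exact hp2 ((Nat.prime_dvd_prime_iff_eq hpp Nat.prime_two).1 h)
      · exact hpq (hpp.dvd_of_dvd_pow h)
    · rw [dvd_sub_iff hq, he] at h
      have := Nat.le_of_dvd (by omega) h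
      omega
  · rw [hpp.prime.dvd_finset_prod_iff] at h
    obtain ⟨i, hi, h⟩ := h
    rw [Finset.mem_range] at hi
    rw [dvd_sub_iff hq, he] at h
    have := Nat.le_of_dvd (by omega) h
    omega

theorem not_dvd_minus {p q m : ℕ} [hp : Fact p.Prime] (hp2 : p ≠ 2) (hq : 0 < q) (hpq : ¬ p ∣ q) (hm : Odd m)
    (he : orderOf (q : ZMod p) = m) :
    ¬ p ∣ 2 * q ^ (m * (m - 1)) * (q ^ m + 1) * ∏ i ∈ Finset.range (m - 1), (q ^ (2 * (i + 1)) - 1) := by
  intro h
  have hpp := hp.out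
  rcases hpp.dvd_mul.1 h with h | h
  · rcases hpp.dvd_mul.1 h with h | h
    · rcases hpp.dvd_mul.1 h with h | h
      · exact hp2 ((Nat.prime_dvd_prime_iff_eq hpp Nat.prime_two).1 h)
      · exact hpq (hpp.dvd_of_dvd_pow h)
    · have h1 : p ∣ q ^ m - 1 := by rw [dvd_sub_iff hq, he]
      have h2 : p ∣ (q ^ m + 1) - (q ^ m - 1) := Nat.dvd_sub h h1
      have h3 : (q ^ m + 1) - (q ^ m - 1) = 2 := by
        have : 0 < q ^ m := pow_pos hq m
        omega
      rw [h3] at h2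
      exact hp2 ((Nat.prime_dvd_prime_iff_eq hpp Nat.prime_two).1 h2)
  · rw [hpp.prime.dvd_finset_prod_iff] at h
    obtain ⟨i, hi, h⟩ := h
    rw [Finset.mem_range] at hi
    rw [dvd_sub_iff hq, he] at h
    have h2 : Nat.Coprime m 2 := Nat.coprime_two_right.2 hm
    have := Nat.le_of_dvd (by omega) (h2.dvd_of_dvd_mul_left h)
    omega

theorem not_dvd_card [Fintype F] {p : ℕ} [hp : Fact p.Prime] (hpF : (p : F) ≠ 0) : ¬ p ∣ Fintype.card F := by
  intro h
  obtain ⟨l, hchar⟩ := CharP.exists F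
  have hl : l.Prime := CharP.char_is_prime F l
  obtain ⟨n, -, hn⟩ := FiniteField.card F l
  rw [hn] at h
  have h1 := (Nat.prime_dvd_prime_iff_eq hp.out hl).1 (hp.out.dvd_of_dvd_pow h)
  apply hpF
  rw [h1]
  exact CharP.cast_eq_zero F l

/-- `p` divides the order of the isometry group of a block -/
theorem dvd_card_block [Finite F] [FiniteDimensional F V] {g : V ≃ₗ[F] V} (hg : g ∈ O Q) {p : ℕ}
    [hp : Fact p.Prime] (hpF : (p : F) ≠ 0) (hgp : g ^ p = 1) {W : Submodule F V} (hW : Inv (en g) W)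
    (hWn : Nd (BB Q) W) (hWc : W ≤ cm (en g)) (h0 : W ≠ ⊥) : p ∣ Nat.card (O (qr Q W)) := by
  have hemb : Emb Q (qr Q W) W.subtype := ⟨fun u => rfl⟩
  have hr : LinearMap.range W.subtype = W := Submodule.range_subtype W
  obtain ⟨g', hg', hgg'⟩ := exists_restrict hemb (nondeg_qr hWn) hg (by rw [hr]; exact hW)
    (by rw [hr]; exact inv_of_inv hW)
  have hpow : ∀ (n : ℕ) (u : W), (g ^ n) (u : V) = ((g' ^ n) u : V) := by
    intro n
    induction n with
    | zero => intro u; rfl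
    | succ n ih =>
      intro u
      rw [pow_succ', LinearEquiv.mul_apply, ih, pow_succ', LinearEquiv.mul_apply]
      exact hgg' _
  have h1 : g' ^ p = 1 := by
    ext1 u
    apply Subtype.ext
    rw [← hpow, hgp]
    rfl
  have h2 : g' ≠ 1 := by
    rintro rfl
    obtain ⟨u, hu, hu0⟩ := (Submodule.ne_bot_iff W).1 h0
    exact ne_of_mem_cm hpF hgp (hWc hu) hu0 (hgg' ⟨u, hu⟩)
  have h3 : orderOf (⟨g', hg'⟩ : O (qr Q W)) = p := by
    apply orderOf_eq_prime
    · exact Subtype.ext h1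
    · intro h
      exact h2 (congrArg Subtype.val h)
  have hfin : Finite V := Module.finite_of_finite F
  have : Finite (W ≃ₗ[F] W) := Finite.of_injective (fun f => (f : W → W)) DFunLike.coe_injective
  rw [← h3]
  exact orderOf_dvd_natCard _

/-- **Blocks, `ord_p(q)` odd.** -/
theorem exists_plus_block [Fintype F] [FiniteDimensional F V] (hQ : Nondeg Q) {g : V ≃ₗ[F] V} (hg : g ∈ O Q) {p : ℕ}
    [hp : Fact p.Prime] (hp2 : p ≠ 2) (hpF : (p : F) ≠ 0) (hgp : g ^ p = 1) (hg1 : g ≠ 1) {m : ℕ}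
    (hm : orderOf (Fintype.card F : ZMod p) = m) (hodd : Odd m) :
    ∃ j : (Fin m ⊕ Fin m → F) →ₗ[F] V, Emb Q (plusForm m F) j ∧ Inv (en g) (LinearMap.range j) ∧
      LinearMap.range j ≤ cm (en g) := by
  have hmpos := hodd.pos
  obtain ⟨W, hWc, hW, hWn, hWd⟩ := exists_block hQ hg hp2 hpF hgp hg1 (c := 2 * m) (by
    rw [hm, if_neg (Nat.not_even_iff_odd.2 hodd)])
  have h0 : W ≠ ⊥ := by
    rintro rfl
    rw [finrank_bot] at hWd
    omega
  have hdvd := dvd_card_block hg hpF hgp hW hWn hWc h0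
  rcases H709.GmnPOmega.nf_even (nondeg_qr hWn) (m := m) hmpos hWd with ⟨e, he⟩ | ⟨a, b, hab, e, he⟩
  · refine ⟨W.subtype ∘ₗ e.toLinearMap, ⟨fun u => ?_⟩, ?_, ?_⟩
    · exact he u
    · rw [LinearMap.range_comp, LinearEquiv.range, Submodule.map_top, Submodule.range_subtype]
      exact hW
    · rw [LinearMap.range_comp, LinearEquiv.range, Submodule.map_top, Submodule.range_subtype]
      exact hWc
  · exfalso
    rw [← H709.GmnPOmega.card_O_iso he, card_O, coe_minusForm,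
      Cfsg.Agent.S0288.result rfl m (by omega) a b hab] at hdvd
    exact not_dvd_minus hp2 Fintype.card_pos (not_dvd_card hpF) hodd hm hdvd

/-- **Blocks, `ord_p(q)` even.** -/
theorem exists_minus_block [Fintype F] [FiniteDimensional F V] (hQ : Nondeg Q) {g : V ≃ₗ[F] V} (hg : g ∈ O Q) {p : ℕ}
    [hp : Fact p.Prime] (hp2 : p ≠ 2) (hpF : (p : F) ≠ 0) (hgp : g ^ p = 1) (hg1 : g ≠ 1) {m : ℕ}
    (hm : orderOf (Fintype.card F : ZMod p) = 2 * m) {a b : F} (hab : GenOrth.Aniso a b) :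
    ∃ j : ((Fin (m - 1) ⊕ Fin (m - 1)) ⊕ Fin 2 → F) →ₗ[F] V, Emb Q (minusForm (m - 1) F a b) j ∧
      Inv (en g) (LinearMap.range j) ∧ LinearMap.range j ≤ cm (en g) := by
  have hmpos : 0 < m := by
    have := ord_pos (F := F) hpF
    omega
  obtain ⟨W, hWc, hW, hWn, hWd⟩ := exists_block hQ hg hp2 hpF hgp hg1 (c := 2 * m) (by
    rw [hm, if_pos (even_two_mul m)])
  have h0 : W ≠ ⊥ := by
    rintro rfl
    rw [finrank_bot] at hWd
    omega
  have hdvd := dvd_card_block hg hpF hgp hW hWn hWc h0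
  rcases H709.GmnPOmega.nf_even (nondeg_qr hWn) (m := m) hmpos hWd with ⟨e, he⟩ | ⟨a', b', hab', e, he⟩
  · exfalso
    rw [← H709.GmnPOmega.card_O_iso he, card_O, coe_plusForm,
      Cfsg.Agent.S0287.result rfl m (by omega)] at hdvd
    exact not_dvd_plus hp2 Fintype.card_pos (not_dvd_card hpF) hmpos hm hdvd
  · obtain ⟨f, hf⟩ := H193.QuadEmb.minus_iso (F := F) (m - 1) hab hab' one_ne_zero
    refine ⟨W.subtype ∘ₗ e.toLinearMap ∘ₗ f.toLinearMap, ⟨fun u => ?_⟩, ?_, ?_⟩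
    · have h1 : qr Q W (e (f u)) = minusForm (m - 1) F a b u := by
        rw [he, coe_minusForm, hf, one_mul, coe_minusForm]
      exact h1
    · rw [LinearMap.range_comp, LinearMap.range_comp, LinearEquiv.range, Submodule.map_top, LinearEquiv.range,
        Submodule.map_top, Submodule.range_subtype]
      exact hW
    · rw [LinearMap.range_comp, LinearMap.range_comp, LinearEquiv.range, Submodule.map_top, LinearEquiv.range,
        Submodule.map_top, Submodule.range_subtype]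
      exact hWc

end Cfsg.Agent.H862.T5.OBlock
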