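import Cfsg.Agent.H862.T5.OBlock
import Cfsg.Agent.H885.FC.Main

/-!
# Fixed points of nonlinear semisimilitudes (T5), all dimensions at least 5

`FN p d` : the automorphism `d` has a simple subgroup of fixed points of order divisible by `p`, normalised by all fixed
points, with trivial centraliser.
-/

set_option autoImplicit false
set_option linter.unusedSectionVars false

namespace Cfsg.Agent.H862.T5.OFix

open Matrix QuadraticMap Module Cfsg.Agent.LieClassical.OrthCore Cfsg.Agent.LieClassical.OrthTrans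
  Cfsg.Agent.ClassicalGeometry.OrthSemi Cfsg.Agent.ClassicalGeometry.OrthAut1
  Cfsg.Agent.AutOrth.SemiSim Cfsg.Agent.H198.OrthFrame Cfsg.Agent.H185.OrthCent Cfsg.Agent.H185.ExtKappa
  Cfsg.Agent.H208.ExtE Cfsg.Agent.H208.FixPt Cfsg.Agent.AutOrth.Main Cfsg.Agent.H208.FixGood
open Cfsg.Agent.LieClassical.OrthSimple (good_isSimpleGroup)
open Cfsg.Agent.H208.Parity (ofO)
open Cfsg.Agent.H885.FC
open Cfsg.Agent.H966.Frob Cfsg.Agent.H208.Frame
open Cfsg.Agent.LieClassical.QuadForms Cfsg.Agent.H208.SimForm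
open Cfsg.Agent.H208.ConjSS (exists_normal isSS_scal_mul Psi_scal nontrivial_of_good)

universe u v

/-- a simple subgroup of fixed points -/
def FN (p : ℕ) {Y : Type*} [Group Y] (d : MulAut Y) : Prop :=
  ∃ N : Subgroup Y, IsSimpleGroup ↥N ∧ (¬ IsMulCommutative ↥N) ∧ p ∣ Nat.card ↥N ∧ (∀ y ∈ N, d y = y) ∧
    (∀ c, d c = c → ∀ y ∈ N, c * y * c⁻¹ ∈ N) ∧ ∀ y, (∀ n ∈ N, Commute y n) → y = 1

theorem FN.congr {p : ℕ} {Y Y' : Type*} [Group Y] [Group Y'] (e : Y ≃* Y') {x : MulAut Y} {x' : MulAut Y'}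
    (hxx : ∀ y, x' (e y) = e (x y)) (h : FN p x) : FN p x' := by
  obtain ⟨N, h1, h2, h3, h4, h5, h6⟩ := h
  let eN : ↥N ≃* ↥(N.map e.toMonoidHom) := N.equivMapOfInjective e.toMonoidHom e.injective
  have hcN : Nat.card ↥(N.map e.toMonoidHom) = Nat.card ↥N := (Nat.card_congr eN.toEquiv).symm
  refine ⟨N.map e.toMonoidHom, ?_, ?_, ?_, ?_, ?_, ?_⟩
  · have : Nontrivial ↥(N.map e.toMonoidHom) := eN.symm.toEquiv.nontrivial
    exact IsSimpleGroup.isSimpleGroup_of_surjective eN.toMonoidHom eN.surjective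
  · intro h9
    apply h2
    refine ⟨⟨fun a b => eN.injective ?_⟩⟩
    rw [map_mul, map_mul]
    exact h9.is_comm.comm _ _
  · rw [hcN]
    exact h3
  · rintro _ ⟨y, hy, rfl⟩
    change x' (e y) = e y
    rw [hxx, h4 y hy]
  · rintro c hc _ ⟨y, hy, rfl⟩
    obtain ⟨c, rfl⟩ := e.surjective c
    rw [hxx, e.injective.eq_iff] at hc
    refine ⟨c * y * c⁻¹, h5 c hc y hy, ?_⟩
    show e (c * y * c⁻¹) = e c * e y * (e c)⁻¹
    rw [map_mul, map_mul, map_inv]
  · intro y hy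
    obtain ⟨y, rfl⟩ := e.surjective y
    rw [h6 y fun n hn => ?_, map_one]
    have h7 := hy (e n) ⟨n, hn, rfl⟩
    apply e.injective
    show e (y * n) = e (n * y)
    rw [map_mul, map_mul]
    exact h7

section Frob

variable {ι : Type} [Fintype ι] [DecidableEq ι] {F : Type u} [Field F] {F₀ : Type v} [Field F₀]
  {j : F₀ →+* F} {Q₀ : QuadraticForm F₀ (ι → F₀)} {Q : QuadraticForm F (ι → F)}

/-- a linear semisimilitude centralising the subfield group is scalar -/
theorem psi_eq_one_of_fix [Finite F] (hx : Ext j Q₀ Q) (hG₀ : Good Q₀) (hG : Good Q) {N : Gam Q} {c : F}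
    (hN : IsSS Q (RingEquiv.refl F) c N.1) (hy : ∀ g, Psi Q N (emb hx g) = emb hx g) : Psi Q N = 1 := by
  have h1 : (conjE Q N).toMonoidHom.comp (extE hx) = extE hx := by
    apply hom_eq (commutator_E hG₀)
    intro g
    have h2 := hy g
    rw [emb_apply, Psi_mk] at h2
    have h3 := (Subgroup.center ↥(E Q)).inv_mem (QuotientGroup.eq.1 h2)
    rw [_root_.mul_inv_rev, inv_inv] at h3
    have h4 : conjE Q N (extE hx g) * (extE hx g)⁻¹ =
        (extE hx g) * ((extE hx g)⁻¹ * conjE Q N (extE hx g)) * (extE hx g)⁻¹ := by group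
    change conjE Q N (extE hx g) * (extE hx g)⁻¹ ∈ _
    rw [h4]
    exact Subgroup.Normal.conj_mem inferInstance _ h3 _
  have h2 : ∀ (g : ↥(E Q₀)) (v : ι → F), N.1 ((extE hx g : (ι → F) ≃ₗ[F] (ι → F)) v) =
      (extE hx g : (ι → F) ≃ₗ[F] (ι → F)) (N.1 v) := by
    intro g v
    have h3 : conjE Q N (extE hx g) = extE hx g := DFunLike.congr_fun h1 g
    have h4 := congrArg Subtype.val h3
    rw [coe_conjE] at h4
    rw [← conjLin_apply', h4]
  have hfix : ∀ u : ι → F₀, Q₀ u = 0 → u ≠ 0 → ∃ a : F, N.1 (jv j u) = a • jv j u := by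
    intro u hu hu0
    apply Cfsg.Agent.H208.ExtE.eq_smul_of_fixed hx hG₀ hG.nondeg hu hu0
    intro w hw
    have h3 := h2 (sg Q₀ u w hu hw) (jv j u)
    rw [extE_jv, sg_self] at h3
    rw [extE_sg] at h3
    exact h3.symm
  obtain ⟨-, a, ha0, ha⟩ := smul_of_fix hx hG₀ N hN hfix
  have h4 := semi_eq (N := { N.1 with map_add' := hN.add }) (σ := RingEquiv.refl F) hN.smul ha
  have h6 : N = scal Q (Units.mk0 a ha0) := by
    apply Subtype.ext
    ext1 v
    rw [scal_apply, Units.val_mk0]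
    exact h4 v
  rw [← MonoidHom.mem_ker, ker_Psi hG, h6]
  exact ⟨_, rfl⟩

/-- **The standard field automorphism.** -/
theorem fn_frob [Finite F] [Finite F₀] (hx : Ext j Q₀ Q) (hG₀ : Good Q₀) (hG : Good Q)
    {σ : F ≃+* F} (hσ : Fix σ Q) (hj : ∀ a, σ a = a ↔ ∃ b, j b = a) {p : ℕ} (hdvd : p ∣ Nat.card (P Q₀)) :
    FN p (Psi Q (frobG hσ)) := by
  have hsimple := good_isSimpleGroup hG₀
  have hn : Nonempty ι := by
    have := nontrivial_of_good hG
    by_contra h
    rw [not_nonempty_iff] at h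
    exact not_subsingleton (ι → F) inferInstance
  have hjf : ∀ b, σ (j b) = j b := fun b => (hj _).2 ⟨b, rfl⟩
  have e : P Q₀ ≃* ↥(emb hx).range := embEquiv hx hG₀ hG
  refine ⟨(emb hx).range, ?_, ?_, ?_, ?_, ?_, ?_⟩
  · have : Nontrivial ↥(emb hx).range := e.symm.toEquiv.nontrivial
    exact IsSimpleGroup.isSimpleGroup_of_surjective e.toMonoidHom e.surjective
  · intro h9
    apply H885.FC.Orth.not_comm_P hG₀
    refine ⟨⟨fun a b => e.injective ?_⟩⟩
    rw [map_mul, map_mul]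
    exact h9.is_comm.comm _ _
  · rwa [← Nat.card_congr e.toEquiv]
  · rintro _ ⟨a, rfl⟩
    exact Psi_frob_emb hx hσ hjf a
  · rintro c hc _ ⟨a, rfl⟩
    obtain ⟨g₀, hg₀⟩ := exists_rat hx hG₀ hG hσ hj hc
    rw [← MulAut.conj_apply, hg₀, Psi_emb]
    exact ⟨_, rfl⟩
  · intro y hy
    obtain ⟨⟨n, hn⟩, rfl⟩ := QuotientGroup.mk_surjective y
    have h1 := OBase.Psi_E hn
    have h2 : Psi Q (ofO n (E_le_O hn)) = 1 := by
      refine psi_eq_one_of_fix hx hG₀ hG (c := 1) ?_ fun g => ?_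
      · exact ⟨one_ne_zero, fun u v => map_add n u v, fun a v => map_smul n a v, fun v => by
          rw [one_mul]
          exact E_le_O hn v⟩
      · rw [h1, MulAut.conj_apply]
        have h3 := hy _ ⟨g, rfl⟩
        rw [h3.eq, mul_inv_cancel_right]
    rw [h1] at h2
    have h3 : (QuotientGroup.mk (⟨n, hn⟩ : E Q) : P Q) ∈ Subgroup.center (P Q) := by
      rw [Subgroup.mem_center_iff]
      intro g
      have h10 : MulAut.conj (QuotientGroup.mk (⟨n, hn⟩ : E Q) : P Q) g = g := by rw [h2]; rfl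
      rw [MulAut.conj_apply] at h10
      exact (mul_inv_eq_iff_eq_mul.1 h10).symm
    rw [center_P hG] at h3
    exact h3

end Frob

/-! ### orders -/

section Card

variable {F : Type u} {V : Type v} [Field F] [AddCommGroup V] [Module F V] {Q : QuadraticForm F V}

theorem conj_injective_P (hG : Good Q) : Function.Injective (MulAut.conj : P Q →* MulAut (P Q)) := by
  rw [← MonoidHom.ker_eq_bot_iff, eq_bot_iff]
  intro x hx
  have h3 : x ∈ Subgroup.center (P Q) := by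
    rw [Subgroup.mem_center_iff]
    intro g
    have h10 : MulAut.conj x g = g := by rw [MonoidHom.mem_ker.1 hx]; rfl
    rw [MulAut.conj_apply] at h10
    exact (mul_inv_eq_iff_eq_mul.1 h10).symm
  rwa [center_P hG] at h3

theorem isSS_ofO {g : V ≃ₗ[F] V} (hg : g ∈ O Q) : IsSS Q (RingEquiv.refl F) 1 (ofO g hg).1 :=
  ⟨one_ne_zero, fun u v => map_add g u v, fun a v => map_smul g a v, fun v => by
    rw [one_mul]
    exact hg v⟩

/-- an isometry of odd order trivial in `P Q` is trivial -/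
theorem eq_one_of_Psi (hG : Good Q) {p : ℕ} (hp : Odd p) {g : V ≃ₗ[F] V} (hg : g ∈ O Q) (hgp : g ^ p = 1)
    (h : Psi Q (ofO g hg) = 1) : g = 1 := by
  obtain ⟨a, ha⟩ := OBase.exists_scal hG h
  have hgv : ∀ v, g v = (a : F) • v := by
    intro v
    have h1 : (ofO g hg).1 v = (scal Q a).1 v := by rw [ha]
    exact h1
  have hpow : ∀ (n : ℕ) v, (g ^ n) v = (a : F) ^ n • v := by
    intro n
    induction n with
    | zero => intro v; simp
    | succ n ih => intro v; rw [pow_succ', LinearEquiv.mul_apply, ih, hgv, smul_smul, pow_succ']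
  obtain ⟨x, y, hxy⟩ := hG.exists_hyp
  have hv1 : Q (x + (1 : F) • y) = 1 := OBase.Hyp.norm hxy 1
  have h1 : (a : F) * a = 1 := by
    have h2 := hg (x + (1 : F) • y)
    rw [hgv, QuadraticMap.map_smul, hv1, smul_eq_mul, mul_one] at h2
    exact h2
  have h2 : (a : F) ^ p = 1 := by
    have h3 := hpow p (x + (1 : F) • y)
    rw [hgp] at h3
    have h4 : (1 - (a : F) ^ p) • (x + (1 : F) • y) = 0 := by
      rw [sub_smul, ← h3, one_smul]
      exact sub_self _
    have h5 : x + (1 : F) • y ≠ 0 := by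
      intro h0
      rw [h0, QuadraticMap.map_zero] at hv1
      exact zero_ne_one hv1
    exact (sub_eq_zero.1 ((smul_eq_zero.1 h4).resolve_right h5)).symm
  have h3 : (a : F) = 1 := by
    obtain ⟨k, hk⟩ := hp
    rw [hk, pow_succ, pow_mul, pow_two, h1, one_pow, one_mul] at h2
    exact h2
  ext1 v
  rw [hgv, h3, one_smul]
  rfl

theorem dvd_P_of_dvd_O [Finite F] [FiniteDimensional F V] (hG : Good Q) {p : ℕ} (hp : p.Prime) (hp2 : p ≠ 2)
    (h : p ∣ Nat.card (O Q)) : p ∣ Nat.card (P Q) := by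
  have := Fact.mk hp
  have hfin : Finite V := Module.finite_of_finite F
  have hfinL : Finite (V ≃ₗ[F] V) := Finite.of_injective (fun f => (f : V → V)) DFunLike.coe_injective
  obtain ⟨⟨g, hg⟩, hgo⟩ := exists_prime_orderOf_dvd_card' (G := O Q) p h
  have hgp : g ^ p = 1 := by
    have := pow_orderOf_eq_one (⟨g, hg⟩ : O Q)
    rw [hgo] at this
    exact congrArg Subtype.val this
  have h1 : orderOf (Psi Q (ofO g hg)) = p := by
    apply orderOf_eq_prime
    · rw [← map_pow, ← map_one (Psi Q)]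
      congr 1
      apply Subtype.ext
      ext1 v
      have : ∀ n : ℕ, ((ofO g hg) ^ n).1 v = (g ^ n) v := by
        intro n
        induction n with
        | zero => rfl
        | succ n ih =>
          rw [pow_succ', pow_succ', LinearEquiv.mul_apply, ← ih]
          rfl
      rw [this, hgp]
      rfl
    · intro h2
      have h3 := eq_one_of_Psi hG (hp.odd_of_ne_two hp2) hg hgp h2
      subst h3
      have h4 : (⟨1, hg⟩ : O Q) = 1 := rfl
      rw [h4, orderOf_one] at hgo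
      exact hp.one_lt.ne hgo
  obtain ⟨y, hy⟩ := H885.FC.Main.inner_of_lin hG (isSS_ofO hg) (hp.odd_of_ne_two hp2) h1
  rw [hy, orderOf_injective _ (conj_injective_P hG)] at h1
  have : Finite (P Q) := by
    have : Finite (E Q) := inferInstance
    exact Quotient.finite _
  rw [← h1]
  exact orderOf_dvd_natCard y

theorem dvd_O_of_dvd_P {p : ℕ} (h : p ∣ Nat.card (P Q)) : p ∣ Nat.card (O Q) := by
  refine h.trans ((Subgroup.card_quotient_dvd_card _).trans ?_)
  exact Subgroup.card_dvd_of_le (fun g hg => E_le_O hg)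

end Card

/-! ### the orders over the fixed field -/

section Num

open Cfsg.Agent.ClassicalGeometry.OrthSemiForms (card_O)

theorem cast_plus {p q : ℕ} (hq : 0 < q) (m : ℕ) :
    ((2 * q ^ (m * (m - 1)) * (q ^ m - 1) * ∏ i ∈ Finset.range (m - 1), (q ^ (2 * (i + 1)) - 1) : ℕ) : ZMod p) =
      2 * (q : ZMod p) ^ (m * (m - 1)) * ((q : ZMod p) ^ m - 1) *
        ∏ i ∈ Finset.range (m - 1), ((q : ZMod p) ^ (2 * (i + 1)) - 1) := by
  have h : ∀ j : ℕ, ((q ^ j - 1 : ℕ) : ZMod p) = (q : ZMod p) ^ j - 1 := fun j => by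
    rw [Nat.cast_sub (Nat.one_le_pow _ _ hq)]
    push_cast
    rfl
  rw [Nat.cast_mul, Nat.cast_mul, Nat.cast_mul, Nat.cast_prod, h]
  push_cast
  congr 1
  exact Finset.prod_congr rfl fun i _ => h _

theorem cast_minus {p q : ℕ} (hq : 0 < q) (m : ℕ) :
    ((2 * q ^ (m * (m - 1)) * (q ^ m + 1) * ∏ i ∈ Finset.range (m - 1), (q ^ (2 * (i + 1)) - 1) : ℕ) : ZMod p) =
      2 * (q : ZMod p) ^ (m * (m - 1)) * ((q : ZMod p) ^ m + 1) *
        ∏ i ∈ Finset.range (m - 1), ((q : ZMod p) ^ (2 * (i + 1)) - 1) := by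
  have h : ∀ j : ℕ, ((q ^ j - 1 : ℕ) : ZMod p) = (q : ZMod p) ^ j - 1 := fun j => by
    rw [Nat.cast_sub (Nat.one_le_pow _ _ hq)]
    push_cast
    rfl
  rw [Nat.cast_mul, Nat.cast_mul, Nat.cast_mul, Nat.cast_prod]
  push_cast
  congr 1
  exact Finset.prod_congr rfl fun i _ => h _

variable {F F₀ : Type*} [Field F] [Fintype F] [Field F₀] [Fintype F₀] {p : ℕ}

theorem cast_card [Fact p.Prime] (hF : Fintype.card F = Fintype.card F₀ ^ p) :
    (Fintype.card F : ZMod p) = Fintype.card F₀ := by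
  rw [hF]
  push_cast
  exact ZMod.pow_card _

theorem dvd_plus [Fact p.Prime] (hF : Fintype.card F = Fintype.card F₀ ^ p) {m : ℕ} (hm : 1 ≤ m)
    (h : p ∣ Nat.card (O (plusForm m F))) : p ∣ Nat.card (O (plusForm m F₀)) := by
  rw [card_O, coe_plusForm, Cfsg.Agent.S0287.result rfl m hm, ← ZMod.natCast_eq_zero_iff,
    cast_plus Fintype.card_pos] at h ⊢
  rwa [cast_card hF] at h

theorem dvd_minus [Fact p.Prime] (hF : Fintype.card F = Fintype.card F₀ ^ p) {m : ℕ} (hm : 1 ≤ m)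
    {a b : F} {a₀ b₀ : F₀}
    (hab : ∀ z₁ z₂ : F, z₁ ^ 2 + a * z₁ * z₂ + b * z₂ ^ 2 = 0 → z₁ = 0 ∧ z₂ = 0)
    (hab₀ : ∀ z₁ z₂ : F₀, z₁ ^ 2 + a₀ * z₁ * z₂ + b₀ * z₂ ^ 2 = 0 → z₁ = 0 ∧ z₂ = 0)
    (h : p ∣ Nat.card (O (minusForm (m - 1) F a b))) : p ∣ Nat.card (O (minusForm (m - 1) F₀ a₀ b₀)) := by
  rw [card_O, coe_minusForm, Cfsg.Agent.S0288.result rfl m hm a b hab, ← ZMod.natCast_eq_zero_iff,
    cast_minus Fintype.card_pos] at h
  rw [card_O, coe_minusForm, Cfsg.Agent.S0288.result rfl m hm a₀ b₀ hab₀, ← ZMod.natCast_eq_zero_iff,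
    cast_minus Fintype.card_pos]
  rwa [cast_card hF] at h

end Num

section Fr

variable {F : Type u} {V : Type v} [Field F] [Finite F] [AddCommGroup V] [Module F V] {Q : QuadraticForm F V}

theorem fn_of_fr {κ : Type} [Fintype κ] [DecidableEq κ] {q : QuadraticForm F (κ → F)}
    {σ : F ≃+* F} (hσ : H185.OrthCent.Fix σ q)
    {q₀ : QuadraticForm (fix σ) (κ → fix σ)} (hq : ∀ x, q (inc _ x) = (q₀ x : F)) (hG₀ : Good q₀)
    {M : Gam Q} (h : Fr Q σ M.1 q) {p : ℕ} (hp : p.Prime) (hp2 : p ≠ 2) (hdvd : p ∣ Nat.card (P Q))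
    (hnum : p ∣ Nat.card (O q) → p ∣ Nat.card (O q₀)) : FN p (Psi Q M) := by
  obtain ⟨T, e, he, hT, hM⟩ := h
  have hx : H185.OrthCent.Ext (fix σ).subtype q₀ q := ⟨fun v => hq v⟩
  have hG : Good q := good_ext hx hG₀
  have hpsi : ∀ k, Psi Q M (sP he hT k) = sP he hT (Psi q (H185.OrthCent.frobG hσ) k) := fun k =>
    sP_psi he hT (fun v => by
      rw [hM, H185.OrthCent.frobG_apply]
      rfl) k
  have c3 : Nat.card (P q) = Nat.card (P Q) := Nat.card_congr (sP he hT).toEquiv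
  have h1 := dvd_P_of_dvd_O hG₀ hp hp2 (hnum (dvd_O_of_dvd_P (by rw [c3]; exact hdvd)))
  exact (fn_frob hx hG₀ hG hσ (fun a => ⟨fun h => ⟨⟨a, h⟩, rfl⟩, fun ⟨b, hb⟩ => hb ▸ b.2⟩) h1).congr
    (sP he hT) hpsi

/-- **Fixed points of nonlinear semisimilitudes.** -/
theorem fn_gam [FiniteDimensional F V] (hG : Good Q) {m : ℕ} (hm : 3 ≤ m) (hd : finrank F V = 2 * m)
    {M : Gam Q} {σ : F ≃+* F} {c : F} (hM : IsSS Q σ c M.1) (hσ : σ ≠ 1) {p : ℕ} (hp : p.Prime) (hp2 : p ≠ 2)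
    (hpow : Psi Q M ^ p = 1) (hdvd : p ∣ Nat.card (P Q)) : FN p (Psi Q M) := by
  classical
  have := Fintype.ofFinite F
  have := Fintype.ofFinite (fix σ)
  have := Fact.mk hp
  have := nontrivial_of_good hG
  obtain ⟨hoσ, a, ha⟩ := exists_normal hG hM hσ hp hpow
  obtain ⟨c', hc'⟩ := isSS_scal_mul hM a
  have h1 : Psi Q (scal Q a * M) = Psi Q M := by rw [map_mul, Psi_scal hG, one_mul]
  have hF : Fintype.card F = Fintype.card (fix σ) ^ p := by
    rw [← Nat.card_eq_fintype_card, ← Nat.card_eq_fintype_card]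
    exact H202.Descent.card_fixed hoσ
  rw [← h1]
  rcases normal_form hG.nondeg hc' hoσ hp.pos ha with ⟨k, hk, hf⟩ | ⟨k, hk, hf⟩ | ⟨k, hk, a', b', ha', hb', hab, hf⟩
  · omega
  · obtain rfl : k = m := by omega
    rw [← coe_plusForm] at hf
    refine fn_of_fr (q₀ := plusForm k (fix σ)) (fun v => ?_) (fun x => ?_) (good_plus (by omega)) hf
      hp hp2 hdvd (dvd_plus hF (by omega))
    · rw [coe_plusForm]
      unfold Cfsg.quadFormPlus
      simp only [map_sum, map_mul]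
    · rw [coe_plusForm, coe_plusForm, coe_plus]
  · obtain rfl : k = m - 1 := by omega
    rw [← coe_minusForm] at hf
    have hab0 : ∀ z₁ z₂ : fix σ, z₁ ^ 2 + (⟨a', ha'⟩ : fix σ) * z₁ * z₂ + (⟨b', hb'⟩ : fix σ) * z₂ ^ 2 = 0 →
        z₁ = 0 ∧ z₂ = 0 := by
      intro z₁ z₂ h1
      have h2 := hab z₁ z₂ z₁.2 z₂.2 (by simpa using congrArg Subtype.val h1)
      exact ⟨Subtype.ext h2.1, Subtype.ext h2.2⟩
    refine fn_of_fr (q₀ := minusForm (m - 1) (fix σ) ⟨a', ha'⟩ ⟨b', hb'⟩) (fun v => ?_) (fun x => ?_)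
      (good_minus (by omega) hab0) hf hp hp2 hdvd (dvd_minus hF (by omega)
        (fun z₁ z₂ => H885.FC.Orth.aniso_of_fix hoσ (hp.odd_of_ne_two hp2) ha' hb' hab z₁ z₂) hab0)
    · rw [coe_minusForm]
      unfold Cfsg.quadFormMinus
      simp only [map_add, map_sum, map_mul, map_pow, ha', hb']
    · rw [coe_minusForm, coe_minusForm, coe_minus]

end Fr

end Cfsg.Agent.H862.T5.OFix

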