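import Cfsg.Agent.H862.T5.OBase
import Cfsg.Agent.H957.T5Tr
import Cfsg.Agent.H152.MeetOmega

/-!
# Orthogonal rows (T5): the pair predicate on a quadratic space, frames

* `MPQ Q p x y` : the pair predicate with conjugating elements in `E Q`;
* `mrow_of_mpq` : translation to `MRow p (POmega F Q)`;
* `Emb Q q j` : `j` is an isometric embedding of `q`; `Cov j x x'` : `x` is `x'` on the image of `j`;
* `mpq_of_cov` : a pair of maps of the small space with a lifted conjugating element suffices;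
* `exists_common`, `exists_common'` : two isometric embeddings differ by an element of `E Q`.
-/

set_option autoImplicit false
set_option linter.unusedSectionVars false

namespace Cfsg.Agent.H862.T5.OFrame

open QuadraticMap Module Cfsg.Agent.LieClassical.OrthCore Cfsg.Agent.LieClassical.OrthTrans
open Cfsg.Agent.ClassicalGeometry.OrthSemi
open Cfsg.Agent.H951 (Frm Nd Inv)
open Cfsg.Agent.H862.T5.OBase
open Cfsg.Agent.H957.T5V Cfsg.Agent.H957.T5M

variable {F V U : Type*} [Field F] [AddCommGroup V] [Module F V] [AddCommGroup U] [Module F U]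
  {Q : QuadraticForm F V} {q : QuadraticForm F U}

/-- The pair predicate for quadratic spaces. -/
def MPQ (Q : QuadraticForm F V) (p : ℕ) (x y : Equiv.Perm V) : Prop :=
  ∃ g ∈ E Q, ∃ i j : ℕ, ∀ k : ℕ, ¬ IsScal F ((x ^ i * (toA g * y * (toA g)⁻¹) ^ j) ^ p ^ k)

theorem MPQ.conj_right {p : ℕ} {x y : Equiv.Perm V} {T : V ≃ₗ[F] V} (hT : T ∈ E Q)
    (h : MPQ Q p x (toA T * y * (toA T)⁻¹)) : MPQ Q p x y := by
  obtain ⟨g, hg, i, j, h⟩ := h
  refine ⟨g * T, (E Q).mul_mem hg hT, i, j, ?_⟩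
  have : toA (g * T) * y * (toA (g * T))⁻¹ = toA g * (toA T * y * (toA T)⁻¹) * (toA g)⁻¹ := by
    rw [map_mul]; group
  rwa [this]

theorem isScal_conj {σ : F ≃+* F} {A z : Equiv.Perm V} (hA : Semi σ A) (h : IsScal F z) :
    IsScal F (A * z * A⁻¹) := by
  obtain ⟨a, ha⟩ := h
  refine ⟨σ a, fun v => ?_⟩
  rw [Equiv.Perm.mul_apply, Equiv.Perm.mul_apply, ha, hA.smul, apply_inv_self]

theorem MPQ.symm {p : ℕ} {σ : F ≃+* F} {x y : Equiv.Perm V} (hx : Semi σ x) (h : MPQ Q p x y) : MPQ Q p y x := by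
  obtain ⟨g, hg, i, j, h⟩ := h
  refine ⟨g⁻¹, (E Q).inv_mem hg, j, i, fun k hk => h k ?_⟩
  set A := toA g * (toA g⁻¹ * x * (toA g⁻¹)⁻¹) ^ i with hA
  have hg' : toA (V := V) (F := F) g⁻¹ = (toA g)⁻¹ := map_inv _ _
  have e : x ^ i * (toA g * y * (toA g)⁻¹) ^ j = A * (y ^ j * (toA g⁻¹ * x * (toA g⁻¹)⁻¹) ^ i) * A⁻¹ := by
    rw [hA, hg', conj_pow, conj_pow]
    group
  have hAs : Semi σ (toA g⁻¹ * x * (toA g⁻¹)⁻¹) := hx.conj _
  have hAs' : Semi (1 * σ ^ i) A := (semi_toA g).mul (hAs.pow i)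
  rw [e, conj_pow]
  exact isScal_conj hAs' hk

/-! ### translation -/

theorem mrow_of_mpq {ι : Type} [Fintype ι] [DecidableEq ι] [Nonempty ι] {F : Type*} [Field F]
    {Q : QuadraticForm F (ι → F)} (hG : Good Q) {p : ℕ} (hp : p.Prime)
    (hind : ∀ c : MulAut (Cfsg.POmega F ⇑Q), orderOf c = p → ∃ y, H903.SylSemi.SemiO F ⇑Q y ∧
      H903.SylSemi.Ind (H152.MeetOmega.proj ⇑Q) (H152.MeetOmega.rho ⇑Q) y c)
    (hcore : ∀ y z, H903.SylSemi.SemiO F ⇑Q y → H903.SylSemi.SemiO F ⇑Q z → IsScal F (y ^ p) → ¬ IsScal F y →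
      IsScal F (z ^ p) → ¬ IsScal F z → MPQ Q p y z) : MRow p (Cfsg.POmega F ⇑Q) := by
  refine H957.T5Tr.mrow_of (F := F) hp (π := H152.MeetOmega.proj ⇑Q) (H152.MeetOmega.proj_surjective _)
    (ρ := H152.MeetOmega.rho ⇑Q) (H152.MeetOmega.rho_injective _) ?_ (W := H903.SylSemi.SemiO F ⇑Q) ?_ ?_ hind
    (fun y hy h1 => H152.MeetOmega.unique hG hy h1) ?_
  · intro s
    refine ⟨fun u v => ?_, fun a v => ?_⟩
    · rw [H152.MeetOmega.rho_apply, H152.MeetOmega.rho_apply, H152.MeetOmega.rho_apply, Matrix.mulVec_add]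
    · rw [H152.MeetOmega.rho_apply, H152.MeetOmega.rho_apply, Matrix.mulVec_smul]; rfl
  · intro y y' h1 h2
    exact H152.MeetOmega.mem_gam_iff.1
      (mul_mem (H152.MeetOmega.mem_gam_iff.2 h1) (H152.MeetOmega.mem_gam_iff.2 h2))
  · intro s
    exact H152.MeetOmega.mem_gam_iff.1 (H152.MeetOmega.rho_mem_gam s)
  · intro y z hy hz hyp hyn hzp hzn
    obtain ⟨g, hg, i, j, h⟩ := hcore y z hy hz hyp hyn hzp hzn
    obtain ⟨s, hs⟩ := (AutOrth.Main.oe hG).surjective ⟨g, hg⟩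
    refine ⟨s, i, j, ?_⟩
    have e : H152.MeetOmega.rho ⇑Q s = toA g := by
      ext1 v
      rw [H152.MeetOmega.rho_apply, ← AutOrth.Main.oe_apply hG, hs]
      rfl
    rw [e]
    exact h

/-! ### frames -/

/-- isometric embeddings -/
structure Emb (Q : QuadraticForm F V) (q : QuadraticForm F U) (j : U →ₗ[F] V) : Prop where
  form : ∀ u, Q (j u) = q u

variable {j j₁ j₂ : U →ₗ[F] V}

theorem Emb.polar (h : Emb Q q j) (u v : U) : QuadraticMap.polar Q (j u) (j v) = QuadraticMap.polar q u v := by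
  rw [QuadraticMap.polar, QuadraticMap.polar, ← map_add, h.form, h.form, h.form]

theorem Emb.injective (h : Emb Q q j) (hq : Nondeg q) : Function.Injective j := by
  rw [← LinearMap.ker_eq_bot, LinearMap.ker_eq_bot']
  intro u hu
  apply hq
  intro v
  rw [← h.polar, hu]
  simp [QuadraticMap.polar]

theorem Emb.left (h : Emb Q q j) {T : V ≃ₗ[F] V} (hT : T ∈ O Q) : Emb Q q (T.toLinearMap ∘ₗ j) :=
  ⟨fun u => by rw [LinearMap.comp_apply, LinearEquiv.coe_coe, hT, h.form]⟩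

theorem Emb.right (h : Emb Q q j) {g : U ≃ₗ[F] U} (hg : g ∈ O q) : Emb Q q (j ∘ₗ g.toLinearMap) :=
  ⟨fun u => by rw [LinearMap.comp_apply, LinearEquiv.coe_coe, h.form, hg]⟩

theorem Emb.comp {U' : Type*} [AddCommGroup U'] [Module F U'] {q' : QuadraticForm F U'} {i : U' →ₗ[F] U}
    (h : Emb Q q j) (hi : Emb q q' i) : Emb Q q' (j ∘ₗ i) :=
  ⟨fun u => by rw [LinearMap.comp_apply, h.form, hi.form]⟩

/-- `x` is `x'` on the image of `j` -/
def Cov (j : U →ₗ[F] V) (x : Equiv.Perm V) (x' : Equiv.Perm U) : Prop := ∀ u, x (j u) = j (x' u)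

variable {x y : Equiv.Perm V} {x' y' : Equiv.Perm U}

theorem Cov.one : Cov j 1 1 := fun _ => rfl

theorem Cov.mul (hx : Cov j x x') (hy : Cov j y y') : Cov j (x * y) (x' * y') := fun u => by
  rw [Equiv.Perm.mul_apply, hy, hx, Equiv.Perm.mul_apply]

theorem Cov.inv (hx : Cov j x x') : Cov j x⁻¹ x'⁻¹ := fun u => by
  apply x.injective
  rw [apply_inv_self, hx, apply_inv_self]

theorem Cov.pow (hx : Cov j x x') (n : ℕ) : Cov j (x ^ n) (x' ^ n) := by
  induction n with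
  | zero => exact Cov.one
  | succ n ih => rw [pow_succ, pow_succ]; exact ih.mul hx

theorem Cov.isScal (hj : Function.Injective j) (hx : Cov j x x') (h : IsScal F x) : IsScal F x' := by
  obtain ⟨a, ha⟩ := h
  refine ⟨a, fun u => hj ?_⟩
  rw [← hx, ha, map_smul]

theorem Cov.left (hx : Cov j x x') (T : V ≃ₗ[F] V) : Cov (T.toLinearMap ∘ₗ j) (toA T * x * (toA T)⁻¹) x' := by
  intro u
  rw [LinearMap.comp_apply, LinearEquiv.coe_coe, Equiv.Perm.mul_apply, Equiv.Perm.mul_apply, toA_inv_apply,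
    hx, toA_apply]
  rfl

theorem Cov.right {g : U ≃ₗ[F] U} (h : ∀ u, j₂ u = j₁ (g u)) (hx : Cov j₂ x x') :
    Cov j₁ x (toA g * x' * (toA g)⁻¹) := by
  intro u
  have e : u = g ((toA g)⁻¹ u) := (apply_inv_self (toA g) u).symm
  rw [Equiv.Perm.mul_apply, Equiv.Perm.mul_apply, toA_apply, ← h, ← hx, h, ← e]

theorem Cov.comp {U' : Type*} [AddCommGroup U'] [Module F U'] {i : U' →ₗ[F] U} {x'' : Equiv.Perm U'}
    (hx : Cov j x x') (hi : Cov i x' x'') : Cov (j ∘ₗ i) x x'' := fun u => by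
  rw [LinearMap.comp_apply, hx, hi, LinearMap.comp_apply]

theorem cov_toA {G : V ≃ₗ[F] V} {g : U ≃ₗ[F] U} (h : ∀ u, G (j u) = j (g u)) : Cov j (toA G) (toA g) := h

/-- `g` lifts to an element of `E Q` -/
def LiftE (Q : QuadraticForm F V) (j : U →ₗ[F] V) (g : U ≃ₗ[F] U) : Prop := ∃ G ∈ E Q, ∀ u, G (j u) = j (g u)

theorem LiftE.one : LiftE Q j (1 : U ≃ₗ[F] U) := ⟨1, (E Q).one_mem, fun _ => rfl⟩

theorem LiftE.mul {g h : U ≃ₗ[F] U} (hg : LiftE Q j g) (hh : LiftE Q j h) : LiftE Q j (g * h) := by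
  obtain ⟨G, hG, hGj⟩ := hg
  obtain ⟨H, hH, hHj⟩ := hh
  exact ⟨G * H, (E Q).mul_mem hG hH, fun u => by
    rw [LinearEquiv.mul_apply, hHj, hGj, LinearEquiv.mul_apply]⟩

theorem LiftE.inv {g : U ≃ₗ[F] U} (hg : LiftE Q j g) : LiftE Q j g⁻¹ := by
  obtain ⟨G, hG, hGj⟩ := hg
  exact ⟨G⁻¹, (E Q).inv_mem hG, (cov_toA hGj).inv⟩

theorem Emb.liftE_siegel (h : Emb Q q j) {u w : U} (hu : q u = 0) (hw : QuadraticMap.polar q u w = 0) :
    LiftE Q j (siegel q u w hu hw) := by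
  refine ⟨siegel Q (j u) (j w) (by rw [h.form, hu]) (by rw [h.polar, hw]), siegel_mem_E _ _, fun v => ?_⟩
  rw [siegel_apply, siegel_apply, h.polar, h.polar, h.form]
  simp only [map_add, map_sub, map_smul]

/-- the subgroup of the elements with a lift -/
def LE (Q : QuadraticForm F V) (j : U →ₗ[F] V) : Subgroup (U ≃ₗ[F] U) where
  carrier := {g | LiftE Q j g}
  mul_mem' := LiftE.mul
  one_mem' := LiftE.one
  inv_mem' := LiftE.inv

theorem mem_LE {g : U ≃ₗ[F] U} : g ∈ LE Q j ↔ LiftE Q j g := Iff.rfl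

theorem Emb.E_le (h : Emb Q q j) : E q ≤ LE Q j := by
  rw [E, Subgroup.closure_le]
  rintro _ ⟨u, w, hu, hw, rfl⟩
  exact h.liftE_siegel hu hw

theorem mpq_of_cov {p : ℕ} (hj : Function.Injective j) (hx : Cov j x x') (hy : Cov j y y') {g : U ≃ₗ[F] U}
    (hg : LiftE Q j g) {i k : ℕ} (h : ∀ n : ℕ, ¬ IsScal F ((x' ^ i * (toA g * y' * (toA g)⁻¹) ^ k) ^ p ^ n)) :
    MPQ Q p x y := by
  obtain ⟨G, hG, hGj⟩ := hg
  refine ⟨G, hG, i, k, fun n hn => h n ?_⟩
  have hc := cov_toA hGj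
  exact (((hx.pow i).mul (((hc.mul hy).mul hc.inv).pow k)).pow _).isScal hj hn

theorem mpq_lift {p : ℕ} (he : Emb Q q j) (hq : Nondeg q) (hx : Cov j x x') (hy : Cov j y y')
    (h : MPQ q p x' y') : MPQ Q p x y := by
  obtain ⟨g, hg, i, k, h⟩ := h
  exact mpq_of_cov (he.injective hq) hx hy (he.E_le hg) h

/-! ### common frames -/

theorem Emb.nd (h : Emb Q q j) (hq : Nondeg q) : Nd (BB Q) (LinearMap.range j) := by
  rintro _ ⟨u, rfl⟩ h0
  by_contra hno
  push Not at hno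
  apply h0
  have : u = 0 := by
    apply hq
    intro v
    rw [← h.polar]
    exact hno _ ⟨v, rfl⟩
  rw [this, map_zero]

theorem nondeg_polar (hQ : Nondeg Q) : (polarBilin Q).Nondegenerate := by
  refine ⟨fun x hx => hQ x hx, fun x hx => hQ x fun y => ?_⟩
  rw [polar_comm]
  exact hx y

theorem exists_witt [Finite F] [FiniteDimensional F V] (hG : Good Q) (hq : Nondeg q) (h₁ : Emb Q q j₁)
    (h₂ : Emb Q q j₂) : ∃ T ∈ O Q, ∀ u, T (j₂ u) = j₁ u := by
  let φ : LinearMap.range j₂ ≃ₗ[F] LinearMap.range j₁ :=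
    (LinearEquiv.ofInjective j₂ (h₂.injective hq)).symm.trans (LinearEquiv.ofInjective j₁ (h₁.injective hq))
  have hφ : ∀ u, (φ ⟨j₂ u, u, rfl⟩ : V) = j₁ u := by
    intro u
    have : (⟨j₂ u, u, rfl⟩ : LinearMap.range j₂) = LinearEquiv.ofInjective j₂ (h₂.injective hq) u := rfl
    rw [this]
    show (((LinearEquiv.ofInjective j₂ (h₂.injective hq)).symm.trans
      (LinearEquiv.ofInjective j₁ (h₁.injective hq))) _ : V) = _
    rw [LinearEquiv.trans_apply, LinearEquiv.symm_apply_apply]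
    rfl
  obtain ⟨T, hT, hTφ⟩ := Cfsg.Agent.S0750.result Q (nondeg_polar hG.nondeg) _ _ φ (by
    rintro ⟨_, u, rfl⟩
    rw [hφ, h₁.form, h₂.form])
  refine ⟨T, hT, fun u => ?_⟩
  rw [hTφ ⟨j₂ u, u, rfl⟩, hφ]

/-- Two isometric embeddings differ by an element of `E Q`. -/
theorem exists_common [Finite F] [FiniteDimensional F V] [FiniteDimensional F U] (hG : Good Q) (hq : Nondeg q)
    (h₁ : Emb Q q j₁) (h₂ : Emb Q q j₂) (hd : finrank F U + 3 ≤ finrank F V) : ∃ T ∈ E Q, ∀ u, T (j₂ u) = j₁ u := by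
  obtain ⟨T, hT, hTj⟩ := exists_witt hG hq h₁ h₂
  have hB := frm_polar Q
  have hn := h₁.nd hq
  have hP := hB.nd_perp_inf (nd_top hG.nondeg) hn le_top
  have hr : finrank F (LinearMap.range j₁) = finrank F U := LinearMap.finrank_range_of_inj (h₁.injective hq)
  have hf := hB.finrank_perp_inf hn (le_top (a := LinearMap.range j₁))
  rw [finrank_top] at hf
  have hd' : 3 ≤ finrank F ↥(hB.perp (LinearMap.range j₁) ⊓ ⊤) := by omega
  obtain ⟨g, hg, hgT⟩ := exists_corr hG (S := ((hB.perp (LinearMap.range j₁) ⊓ ⊤ : Submodule F V) : Set V)) (fun c _ => by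
    obtain ⟨u, hu, huc⟩ := exists_norm_sub hP hd' c
    exact ⟨u, hu, 1, one_ne_zero, by rw [huc]; ring⟩) hT
  refine ⟨g * T, hgT, fun u => ?_⟩
  rw [LinearEquiv.mul_apply, hTj]
  refine (RG_fix ?_ hg).1
  rintro w ⟨hw, -⟩
  exact hw _ ⟨u, rfl⟩

/-- Two isometric embeddings differ by an element of `E Q` and an isometry of `q`. -/
theorem exists_common' [Finite F] [FiniteDimensional F V] [FiniteDimensional F U] (hG : Good Q) (hq : Nondeg q)
    (h₁ : Emb Q q j₁) (h₂ : Emb Q q j₂) (hd : 3 ≤ finrank F U) :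
    ∃ T ∈ E Q, ∃ g ∈ O q, ∀ u, T (j₂ u) = j₁ (g u) := by
  obtain ⟨T, hT, hTj⟩ := exists_witt hG hq h₁ h₂
  have hn := h₁.nd hq
  have hr : finrank F (LinearMap.range j₁) = finrank F U := LinearMap.finrank_range_of_inj (h₁.injective hq)
  obtain ⟨g, hg, hgT⟩ := exists_corr hG (S := ((LinearMap.range j₁ : Submodule F V) : Set V)) (fun c _ => by
    obtain ⟨u, hu, huc⟩ := exists_norm_sub hn (by omega) c
    exact ⟨u, hu, 1, one_ne_zero, by rw [huc]; ring⟩) hT
  have hgm : ∀ w ∈ LinearMap.range j₁, g w ∈ LinearMap.range j₁ ∧ g⁻¹ w ∈ LinearMap.range j₁ :=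
    RG_mem (W := LinearMap.range j₁) (fun _ h => h) hg
  let e := LinearEquiv.ofInjective j₁ (h₁.injective hq)
  have he : ∀ u, (e u : V) = j₁ u := fun u => rfl
  have he' : ∀ w : LinearMap.range j₁, j₁ (e.symm w) = w := fun w => by
    rw [← he, LinearEquiv.apply_symm_apply]
  let g' : U ≃ₗ[F] U :=
    { toFun := fun u => e.symm ⟨g (j₁ u), (hgm _ ⟨u, rfl⟩).1⟩
      invFun := fun u => e.symm ⟨g⁻¹ (j₁ u), (hgm _ ⟨u, rfl⟩).2⟩
      map_add' := fun u v => by
        rw [← map_add]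
        congr 1
        apply Subtype.ext
        show g (j₁ (u + v)) = g (j₁ u) + g (j₁ v)
        rw [map_add, map_add]
      map_smul' := fun a u => by
        rw [RingHom.id_apply, ← map_smul]
        congr 1
        apply Subtype.ext
        show g (j₁ (a • u)) = a • g (j₁ u)
        rw [map_smul, map_smul]
      left_inv := fun u => by
        apply h₁.injective hq
        rw [he']
        show g⁻¹ (j₁ (e.symm _)) = _
        rw [he']
        exact g.symm_apply_apply _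
      right_inv := fun u => by
        apply h₁.injective hq
        rw [he']
        show g (j₁ (e.symm _)) = _
        rw [he']
        exact g.apply_symm_apply _ }
  have hg' : ∀ u, j₁ (g' u) = g (j₁ u) := fun u => he' _
  refine ⟨g * T, hgT, g', fun u => ?_, fun u => ?_⟩
  · rw [← h₁.form, hg', RG_le_O _ hg, h₁.form]
  · rw [LinearEquiv.mul_apply, hTj, hg']

end Cfsg.Agent.H862.T5.OFrame
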