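import Cfsg.Agent.H862.T5.OPlusFour

/-!
# Linear isometries with a good four-space (T5)
-/

set_option autoImplicit false
set_option linter.unusedSectionVars false

namespace Cfsg.Agent.H862.T5.OLinFour

open QuadraticMap Module Cfsg.Agent.LieClassical.OrthCore Cfsg.Agent.LieClassical.OrthTrans
open Cfsg.Agent.LieClassical.OrthFourPlus (psi tau sw tau_conj tau_apply psi_apply)
open Cfsg.Agent.LieClassical.OrthFourCommon (isom)
open Cfsg.Agent.H862.T5.OBase Cfsg.Agent.H862.T5.OFrame Cfsg.Agent.H862.T5.OPlusFour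
open Cfsg.Agent.H957.T5V
open Cfsg.Agent.H951 (Frm Nd Inv Isom Irr TI fx cm)
open Cfsg.Agent.H152.MeetOmega (rhoGL rhoGL_apply)

variable {F V U : Type*} [Field F] [AddCommGroup V] [Module F V] [AddCommGroup U] [Module F U]
  {Q : QuadraticForm F V} {q : QuadraticForm F U} {j : U →ₗ[F] V}

/-- restriction of an isometry to an invariant image -/
theorem exists_restrict (he : Emb Q q j) (hq : Nondeg q) {g : V ≃ₗ[F] V} (hg : g ∈ O Q)
    (h1 : ∀ w ∈ LinearMap.range j, g w ∈ LinearMap.range j) (h2 : ∀ w ∈ LinearMap.range j, g⁻¹ w ∈ LinearMap.range j) :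
    ∃ g' ∈ O q, ∀ u, g (j u) = j (g' u) := by
  let e := LinearEquiv.ofInjective j (he.injective hq)
  have hee : ∀ u, (e u : V) = j u := fun u => rfl
  have he' : ∀ w : LinearMap.range j, j (e.symm w) = w := fun w => by
    rw [← hee, LinearEquiv.apply_symm_apply]
  let g' : U ≃ₗ[F] U :=
    { toFun := fun u => e.symm ⟨g (j u), h1 _ ⟨u, rfl⟩⟩
      invFun := fun u => e.symm ⟨g⁻¹ (j u), h2 _ ⟨u, rfl⟩⟩
      map_add' := fun u v => by
        rw [← map_add]
        congr 1
        apply Subtype.ext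
        show g (j (u + v)) = g (j u) + g (j v)
        rw [map_add, map_add]
      map_smul' := fun a u => by
        rw [RingHom.id_apply, ← map_smul]
        congr 1
        apply Subtype.ext
        show g (j (a • u)) = a • g (j u)
        rw [map_smul, map_smul]
      left_inv := fun u => by
        apply he.injective hq
        rw [he']
        show g⁻¹ (j (e.symm _)) = _
        rw [he']
        exact g.symm_apply_apply _
      right_inv := fun u => by
        apply he.injective hq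
        rw [he']
        show g (j (e.symm _)) = _
        rw [he']
        exact g.apply_symm_apply _ }
  have hg' : ∀ u, j (g' u) = g (j u) := fun u => he' _
  exact ⟨g', fun u => by rw [← he.form, hg', hg, he.form], fun u => (hg' u).symm⟩

theorem tau_mul_tau : (tau (F := F)) * tau = 1 := by
  apply Subtype.ext
  ext1 X
  show (X.adjugate).adjugate = X
  simp [Matrix.adjugate_adjugate']

theorem semi_rhoGL (A : GL (Fin 2) F) : Semi (1 : F ≃+* F) (rhoGL A) where
  add u v := by rw [rhoGL_apply, rhoGL_apply, rhoGL_apply, Matrix.mulVec_add]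
  smul a v := by
    rw [rhoGL_apply, rhoGL_apply, Matrix.mulVec_smul]
    rfl

theorem tr_psi (P : Cfsg.Agent.LieClassical.OrthFourPlus.Gam F) : TR (toA (psi P).1) (rhoGL P.1.1) :=
  ⟨((P.1.2⁻¹ : GL (Fin 2) F) : M2 F), fun X => by
    rw [toA_apply, psi_apply]
    rfl⟩

theorem mul_of_isScal {A : GL (Fin 2) F} {a : F} (h : ∀ v, rhoGL A v = a • v) (X : M2 F) : (A : M2 F) * X = a • X := by
  ext i k
  have h1 := congrFun (h (fun l => X l k)) i
  rw [rhoGL_apply] at h1
  exact h1

theorem eq_scalar_of_isScal {A : GL (Fin 2) F} {a : F} (h : ∀ v, rhoGL A v = a • v) : (A : M2 F) = a • (1 : M2 F) := by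
  rw [← mul_of_isScal h 1, mul_one]

/-- An isometry of odd order of `(M₂(F), det)`. -/
theorem fr4_of_isom {j : M2 F →ₗ[F] V} (he : Emb Q (detQ F) j) {g : V ≃ₗ[F] V} {g' : M2 F ≃ₗ[F] M2 F}
    (hg' : g' ∈ O (detQ F)) (hcov : ∀ u, g (j u) = j (g' u)) {p : ℕ} (hp : Odd p) (hgp : g' ^ p = 1)
    (hg1 : g' ≠ 1) : Fr4 Q (toA g) := by
  let G : isom (Cfsg.Agent.LieClassical.OrthFourPlus.dt F) := ⟨g', fun X => by
    show (g' X).det = X.det
    rw [← detQ_eq_det, ← detQ_eq_det]
    exact hg' X⟩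
  have hGp : G ^ p = 1 := Subtype.ext hgp
  obtain ⟨P, hP⟩ : ∃ P, G = psi P := by
    obtain ⟨P, hP | hP⟩ := Cfsg.Agent.LieClassical.OrthFourPlus.exists_eq G
    · exact ⟨P, hP⟩
    · obtain ⟨k, hk⟩ := hp
      have h1 : G ^ 2 = psi (P * sw P) := by
        have h2 : tau * psi P = psi (sw P) * tau := by
          rw [← tau_conj]
          group
        rw [pow_two, hP, map_mul]
        calc psi P * tau * (psi P * tau) = psi P * (tau * psi P) * tau := by group
          _ = psi P * psi (sw P) * (tau * tau) := by rw [h2]; group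
          _ = _ := by rw [tau_mul_tau, mul_one]
      refine ⟨(P * sw P) ^ (k + 1), ?_⟩
      rw [map_pow, ← h1, ← pow_mul]
      have h3 : 2 * (k + 1) = p + 1 := by omega
      rw [h3, pow_succ, hGp, one_mul]
  have hG' : ∀ X, g' X = (P.1.1 : M2 F) * X * ((P.1.2⁻¹ : GL (Fin 2) F) : M2 F) := by
    intro X
    have : g' X = (psi P).1 X := by rw [← hP]
    rw [this, psi_apply]
  by_cases hA : IsScal F (rhoGL P.1.1)
  · have hcov' : ∀ u, g ((j ∘ₗ (tau (F := F)).1.toLinearMap) u) = (j ∘ₗ (tau (F := F)).1.toLinearMap) ((psi (sw P)).1 u) := by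
      intro u
      rw [LinearMap.comp_apply, LinearEquiv.coe_coe, hcov, LinearMap.comp_apply, LinearEquiv.coe_coe]
      congr 1
      have h1 : psi P * tau = tau * psi (sw P) := by
        rw [← tau_conj]
        have : (tau (F := F))⁻¹ = tau := by
          rw [inv_eq_iff_mul_eq_one, tau_mul_tau]
        rw [this]
        calc psi P * tau = (tau * tau) * psi P * tau := by rw [tau_mul_tau, one_mul]
          _ = _ := by group
      have h2 : g' ((tau (F := F)).1 u) = (psi P * tau).1 u := by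
        rw [← hP]
        rfl
      rw [h2, h1]
      rfl
    refine ⟨j ∘ₗ (tau (F := F)).1.toLinearMap, toA (psi (sw P)).1, 1, rhoGL (sw P).1.1, ?_, hcov',
      semi_rhoGL _, tr_psi _, ?_⟩
    · refine he.right (g := (tau (F := F)).1) ?_
      intro X
      rw [detQ_eq_det, detQ_eq_det]
      exact (tau (F := F)).2 X
    · intro hB
      obtain ⟨a, ha⟩ := hA
      obtain ⟨b, hb⟩ := hB
      have hb' : ∀ v, rhoGL P.1.2 v = b • v := hb
      have hA' := eq_scalar_of_isScal ha
      have hB' := eq_scalar_of_isScal hb'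
      -- `g'` is a scalar
      have hb0 : b ≠ 0 := by
        rintro rfl
        have h1 := hb' (Pi.single 0 1)
        rw [zero_smul] at h1
        have h2 : rhoGL P.1.2 (0 : Fin 2 → F) = 0 := by rw [hb', smul_zero]
        have h3 := (rhoGL P.1.2).injective (h1.trans h2.symm)
        have h4 := congrFun h3 0
        simp at h4
      have hBi : ((P.1.2⁻¹ : GL (Fin 2) F) : M2 F) = b⁻¹ • (1 : M2 F) := by
        have h1 : ((P.1.2⁻¹ : GL (Fin 2) F) : M2 F) * (P.1.2 : M2 F) = 1 := Units.inv_mul _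
        rw [hB', Matrix.mul_smul, mul_one] at h1
        rw [← h1, smul_smul, inv_mul_cancel₀ hb0, one_smul]
      have hs : ∀ X, g' X = (a * b⁻¹) • X := by
        intro X
        rw [hG', hA', hBi, Matrix.smul_mul, Matrix.smul_mul, one_mul, Matrix.mul_smul, mul_one, smul_smul]
      have hd1 : (a * b⁻¹) * (a * b⁻¹) = 1 := by
        have h1 := hg' 1
        rw [hs, QuadraticMap.map_smul, detQ_apply] at h1
        simpa using h1
      have hpw : ∀ n : ℕ, ∀ X, (g' ^ n) X = (a * b⁻¹) ^ n • X := by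
        intro n
        induction n with
        | zero => intro X; simp
        | succ n ih => intro X; rw [pow_succ', LinearEquiv.mul_apply, ih, hs, smul_smul, ← pow_succ']
      have hd2 : (a * b⁻¹) ^ p = 1 := by
        have h1 := hpw p 1
        rw [hgp] at h1
        have h2 := congrFun (congrFun h1 0) 0
        simp at h2
        exact h2.symm
      have hd3 : a * b⁻¹ = 1 := by
        obtain ⟨k, hk⟩ := hp
        rw [hk, pow_succ, pow_mul, pow_two, hd1, one_pow, one_mul] at hd2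
        exact hd2
      apply hg1
      ext1 X
      rw [hs, hd3, one_smul]
      rfl
  · refine ⟨j, toA g', 1, rhoGL P.1.1, he, hcov, semi_rhoGL _, ?_, hA⟩
    have : toA g' = toA (psi P).1 := by rw [← hP]
    rw [this]
    exact tr_psi P

/-! ### hyperbolic bases -/

/-- the map of a hyperbolic basis -/
def jh (e₁ f₁ e₂ f₂ : V) : M2 F →ₗ[F] V :=
  (Matrix.entryLinearMap F F 0 0).smulRight e₁ + (Matrix.entryLinearMap F F 1 1).smulRight f₁ +
    (Matrix.entryLinearMap F F 0 1).smulRight e₂ - (Matrix.entryLinearMap F F 1 0).smulRight f₂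

theorem jh_apply (e₁ f₁ e₂ f₂ : V) (X : M2 F) :
    jh e₁ f₁ e₂ f₂ X = X 0 0 • e₁ + X 1 1 • f₁ + X 0 1 • e₂ - X 1 0 • f₂ := rfl

theorem emb_jh {e₁ f₁ e₂ f₂ : V} (h1 : Hyp Q e₁ f₁) (h2 : Hyp Q e₂ f₂) (h12 : polar Q e₁ e₂ = 0)
    (h12' : polar Q e₁ f₂ = 0) (h21 : polar Q f₁ e₂ = 0) (h21' : polar Q f₁ f₂ = 0) :
    Emb Q (detQ F) (jh e₁ f₁ e₂ f₂) := ⟨fun X => by
  rw [jh_apply, detQ_apply, sub_eq_add_neg, ← neg_smul, Q_add, Q_add, Q_add]
  simp only [QuadraticMap.map_smul, polar_add_left, polar_smul_left, polar_smul_right, smul_eq_mul, h1.left, h1.right,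
    h2.left, h2.right, h1.pair, h2.pair, h12, h12', h21, h21']
  ring⟩

theorem exists_hyp4 [FiniteDimensional F V] {W T : Submodule F V} (hW : Nd (BB Q) W) (hd : finrank F W = 4)
    (hT : T ≤ W) (hTd : finrank F T = 2) (hTs : ∀ t ∈ T, Q t = 0) :
    ∃ j : M2 F →ₗ[F] V, Emb Q (detQ F) j ∧ LinearMap.range j = W := by
  have hnd := nondeg_qr hW
  obtain ⟨e₁, he₁, he₁0⟩ : ∃ e₁ ∈ T, e₁ ≠ 0 := by
    refine (Submodule.ne_bot_iff _).1 fun h => ?_
    rw [h, finrank_bot] at hTd
    omega
  obtain ⟨f₁, hf₁⟩ := exists_hyp (x := (⟨e₁, hT he₁⟩ : W)) hnd (hTs e₁ he₁) (fun h => he₁0 (congrArg Subtype.val h))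
  let φ : T →ₗ[F] F := (polarBilin Q (f₁ : V)).comp T.subtype
  have hker : LinearMap.ker φ ≠ ⊥ := by
    apply LinearMap.ker_ne_bot_of_finrank_lt
    rw [Module.finrank_self, hTd]
    omega
  obtain ⟨⟨e₂, he₂⟩, he₂k, he₂0⟩ := (Submodule.ne_bot_iff _).1 hker
  have he₂f : polar Q (f₁ : V) e₂ = 0 := he₂k
  have he₂0' : e₂ ≠ 0 := fun h => he₂0 (Subtype.ext h)
  have he₁₂ : polar Q e₁ e₂ = 0 := by
    rw [polar, hTs _ (T.add_mem he₁ he₂), hTs _ he₁, hTs _ he₂]
    ring
  obtain ⟨f₂, hf₂, hf₂e, hf₂f⟩ := exists_hyp_perp hnd hf₁ (w := (⟨e₂, hT he₂⟩ : W)) (hTs e₂ he₂)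
    (fun h => he₂0' (congrArg Subtype.val h)) (by rw [polar_qr]; exact he₁₂) (by rw [polar_qr]; exact he₂f)
  have h1 : Hyp Q e₁ (f₁ : V) := ⟨hTs e₁ he₁, hf₁.right, by have := hf₁.pair; rwa [polar_qr] at this⟩
  have h2 : Hyp Q e₂ (f₂ : V) := ⟨hTs e₂ he₂, hf₂.right, by have := hf₂.pair; rwa [polar_qr] at this⟩
  rw [polar_qr] at hf₂e hf₂f
  have he := emb_jh (Q := Q) h1 h2 he₁₂ hf₂e he₂f hf₂f
  refine ⟨_, he, Submodule.eq_of_le_of_finrank_eq ?_ ?_⟩
  · rintro _ ⟨X, rfl⟩
    rw [jh_apply]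
    exact W.sub_mem (W.add_mem (W.add_mem (W.smul_mem _ (hT he₁)) (W.smul_mem _ f₁.2)) (W.smul_mem _ (hT he₂)))
      (W.smul_mem _ f₂.2)
  · rw [LinearMap.finrank_range_of_inj (he.injective nondeg_detQ), finrank_M2, hd]

/-! ### planes and four-spaces invariant under an element of order `p` -/

/-- the endomorphism of an isometry -/
abbrev en (g : V ≃ₗ[F] V) : Module.End F V := g.toLinearMap

theorem isom_en {g : V ≃ₗ[F] V} (hg : g ∈ O Q) : Isom (BB Q) (en g) := fun u v => by
  rw [BB_apply, BB_apply, LinearEquiv.coe_coe, polar, polar, ← map_add, hg, hg, hg]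

theorem en_pow {g : V ≃ₗ[F] V} (n : ℕ) : (en g) ^ n = en (g ^ n) := by
  induction n with
  | zero => rfl
  | succ n ih => rw [pow_succ, pow_succ, ih]; rfl

theorem en_pow_one {g : V ≃ₗ[F] V} {p : ℕ} (h : g ^ p = 1) : (en g) ^ p = 1 := by
  rw [en_pow, h]
  rfl

theorem en_injective (g : V ≃ₗ[F] V) : Function.Injective (en g) := g.injective

/-- totally isotropic subspaces without fixed vectors are totally singular -/
theorem ts_of_ti [FiniteDimensional F V] {g : V ≃ₗ[F] V} (hg : g ∈ O Q) {p : ℕ} (hpF : (p : F) ≠ 0)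
    (hgp : g ^ p = 1) {T : Submodule F V} (hT : TI (BB Q) T) (hTi : Inv (en g) T) (hTc : T ≤ cm (en g)) :
    ∀ t ∈ T, Q t = 0 := by
  have hfx := Cfsg.Agent.H951.inf_fx_of_le_cm hpF (en_pow_one hgp) hTc
  let φ : T →ₗ[F] T := (en g - 1).restrict (p := T) (q := T) fun t ht => T.sub_mem (hTi t ht) ht
  have hφ : ∀ t : T, (φ t : V) = g t - t := fun t => rfl
  have hinj : Function.Injective φ := by
    rw [← LinearMap.ker_eq_bot, LinearMap.ker_eq_bot']
    intro t ht
    have h1 : g t - t = 0 := by rw [← hφ, ht]; rfl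
    have h2 : (t : V) ∈ T ⊓ fx (en g) := ⟨t.2, Cfsg.Agent.H951.mem_fx.2 (sub_eq_zero.1 h1)⟩
    rw [hfx, Submodule.mem_bot] at h2
    exact Subtype.ext h2
  intro t ht
  obtain ⟨s, hs⟩ := LinearMap.injective_iff_surjective.1 hinj ⟨t, ht⟩
  have h1 : t = g s - s := by rw [← hφ, hs]
  have h2 : polar Q (g (s : V)) (s : V) = 0 := hT _ (hTi _ s.2) _ s.2
  have h3 : polar Q (s : V) (s : V) = 0 := hT _ s.2 _ s.2
  rw [polar_self'] at h3
  rw [h1, sub_eq_add_neg, Q_add, QuadraticMap.map_neg, hg, polar_neg_right, h2]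
  linear_combination h3

/-- irreducible nondegenerate planes are anisotropic -/
theorem aniso_of_irr [FiniteDimensional F V] {g : V ≃ₗ[F] V} (hg : g ∈ O Q) {p : ℕ} (hp : Odd p) (hpF : (p : F) ≠ 0)
    (hgp : g ^ p = 1) {T : Submodule F V} (hT : Irr (en g) T) (hTn : Nd (BB Q) T) (hTc : T ≤ cm (en g))
    (hTd : finrank F T = 2) : ∀ t ∈ T, Q t = 0 → t = 0 := by
  intro w hw hQw
  by_contra hw0
  have hfx := Cfsg.Agent.H951.inf_fx_of_le_cm hpF (en_pow_one hgp) hTc
  have hgw : g w ∈ T := hT.2.1 w hw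
  have hli : LinearIndependent F ![w, g w] := by
    rw [LinearIndependent.pair_iff' hw0]
    intro a ha
    rcases hT.2.2 (Submodule.span F {w}) (by rw [Submodule.span_singleton_le_iff_mem]; exact hw) (by
      intro v hv
      obtain ⟨b, rfl⟩ := Submodule.mem_span_singleton.1 hv
      rw [map_smul]
      refine Submodule.smul_mem _ _ ?_
      show g w ∈ _
      rw [← ha]
      exact Submodule.smul_mem _ _ (Submodule.mem_span_singleton_self w)) with h | h
    · exact hw0 (Submodule.span_singleton_eq_bot.1 h)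
    · rw [← h, finrank_span_singleton hw0] at hTd
      omega
  have hspan : Submodule.span F {w, g w} = T := by
    refine Submodule.eq_of_le_of_finrank_eq ?_ ?_
    · rw [Submodule.span_le]
      rintro v (rfl | rfl)
      · exact hw
      · exact hgw
    · have h1 := finrank_span_eq_card hli
      rw [Matrix.range_cons, Matrix.range_cons, Matrix.range_empty, Set.union_empty, Set.singleton_union,
        Fintype.card_fin] at h1
      rw [h1, hTd]
  have hgg : g (g w) ∈ Submodule.span F {w, g w} := by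
    rw [hspan]
    exact hT.2.1 _ hgw
  obtain ⟨a, b, hab⟩ := Submodule.mem_span_pair.1 hgg
  have hQg : Q (g w) = 0 := by rw [hg, hQw]
  have hww : polar Q w w = 0 := by rw [polar_self', hQw, mul_zero]
  have hgwgw : polar Q (g w) (g w) = 0 := by rw [polar_self', hQg, mul_zero]
  set β := polar Q w (g w) with hβ
  have hβ0 : β ≠ 0 := by
    intro h0
    obtain ⟨v, hv, hwv⟩ := hTn w hw hw0
    rw [← hspan] at hv
    obtain ⟨c, d, rfl⟩ := Submodule.mem_span_pair.1 hv
    apply hwv
    rw [BB_apply, polar_add_right, polar_smul_right, polar_smul_right, hww, ← hβ, h0, smul_zero, smul_zero, add_zero]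
  have h1 : polar Q (g w) (g (g w)) = β := by
    have := isom_en hg w (g w)
    exact this
  have ha : a = 1 := by
    rw [← hab, polar_add_right, polar_smul_right, polar_smul_right, hgwgw, smul_zero, add_zero, polar_comm, ← hβ,
      smul_eq_mul] at h1
    have h2 : (a - 1) * β = 0 := by linear_combination h1
    exact sub_eq_zero.1 ((mul_eq_zero.1 h2).resolve_right hβ0)
  have hb : b = 0 := by
    have h2 : Q (g (g w)) = 0 := by rw [hg, hQg]
    rw [← hab, Q_add, QuadraticMap.map_smul, QuadraticMap.map_smul, hQw, hQg, polar_smul_left, polar_smul_right, ← hβ,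
      ha] at h2
    simp only [smul_eq_mul, mul_zero, zero_add, one_mul] at h2
    exact (mul_eq_zero.1 h2).resolve_right hβ0
  rw [ha, hb, one_smul, zero_smul, add_zero] at hab
  have h2 : ∀ n : ℕ, (g ^ (2 * n)) w = w := by
    intro n
    induction n with
    | zero => simp
    | succ n ih =>
      rw [mul_add, mul_one, pow_add, LinearEquiv.mul_apply, pow_two, LinearEquiv.mul_apply, ← hab, ih]
  have h3 : g w = w := by
    obtain ⟨k, hk⟩ := hp
    have h4 : (g ^ p) w = w := by rw [hgp]; rfl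
    rw [hk, pow_succ', LinearEquiv.mul_apply, h2] at h4
    exact h4
  apply hw0
  have h5 : w ∈ T ⊓ fx (en g) := ⟨hw, Cfsg.Agent.H951.mem_fx.2 h3⟩
  rwa [hfx, Submodule.mem_bot] at h5

end Cfsg.Agent.H862.T5.OLinFour
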