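import Cfsg.Agent.H862.T5.OLinFour

/-!
# Linear isometries of order `p`, `ord_p(q) ≤ 2`: existence of a good four-space (T5)
-/

set_option autoImplicit false
set_option linter.unusedSectionVars false

namespace Cfsg.Agent.H862.T5.OLinFour

open QuadraticMap Module Cfsg.Agent.LieClassical.OrthCore Cfsg.Agent.LieClassical.OrthTrans
open Cfsg.Agent.LieClassical.OrthForms
open Cfsg.Agent.H862.T5.OBase Cfsg.Agent.H862.T5.OFrame Cfsg.Agent.H862.T5.OPlusFour
open Cfsg.Agent.H957.T5V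
open Cfsg.Agent.H951

variable {F V : Type*} [Field F] [AddCommGroup V] [Module F V] {Q : QuadraticForm F V}

theorem sing_plus {U : Submodule F V} {e : (Fin 1 ⊕ Fin 1 → F) ≃ₗ[F] U} (he : ∀ x, qr Q U (e x) = plusForm 1 F x) :
    ∃ u ∈ U, u ≠ 0 ∧ Q u = 0 := by
  refine ⟨e (Pi.single (.inl 0) 1), (e _).2, fun h => ?_, ?_⟩
  · have h1 : e (Pi.single (.inl 0) 1) = 0 := Subtype.ext h
    rw [LinearEquiv.map_eq_zero_iff] at h1
    have h2 := congrFun h1 (.inl 0)
    rw [Pi.single_eq_same] at h2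
    exact one_ne_zero h2
  · rw [← qr_apply, he, coe_plusForm]
    unfold Cfsg.quadFormPlus
    simp

theorem not_sing_minus {U : Submodule F V} {a b : F} (hab : GenOrth.Aniso a b)
    {e : ((Fin (1 - 1) ⊕ Fin (1 - 1)) ⊕ Fin 2 → F) ≃ₗ[F] U} (he : ∀ x, qr Q U (e x) = minusForm (1 - 1) F a b x) :
    ¬ ∃ u ∈ U, u ≠ 0 ∧ Q u = 0 := by
  rintro ⟨u, hu, hu0, hQu⟩
  obtain ⟨x, hx⟩ := e.surjective ⟨u, hu⟩
  have h1 : qr Q U (e x) = 0 := by rw [hx]; exact hQu
  rw [he, coe_minusForm] at h1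
  unfold Cfsg.quadFormMinus at h1
  have h2 : (∑ i : Fin (1 - 1), x (.inl (.inl i)) * x (.inl (.inr i))) = 0 := Finset.sum_eq_zero fun i _ => i.elim0
  rw [h2, zero_add] at h1
  obtain ⟨h3, h4⟩ := hab _ _ h1
  have h5 : x = 0 := by
    funext i
    rcases i with (i | i) | i
    · exact i.elim0
    · exact i.elim0
    · fin_cases i
      · exact h3
      · exact h4
  rw [h5, map_zero] at hx
  exact hu0 (congrArg Subtype.val hx.symm)

/-- planes of the same kind are anti-isometric -/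
theorem exists_phi [Finite F] [FiniteDimensional F V] {U₁ U₂ : Submodule F V} (h1 : Nd (BB Q) U₁)
    (h2 : Nd (BB Q) U₂) (d1 : finrank F U₁ = 2) (d2 : finrank F U₂ = 2)
    (h : (∃ u ∈ U₁, u ≠ 0 ∧ Q u = 0) ↔ (∃ u ∈ U₂, u ≠ 0 ∧ Q u = 0)) :
    ∃ φ : U₁ →ₗ[F] V, LinearMap.range φ = U₂ ∧ ∀ u, Q (φ u) = - Q (u : V) := by
  have := Fintype.ofFinite F
  have key : ∀ f : U₁ ≃ₗ[F] U₂, (∀ u, qr Q U₂ (f u) = - qr Q U₁ u) →
      ∃ φ : U₁ →ₗ[F] V, LinearMap.range φ = U₂ ∧ ∀ u, Q (φ u) = - Q (u : V) := by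
    intro f hf
    refine ⟨U₂.subtype ∘ₗ f.toLinearMap, ?_, fun u => hf u⟩
    rw [LinearMap.range_comp, LinearEquiv.range, Submodule.map_top, Submodule.range_subtype]
  rcases H709.GmnPOmega.nf_even (nondeg_qr h1) (m := 1) le_rfl d1 with ⟨e₁, he₁⟩ | ⟨a, b, hab, e₁, he₁⟩
  · rcases H709.GmnPOmega.nf_even (nondeg_qr h2) (m := 1) le_rfl d2 with ⟨e₂, he₂⟩ | ⟨a, b, hab, e₂, he₂⟩
    · obtain ⟨e, he⟩ := H193.QuadEmb.plus_iso (F := F) 1 (c := -1) (neg_ne_zero.2 one_ne_zero)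
      refine key (e₁.symm.trans (e.trans e₂)) fun u => ?_
      obtain ⟨x, rfl⟩ := e₁.surjective u
      rw [LinearEquiv.trans_apply, LinearEquiv.symm_apply_apply, LinearEquiv.trans_apply, he₂, he₁, coe_plusForm, he]
      ring
    · exact absurd (h.1 (sing_plus he₁)) (not_sing_minus hab he₂)
  · rcases H709.GmnPOmega.nf_even (nondeg_qr h2) (m := 1) le_rfl d2 with ⟨e₂, he₂⟩ | ⟨a', b', hab', e₂, he₂⟩
    · exact absurd (h.2 (sing_plus he₂)) (not_sing_minus hab he₁)
    · obtain ⟨e, he⟩ := H193.QuadEmb.minus_iso (F := F) (1 - 1) hab hab' (c := -1) (neg_ne_zero.2 one_ne_zero)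
      refine key (e₁.symm.trans (e.trans e₂)) fun u => ?_
      obtain ⟨x, rfl⟩ := e₁.surjective u
      rw [LinearEquiv.trans_apply, LinearEquiv.symm_apply_apply, LinearEquiv.trans_apply, he₂, he₁, coe_minusForm, he,
        coe_minusForm]
      ring

/-- an invariant plus type four-space on which `g` is not trivial -/
def Four (Q : QuadraticForm F V) (g : V ≃ₗ[F] V) : Prop :=
  ∃ j : M2 F →ₗ[F] V, Emb Q (detQ F) j ∧ Inv (en g) (LinearMap.range j) ∧ ∃ w ∈ LinearMap.range j, g w ≠ w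

theorem ne_of_mem_cm {g : V ≃ₗ[F] V} {p : ℕ} (hpF : (p : F) ≠ 0) (hgp : g ^ p = 1) {u : V} (hu : u ∈ cm (en g))
    (hu0 : u ≠ 0) : g u ≠ u := by
  intro h
  have h1 : u ∈ fx (en g) ⊓ cm (en g) := ⟨mem_fx.2 h, hu⟩
  rw [(isCompl_fx_cm hpF (en_pow_one hgp)).inf_eq_bot, Submodule.mem_bot] at h1
  exact hu0 h1

theorem four_of_phi [FiniteDimensional F V] {g : V ≃ₗ[F] V} {p : ℕ} (hpF : (p : F) ≠ 0) (hgp : g ^ p = 1)
    {U : Submodule F V} (hU : Nd (BB Q) U) (hUi : Inv (en g) U) (hUc : U ≤ cm (en g)) (hUd : finrank F U = 2)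
    {φ : U →ₗ[F] V} (hφ : ∀ u, Q (φ u) = - Q (u : V)) (hφp : ∀ u : U, ∀ w ∈ U, polar Q w (φ u) = 0)
    (hφi : Inv (en g) (LinearMap.range φ)) : Four Q g := by
  have hB := frm_polar Q
  have hpol : ∀ u v : U, polar Q (φ u) (φ v) = - polar Q (u : V) (v : V) := by
    intro u v
    rw [polar, polar, ← map_add, hφ, hφ, hφ, Submodule.coe_add]
    ring
  have hinj : Function.Injective φ := by
    rw [← LinearMap.ker_eq_bot, LinearMap.ker_eq_bot']
    intro u hu
    by_contra h0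
    obtain ⟨v, hv, huv⟩ := hU u u.2 (fun h => h0 (Subtype.ext h))
    apply huv
    have h1 := hpol u ⟨v, hv⟩
    rw [hu, polar_zero_left] at h1
    show polar Q (u : V) v = 0
    linear_combination h1
  have hnd : Nd (BB Q) (LinearMap.range φ) := by
    rintro _ ⟨u, rfl⟩ h0
    obtain ⟨v, hv, huv⟩ := hU u u.2 (fun h => h0 (by
      have : u = 0 := Subtype.ext h
      rw [this, map_zero]))
    refine ⟨φ ⟨v, hv⟩, ⟨_, rfl⟩, ?_⟩
    rw [BB_apply, hpol]
    exact neg_ne_zero.2 huv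
  have hUp : U ≤ hB.perp (LinearMap.range φ) := by
    rintro w hw _ ⟨u, rfl⟩
    exact hφp u w hw
  obtain ⟨hW, hdis⟩ := hB.nd_sup hU hnd hUp
  have hdW : finrank F ↥(U ⊔ LinearMap.range φ) = 4 := by
    rw [finrank_sup_of_disj hdis, LinearMap.finrank_range_of_inj hinj, hUd]
  let T := LinearMap.range (U.subtype + φ)
  have hTle : T ≤ U ⊔ LinearMap.range φ := by
    rintro _ ⟨u, rfl⟩
    exact Submodule.add_mem_sup u.2 ⟨u, rfl⟩
  have hTinj : Function.Injective (U.subtype + φ) := by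
    rw [← LinearMap.ker_eq_bot, LinearMap.ker_eq_bot']
    intro u hu
    have h1 : (u : V) + φ u = 0 := hu
    have h2 : (u : V) ∈ U ⊓ LinearMap.range φ :=
      ⟨u.2, ⟨-u, by rw [map_neg, eq_comm, ← add_eq_zero_iff_eq_neg]; exact h1⟩⟩
    rw [hdis, Submodule.mem_bot] at h2
    exact Subtype.ext h2
  obtain ⟨j, hj, hjW⟩ := exists_hyp4 hW hdW hTle
    (by rw [LinearMap.finrank_range_of_inj hTinj, hUd]) (by
      rintro _ ⟨u, rfl⟩
      show Q ((u : V) + φ u) = 0
      rw [Q_add, hφ, hφp u u u.2]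
      ring)
  refine ⟨j, hj, ?_, ?_⟩
  · rw [hjW]
    exact hUi.sup hφi
  · obtain ⟨u, hu, hu0⟩ := (Submodule.ne_bot_iff U).1 (by
      intro h
      rw [h, finrank_bot] at hUd
      omega)
    refine ⟨u, ?_, ne_of_mem_cm hpF hgp (hUc hu) hu0⟩
    rw [hjW]
    exact Submodule.mem_sup_left hu

theorem plane_or_four [Fintype F] [FiniteDimensional F V] {g : V ≃ₗ[F] V} (hg : g ∈ O Q) {p : ℕ} [hp : Fact p.Prime]
    (hp2 : p ≠ 2) (hpF : (p : F) ≠ 0) (hgp : g ^ p = 1)
    (he : orderOf (Fintype.card F : ZMod p) = 1 ∨ orderOf (Fintype.card F : ZMod p) = 2)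
    {W : Submodule F V} (hW : Inv (en g) W) (hWn : Nd (BB Q) W) (hWc : W ≤ cm (en g)) (h0 : W ≠ ⊥) :
    Four Q g ∨ ∃ U ≤ W, Inv (en g) U ∧ Nd (BB Q) U ∧ finrank F U = 2 ∧
      ((∃ u ∈ U, u ≠ 0 ∧ Q u = 0) ↔ orderOf (Fintype.card F : ZMod p) = 1) := by
  have hB := frm_polar Q
  have hodd : Odd p := hp.out.odd_of_ne_two hp2
  have hxr := en_pow_one hgp
  rcases exists_block hB (isom_en hg) (en_injective g) (semisimple_of_pow hpF hxr) hW hWn h0 with
    ⟨U, hUW, hU, hUn⟩ | ⟨U, U', hUW, hU'W, hU, hU', hti, hti', hdis, -, hnd⟩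
  · have hd := hU.finrank_eq hpF hxr (hUW.trans hWc)
    rcases he with he | he
    · exfalso
      rw [he] at hd
      obtain ⟨u, hu, hu0⟩ := (Submodule.ne_bot_iff _).1 hU.1
      have hspan : Submodule.span F {u} = U := by
        refine Submodule.eq_of_le_of_finrank_eq (by rwa [Submodule.span_singleton_le_iff_mem]) ?_
        rw [finrank_span_singleton hu0, hd]
      obtain ⟨v, hv, huv⟩ := hUn u hu hu0
      rw [← hspan] at hv
      obtain ⟨c, rfl⟩ := Submodule.mem_span_singleton.1 hv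
      have huu : polar Q u u ≠ 0 := by
        intro h1
        apply huv
        rw [BB_apply, polar_smul_right, h1, smul_zero]
      have hgu : g u ∈ Submodule.span F {u} := by rw [hspan]; exact hU.2.1 u hu
      obtain ⟨a, ha⟩ := Submodule.mem_span_singleton.1 hgu
      have h1 : a * a = 1 := by
        have h2 : polar Q (g u) (g u) = polar Q u u := isom_en hg u u
        rw [← ha, polar_smul_left, polar_smul_right, smul_eq_mul, smul_eq_mul] at h2
        have h3 : (a * a - 1) * polar Q u u = 0 := by linear_combination h2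
        exact sub_eq_zero.1 ((mul_eq_zero.1 h3).resolve_right huu)
      have h2 : ∀ n : ℕ, (g ^ n) u = a ^ n • u := by
        intro n
        induction n with
        | zero => simp
        | succ n ih => rw [pow_succ', LinearEquiv.mul_apply, ih, map_smul, ← ha, smul_smul, ← pow_succ]
      have h3 : a ^ p = 1 := by
        have h4 := h2 p
        rw [hgp] at h4
        have h5 : (1 - a ^ p) • u = 0 := by
          rw [sub_smul, ← h4, one_smul]
          exact sub_self _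
        exact (sub_eq_zero.1 ((smul_eq_zero.1 h5).resolve_right hu0)).symm
      have h4 : a = 1 := by
        obtain ⟨k, hk⟩ := hodd
        rw [hk, pow_succ, pow_mul, pow_two, h1, one_pow, one_mul] at h3
        exact h3
      exact ne_of_mem_cm hpF hgp ((hUW.trans hWc) hu) hu0 (by rw [← ha, h4, one_smul])
    · rw [he] at hd
      refine Or.inr ⟨U, hUW, hU.2.1, hUn, hd, ?_⟩
      constructor
      · rintro ⟨u, hu, hu0, hQu⟩
        exact absurd (aniso_of_irr hg hodd hpF hgp hU hUn (hUW.trans hWc) hd u hu hQu) hu0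
      · intro h
        omega
  · have hd := hU.finrank_eq hpF hxr (hUW.trans hWc)
    have hd' := hU'.finrank_eq hpF hxr (hU'W.trans hWc)
    have hts := ts_of_ti hg hpF hgp hti hU.2.1 (hUW.trans hWc)
    obtain ⟨u, hu, hu0⟩ := (Submodule.ne_bot_iff _).1 hU.1
    rcases he with he | he
    · refine Or.inr ⟨U ⊔ U', sup_le hUW hU'W, hU.2.1.sup hU'.2.1, hnd, ?_, ?_⟩
      · rw [finrank_sup_of_disj hdis, hd, hd', he]
      · exact ⟨fun _ => he, fun _ => ⟨u, Submodule.mem_sup_left hu, hu0, hts u hu⟩⟩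
    · left
      obtain ⟨j, hj, hjW⟩ := exists_hyp4 hnd (by rw [finrank_sup_of_disj hdis, hd, hd', he]) le_sup_left
        (by rw [hd, he]) hts
      refine ⟨j, hj, ?_, u, ?_, ne_of_mem_cm hpF hgp ((hUW.trans hWc) hu) hu0⟩
      · rw [hjW]
        exact hU.2.1.sup hU'.2.1
      · rw [hjW]
        exact Submodule.mem_sup_left hu

/-- **Existence of a good four-space.** -/
theorem four_lin [Fintype F] [FiniteDimensional F V] (hG : Good Q) {g : V ≃ₗ[F] V} (hg : g ∈ O Q) {p : ℕ}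
    [hp : Fact p.Prime] (hp2 : p ≠ 2) (hpF : (p : F) ≠ 0) (hgp : g ^ p = 1) (hg1 : g ≠ 1)
    (he : orderOf (Fintype.card F : ZMod p) = 1 ∨ orderOf (Fintype.card F : ZMod p) = 2) : Four Q g := by
  have hB := frm_polar Q
  have hxr := en_pow_one hgp
  have hVn := nd_top hG.nondeg
  have hx := isom_en hg
  have hcmn : Nd (BB Q) (cm (en g)) := hx.nd_cm hB hpF hxr hVn
  have hcm0 : cm (en g) ≠ ⊥ := by
    intro h
    apply hg1
    ext1 v
    have h1 : g v - v ∈ cm (en g) := mem_cm.2 ⟨v, rfl⟩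
    rw [h, Submodule.mem_bot] at h1
    exact sub_eq_zero.1 h1
  rcases plane_or_four hg hp2 hpF hgp he inv_cm hcmn le_rfl hcm0 with h | ⟨U, hUc, hUi, hUn, hUd, hUs⟩
  · exact h
  by_cases hW : hB.perp U ⊓ cm (en g) = ⊥
  · -- `cm = U`
    have h1 := hB.sup_perp_inf hUn hUc
    rw [hW, sup_bot_eq] at h1
    have hfn : Nd (BB Q) (fx (en g)) := hx.nd_fx hB hpF hxr hVn
    have h2 := finrank_fx_add_cm hpF hxr
    rw [← h1, hUd] at h2
    obtain ⟨φ, hφ⟩ := H193.QuadEmb.emb_plane (P := -(qr Q U)) (nondeg_qr hfn) hUd (by have := hG.dim; omega)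
    refine four_of_phi hpF hgp hUn hUi hUc hUd (φ := (fx (en g)).subtype ∘ₗ φ) (fun u => hφ u) ?_ ?_
    · intro u w hw
      rw [polar_comm]
      exact hx.fx_cm hB (φ u).2 (hUc hw)
    · rintro _ ⟨u, rfl⟩
      refine ⟨u, ?_⟩
      exact (mem_fx.1 (φ u).2).symm
  · have hWi : Inv (en g) (hB.perp U ⊓ cm (en g)) := (hx.inv_perp hB (en_injective g) hUi).inf inv_cm
    have hWn := hB.nd_perp_inf hcmn hUn hUc
    rcases plane_or_four hg hp2 hpF hgp he hWi hWn inf_le_right hW with h | ⟨U', hU'W, hU'i, hU'n, hU'd, hU's⟩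
    · exact h
    · obtain ⟨φ, hφr, hφ⟩ := exists_phi hUn hU'n hUd hU'd (hUs.trans hU's.symm)
      refine four_of_phi hpF hgp hUn hUi hUc hUd hφ ?_ (by rw [hφr]; exact hU'i)
      intro u w hw
      have h1 : φ u ∈ U' := by rw [← hφr]; exact ⟨u, rfl⟩
      have h2 := (hU'W h1).1 w hw
      rw [polar_comm]
      exact h2

/-- **Linear isometries of order `p`, `ord_p(q) ≤ 2`.** -/
theorem fr4_lin [Fintype F] [FiniteDimensional F V] (hG : Good Q) {g : V ≃ₗ[F] V} (hg : g ∈ O Q) {p : ℕ}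
    [hp : Fact p.Prime] (hp2 : p ≠ 2) (hpF : (p : F) ≠ 0) (hgp : g ^ p = 1) (hg1 : g ≠ 1)
    (he : orderOf (Fintype.card F : ZMod p) = 1 ∨ orderOf (Fintype.card F : ZMod p) = 2) : Fr4 Q (toA g) := by
  obtain ⟨j, hj, hji, w, hw, hgw⟩ := four_lin hG hg hp2 hpF hgp hg1 he
  have hji' : ∀ w ∈ LinearMap.range j, g⁻¹ w ∈ LinearMap.range j := by
    have h1 : (LinearMap.range j).map (en g) = LinearMap.range j := by
      apply Submodule.eq_of_le_of_finrank_eq (inv_iff_map.1 hji)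
      exact (Submodule.equivMapOfInjective (en g) (en_injective g) _).finrank_eq.symm
    intro w hw
    rw [← h1] at hw
    obtain ⟨w', hw', rfl⟩ := hw
    have : g⁻¹ (g w') = w' := g.symm_apply_apply w'
    show g⁻¹ (g w') ∈ _
    rw [this]
    exact hw'
  obtain ⟨g', hg', hgg'⟩ := exists_restrict hj nondeg_detQ hg hji hji'
  have hpow : ∀ (n : ℕ) (u : M2 F), (g ^ n) (j u) = j ((g' ^ n) u) := by
    intro n
    induction n with
    | zero => intro u; rfl
    | succ n ih => intro u; rw [pow_succ', LinearEquiv.mul_apply, ih, hgg', pow_succ', LinearEquiv.mul_apply]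
  refine fr4_of_isom hj hg' hgg' (hp.out.odd_of_ne_two hp2) ?_ ?_
  · ext1 u
    apply hj.injective nondeg_detQ
    rw [← hpow, hgp]
    rfl
  · rintro rfl
    obtain ⟨u, rfl⟩ := hw
    exact hgw (hgg' u)

end Cfsg.Agent.H862.T5.OLinFour
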