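import Cfsg.Agent.H862.T5.OLinFour
import Cfsg.Agent.H862.T5.ONonlin
import Cfsg.Agent.LieClassical.OrthFourMinus

/-!
# The four-dimensional minus type space, Hermitian `2 × 2` matrices (T5)

`TRE z C` : `z (u uᴴ) = l (C u) (C u)ᴴ`.
-/

set_option autoImplicit false
set_option linter.unusedSectionVars false
set_option linter.unusedSimpArgs false
set_option linter.unusedVariables false

namespace Cfsg.Agent.H862.T5.OMinusFour

open QuadraticMap Module Cfsg.Agent.LieClassical.OrthCore Cfsg.Agent.LieClassical.OrthTrans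
open Cfsg.Agent.LieClassical.OrthFourMinus (E ME toM toM_apply toM_injective actFun toM_actFun Gam mem_Gam psi psi_apply
  toM_psi tau sw sw_coe tau_conj tau_apply phi phi_apply coord Q_coord exists_eq)
open Cfsg.Agent.LieClassical.OrthFourCommon (isom)
open Cfsg.Agent.LieClassical.QuadForms
open Cfsg.Agent.H862.T5.OBase Cfsg.Agent.H862.T5.OFrame Cfsg.Agent.H862.T5.OLinFour
open Cfsg.Agent.H957.T5V
open Cfsg.Agent.H152.MeetOmega (rhoGL rhoGL_apply)
open QuadraticAlgebra (norm)
open scoped Matrix MatrixGroups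

variable {F V : Type*} [Field F] [AddCommGroup V] [Module F V] {Q : QuadraticForm F V} {a b : F}

/-- the space -/
abbrev VV (F : Type*) [Field F] (a b : F) := Cfsg.Agent.LieClassical.OrthFourMinus.V F (-b) a

/-- the field -/
abbrev EE (F : Type*) [Field F] (a b : F) := E F (-b) a

/-- the form -/
def q4 (F : Type*) [Field F] (a b : F) : QuadraticForm F (VV F a b) :=
  (minusForm 1 F a b).comp (coord F (-b) a).symm.toLinearMap

theorem q4_apply (v : VV F a b) : q4 F a b v = v.1 * v.2.1 + norm v.2.2 := by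
  show minusForm 1 F a b ((coord F (-b) a).symm v) = _
  rw [coe_minusForm, ← Q_coord, LinearEquiv.apply_symm_apply]
  rfl

theorem polar_q4 (u v : VV F a b) : polar (q4 F a b) u v =
    u.1 * v.2.1 + v.1 * u.2.1 + (norm (u.2.2 + v.2.2) - norm u.2.2 - norm v.2.2) := by
  rw [polar, q4_apply, q4_apply, q4_apply]
  simp only [Prod.fst_add, Prod.snd_add]
  ring

/-- the Hermitian matrix `u uᴴ` -/
def wv (u : Fin 2 → EE F a b) : VV F a b := (norm (u 0), -norm (u 1), u 0 * star (u 1))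

theorem toM_wv (u : Fin 2 → EE F a b) : toM (wv u) = Matrix.vecMulVec u (star u) := by
  rw [toM_apply]
  ext1 i k
  fin_cases i <;> fin_cases k
  · simp [wv, Matrix.vecMulVec_apply, QuadraticAlgebra.algebraMap_norm_eq_mul_star]
  · simp [wv, Matrix.vecMulVec_apply]
  · simp [wv, Matrix.vecMulVec_apply, mul_comm]
  · simp [wv, Matrix.vecMulVec_apply, QuadraticAlgebra.algebraMap_norm_eq_mul_star]

theorem act_wv (A : ME F (-b) a) (u : Fin 2 → EE F a b) : actFun A (wv u) = wv (A *ᵥ u) := by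
  apply toM_injective
  rw [toM_actFun, toM_wv, toM_wv, Matrix.mul_vecMulVec, Matrix.vecMulVec_mul]
  congr 1
  rw [Matrix.star_mulVec]

variable [hab : Fact (∀ r : F, r ^ 2 ≠ -b + a * r)]

/-- `z (u uᴴ) = l (C u) (C u)ᴴ` -/
def TRE (z : Equiv.Perm (VV F a b)) (C : Equiv.Perm (Fin 2 → EE F a b)) : Prop :=
  ∃ l : F, l ≠ 0 ∧ ∀ u, z (wv u) = l • wv (C u)

theorem TRE.one : TRE (1 : Equiv.Perm (VV F a b)) 1 := ⟨1, one_ne_zero, fun u => (one_smul F _).symm⟩

theorem TRE.mul {σ : F ≃+* F} {z w : Equiv.Perm (VV F a b)} {C D : Equiv.Perm (Fin 2 → EE F a b)}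
    (hz : Semi σ z) (h : TRE z C) (h' : TRE w D) : TRE (z * w) (C * D) := by
  obtain ⟨l, hl, h⟩ := h
  obtain ⟨m, hm, h'⟩ := h'
  refine ⟨σ m * l, mul_ne_zero (by simpa using hm) hl, fun u => ?_⟩
  rw [Equiv.Perm.mul_apply, h', hz.smul, h, smul_smul]
  rfl

theorem TRE.pow {σ : F ≃+* F} {z : Equiv.Perm (VV F a b)} {C : Equiv.Perm (Fin 2 → EE F a b)}
    (hz : Semi σ z) (h : TRE z C) (n : ℕ) : TRE (z ^ n) (C ^ n) := by
  induction n with
  | zero => exact TRE.one
  | succ n ih => rw [pow_succ', pow_succ']; exact h.mul hz ih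

theorem norm_eq_zero {z : EE F a b} (h : norm z = 0) : z = 0 := QuadraticAlgebra.norm_eq_zero_iff_eq_zero.1 h

theorem TRE.isScal {τ : EE F a b ≃+* EE F a b} {z : Equiv.Perm (VV F a b)} {C : Equiv.Perm (Fin 2 → EE F a b)}
    (hC : Semi τ C) (h : TRE z C) (hz : IsScal F z) : IsScal (EE F a b) C := by
  obtain ⟨l, hl, h⟩ := h
  obtain ⟨t, ht⟩ := hz
  have key : ∀ u, wv (C u) = (l⁻¹ * t) • wv u := by
    intro u
    rw [mul_smul, ← ht, h, smul_smul, inv_mul_cancel₀ hl, one_smul]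
  set s := l⁻¹ * t with hs
  have k1 : ∀ u, norm (C u 0) = s * norm (u 0) := fun u => congrArg (fun v : VV F a b => v.1) (key u)
  have k2 : ∀ u, norm (C u 1) = s * norm (u 1) := fun u => by
    have := congrArg (fun v : VV F a b => v.2.1) (key u)
    have h2 : -norm (C u 1) = s * -norm (u 1) := this
    linear_combination -h2
  have k3 : ∀ u, C u 0 * star (C u 1) = s • (u 0 * star (u 1)) := fun u =>
    congrArg (fun v : VV F a b => v.2.2) (key u)
  -- the images of the basis
  have e0 : C (Pi.single 0 1) 1 = 0 := by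
    apply norm_eq_zero
    rw [k2]
    simp
  have e1 : C (Pi.single 1 1) 0 = 0 := by
    apply norm_eq_zero
    rw [k1]
    simp
  set α := C (Pi.single 0 1) 0 with hα
  set β := C (Pi.single 1 1) 1 with hβ
  have hCu : ∀ u : Fin 2 → EE F a b, C u = ![τ (u 0) * α, τ (u 1) * β] := by
    intro u
    have hu : u = u 0 • Pi.single 0 1 + u 1 • Pi.single 1 1 := by
      funext i
      fin_cases i <;> simp
    conv_lhs => rw [hu, hC.add, hC.smul, hC.smul]
    funext i
    fin_cases i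
    · simp [e1, hα]
    · simp [e0, hβ]
  have hαN : α * star α = algebraMap F (EE F a b) s := by
    rw [← QuadraticAlgebra.algebraMap_norm_eq_mul_star, hα, k1]
    simp
  have h3 : ∀ t : EE F a b, α * star (τ t * β) = s • star t := by
    intro t
    have h4 := k3 ![1, t]
    rw [hCu] at h4
    simpa using h4
  have hs0 : s ≠ 0 := by
    intro h0
    have h4 : C (Pi.single 0 1) = 0 := by
      rw [hCu]
      have h5 : α = 0 := by
        apply norm_eq_zero
        rw [hα, k1, h0, zero_mul]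
      funext i
      fin_cases i
      · simp [h5]
      · simp
    rw [← hC.zero] at h4
    have h6 := congrFun (C.injective h4) 0
    simp at h6
  have hα0 : α ≠ 0 := by
    intro h0
    rw [h0, zero_mul, ← map_zero (algebraMap F (EE F a b))] at hαN
    exact hs0 (QuadraticAlgebra.algebraMap_injective hαN).symm
  have hβα : β = α := by
    have h4 := h3 1
    rw [map_one, one_mul, star_one, Algebra.smul_def, mul_one, ← hαN] at h4
    exact star_injective (mul_left_cancel₀ hα0 h4)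
  have hτ : ∀ t, τ t = t := by
    intro t
    have h4 := h3 t
    rw [hβα, star_mul, ← mul_assoc, hαN, Algebra.smul_def] at h4
    have h5 : algebraMap F (EE F a b) s ≠ 0 := by
      rw [← hαN]
      exact mul_ne_zero hα0 (star_ne_zero.2 hα0)
    exact star_injective (mul_left_cancel₀ h5 h4)
  refine ⟨α, fun u => ?_⟩
  rw [hCu]
  funext i
  fin_cases i
  · simp [hτ, mul_comm]
  · simp [hτ, hβα, mul_comm]

/-! ### lifts -/

variable {j : VV F a b →ₗ[F] V}

omit hab in
theorem lift_phi (h : Emb Q (q4 F a b) j) (s : SL(2, EE F a b)) [Fact (∀ r : F, r ^ 2 ≠ -b + a * r)] :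
    LiftE Q j (phi (c := -b) (d := a) s).1 := by
  refine Matrix.SL2.transvection_induction (fun s => LiftE Q j (phi (c := -b) (d := a) s).1) ?_ ?_ s
  · intro i k hik t
    have hik' : (i = 0 ∧ k = 1) ∨ (i = 1 ∧ k = 0) := by
      fin_cases i <;> fin_cases k <;> simp_all
    rcases hik' with ⟨rfl, rfl⟩ | ⟨rfl, rfl⟩
    · have hu : q4 F a b (1, 0, 0) = 0 := by rw [q4_apply]; simp
      have hw : polar (q4 F a b) (1, 0, 0) (0, 0, -t) = 0 := by rw [polar_q4]; simp
      have e : (phi (c := -b) (d := a) (Matrix.SpecialLinearGroup.transvection hik t)).1 = siegel (q4 F a b) _ _ hu hw := by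
        ext1 v
        rw [phi_apply, siegel_apply, polar_q4, polar_q4, q4_apply]
        obtain ⟨v1, v2, v3⟩ := v
        simp only [actFun, Matrix.SpecialLinearGroup.transvection_coe]
        refine Prod.ext ?_ (Prod.ext ?_ ?_)
        · simp [Matrix.single_apply, Matrix.one_apply, QuadraticAlgebra.norm_def, QuadraticAlgebra.trace_def, QuadraticAlgebra.re_one, QuadraticAlgebra.im_one]
          ring
        · simp [Matrix.single_apply, Matrix.one_apply, QuadraticAlgebra.norm_def, QuadraticAlgebra.trace_def, QuadraticAlgebra.re_one, QuadraticAlgebra.im_one]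
        · ext
          · simp [Matrix.single_apply, Matrix.one_apply, QuadraticAlgebra.norm_def, QuadraticAlgebra.trace_def, QuadraticAlgebra.re_one, QuadraticAlgebra.im_one]
            ring
          · simp [Matrix.single_apply, Matrix.one_apply, QuadraticAlgebra.norm_def, QuadraticAlgebra.trace_def, QuadraticAlgebra.re_one, QuadraticAlgebra.im_one]
            ring
      rw [e]
      exact h.liftE_siegel hu hw
    · have hu : q4 F a b (0, 1, 0) = 0 := by rw [q4_apply]; simp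
      have hw : polar (q4 F a b) (0, 1, 0) (0, 0, star t) = 0 := by rw [polar_q4]; simp
      have e : (phi (c := -b) (d := a) (Matrix.SpecialLinearGroup.transvection hik t)).1 = siegel (q4 F a b) _ _ hu hw := by
        ext1 v
        rw [phi_apply, siegel_apply, polar_q4, polar_q4, q4_apply]
        obtain ⟨v1, v2, v3⟩ := v
        simp only [actFun, Matrix.SpecialLinearGroup.transvection_coe]
        refine Prod.ext ?_ (Prod.ext ?_ ?_)
        · simp [Matrix.single_apply, Matrix.one_apply, QuadraticAlgebra.norm_def, QuadraticAlgebra.trace_def, QuadraticAlgebra.re_one, QuadraticAlgebra.im_one]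
        · simp [Matrix.single_apply, Matrix.one_apply, QuadraticAlgebra.norm_def, QuadraticAlgebra.trace_def, QuadraticAlgebra.re_one, QuadraticAlgebra.im_one]
          ring
        · ext
          · simp [Matrix.single_apply, Matrix.one_apply, QuadraticAlgebra.norm_def, QuadraticAlgebra.trace_def, QuadraticAlgebra.re_one, QuadraticAlgebra.im_one]
            ring
          · simp [Matrix.single_apply, Matrix.one_apply, QuadraticAlgebra.norm_def, QuadraticAlgebra.trace_def, QuadraticAlgebra.re_one, QuadraticAlgebra.im_one]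
            ring
      rw [e]
      exact h.liftE_siegel hu hw
  · intro A B hA hB
    rw [map_mul]
    exact hA.mul hB


theorem tre_phi (s : SL(2, EE F a b)) : TRE (toA (phi (c := -b) (d := a) s).1) (toA (Matrix.SpecialLinearGroup.toLin' s)) :=
  ⟨1, one_ne_zero, fun u => by
    rw [one_smul]
    exact act_wv _ u⟩

theorem tre_phi_inv (s : SL(2, EE F a b)) :
    TRE (toA (phi (c := -b) (d := a) s).1)⁻¹ (toA (Matrix.SpecialLinearGroup.toLin' s))⁻¹ := by
  have h := tre_phi (F := F) (a := a) (b := b) s⁻¹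
  rw [map_inv] at h
  exact h

theorem exists_lift (h : Emb Q (q4 F a b) j) {g : (Fin 2 → EE F a b) ≃ₗ[EE F a b] (Fin 2 → EE F a b)}
    (hg : LinearEquiv.det g = 1) : ∃ f : VV F a b ≃ₗ[F] VV F a b, LiftE Q j f ∧ TRE (toA f) (toA g) ∧
      TRE (toA f)⁻¹ (toA g)⁻¹ := by
  have hd : (LinearMap.toMatrix' (g : (Fin 2 → EE F a b) →ₗ[EE F a b] (Fin 2 → EE F a b))).det = 1 := by
    rw [LinearMap.det_toMatrix', ← LinearEquiv.coe_det, hg, Units.val_one]
  let A : SL(2, EE F a b) := ⟨_, hd⟩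
  have e : g = Matrix.SpecialLinearGroup.toLin' A := by
    apply LinearEquiv.toLinearMap_injective
    show _ = Matrix.toLin' (LinearMap.toMatrix' (g : (Fin 2 → EE F a b) →ₗ[EE F a b] (Fin 2 → EE F a b)))
    rw [Matrix.toLin'_toMatrix']
  rw [e]
  exact ⟨_, lift_phi h A, tre_phi A, tre_phi_inv A⟩

theorem aniso (z₁ z₂ : F) (h : z₁ ^ 2 + a * z₁ * z₂ + b * z₂ ^ 2 = 0) : z₁ = 0 ∧ z₂ = 0 := by
  have h1 : norm (⟨z₁, z₂⟩ : EE F a b) = 0 := by
    rw [QuadraticAlgebra.norm_def, ← h]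
    ring
  have h2 := norm_eq_zero h1
  exact ⟨congrArg QuadraticAlgebra.re h2, congrArg QuadraticAlgebra.im h2⟩

theorem fact_of_aniso {a b : F} (h : ∀ z₁ z₂ : F, z₁ ^ 2 + a * z₁ * z₂ + b * z₂ ^ 2 = 0 → z₁ = 0 ∧ z₂ = 0) :
    Fact (∀ r : F, r ^ 2 ≠ -b + a * r) := ⟨fun r hr => by
  have h1 := (h r (-1) (by linear_combination hr)).2
  exact one_ne_zero (neg_eq_zero.1 h1)⟩

theorem nondeg_q4 [Finite F] : Nondeg (q4 F a b) := by
  intro v hv
  have h := Cfsg.Agent.LieClassical.OrthForms.nondeg_minusForm 1 F a b aniso ((coord F (-b) a).symm v) (fun w => by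
    have h1 := hv (coord F (-b) a w)
    rw [AutOrth.Main.minusForm_eq]
    have h2 : polar (q4 F a b) v (coord F (-b) a w) =
        polar (minusForm 1 F a b) ((coord F (-b) a).symm v) w := by
      unfold QuadraticMap.polar
      have h3 : ∀ u, q4 F a b u = minusForm 1 F a b ((coord F (-b) a).symm u) := fun u => rfl
      rw [h3, h3, h3, map_add, LinearEquiv.symm_apply_apply]
    rw [← h2]
    exact h1)
  rwa [LinearEquiv.map_eq_zero_iff] at h

theorem finrank_VV : finrank F (VV F a b) = 4 := by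
  rw [← (coord F (-b) a).finrank_eq, Module.finrank_fintype_fun_eq_card]
  simp

theorem cast_ne {p : ℕ} (hpF : (p : F) ≠ 0) : (p : EE F a b) ≠ 0 := by
  intro h
  apply hpF
  have h1 : algebraMap F (EE F a b) (p : F) = algebraMap F (EE F a b) 0 := by
    rw [map_natCast, map_zero, h]
  exact QuadraticAlgebra.algebraMap_injective h1

/-- **The core computation for the minus type four-space.** -/
theorem mpq_coreE [Finite F] {p : ℕ} (hp : p.Prime) (hp5 : 5 ≤ p) (hpF : (p : F) ≠ 0) (he : Emb Q (q4 F a b) j)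
    {x y : Equiv.Perm V} {x' y' : Equiv.Perm (VV F a b)} {c d : Equiv.Perm (Fin 2 → EE F a b)}
    {σ' τ' : F ≃+* F} {σ τ : EE F a b ≃+* EE F a b} (hxs : Semi σ' x') (hys : Semi τ' y')
    (hx : Cov j x x') (hy : Cov j y y') (hc : Semi σ c) (hd : Semi τ d) (hxc : TRE x' c) (hyd : TRE y' d)
    (hxp : IsScal F (x ^ p)) (hyp : IsScal F (y ^ p)) (hcn : ¬ IsScal (EE F a b) c)
    (hdn : ¬ IsScal (EE F a b) d) : MPQ Q p x y := by
  have hj := he.injective nondeg_q4
  have : Finite (EE F a b) := Finite.of_equiv _ (QuadraticAlgebra.equivProd (-b) a).symm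
  have hcp : IsScal (EE F a b) (c ^ p) := (hxc.pow hxs p).isScal (hc.pow p) ((hx.pow p).isScal hj hxp)
  have hdp : IsScal (EE F a b) (d ^ p) := (hyd.pow hys p).isScal (hd.pow p) ((hy.pow p).isScal hj hyp)
  obtain ⟨g, hg, i, k, h⟩ := H957.T5Main.mp_main (V := Fin 2 → EE F a b) hp hp5
    (by rw [Module.finrank_fintype_fun_eq_card, Fintype.card_fin]) (cast_ne hpF) hc hcp hcn hd hdp hdn
  obtain ⟨f, hf, hf1, hf2⟩ := exists_lift he hg
  refine mpq_of_cov hj hx hy hf (i := i) (k := k) fun n hn => h n ?_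
  have h1 : TRE (toA f * y' * (toA f)⁻¹) (toA g * d * (toA g)⁻¹) :=
    (hf1.mul (semi_toA f) hyd).mul ((semi_toA f).mul hys) hf2
  have hs : Semi τ (toA g * d * (toA g)⁻¹) := hd.conj g
  have hs' : Semi τ' (toA f * y' * (toA f)⁻¹) := hys.conj f
  exact (((hxc.pow hxs i).mul (hxs.pow i) (h1.pow hs' k)).pow ((hxs.pow i).mul (hs'.pow k)) _).isScal
    (((hc.pow i).mul (hs.pow k)).pow _) hn

/-- `x` has a frame in the Hermitian matrices with nonscalar part -/
def FrE (Q : QuadraticForm F V) (a b : F) [Fact (∀ r : F, r ^ 2 ≠ -b + a * r)] (x : Equiv.Perm V) : Prop :=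
  ∃ (j : VV F a b →ₗ[F] V) (x' : Equiv.Perm (VV F a b)) (σ' : F ≃+* F) (σ : EE F a b ≃+* EE F a b)
    (c : Equiv.Perm (Fin 2 → EE F a b)), Emb Q (q4 F a b) j ∧ Cov j x x' ∧ Semi σ' x' ∧ Semi σ c ∧ TRE x' c ∧
      ¬ IsScal (EE F a b) c

theorem mpq_of_frE [Finite F] [FiniteDimensional F V] (hG : Good Q) (h7 : 7 ≤ finrank F V) {p : ℕ} (hp : p.Prime)
    (hp5 : 5 ≤ p) (hpF : (p : F) ≠ 0) {x y : Equiv.Perm V} (hx : FrE Q a b x) (hy : FrE Q a b y)
    (hxp : IsScal F (x ^ p)) (hyp : IsScal F (y ^ p)) : MPQ Q p x y := by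
  obtain ⟨j₁, x', σ', σ, c, h₁, hx', hxs, hc, hxc, hcn⟩ := hx
  obtain ⟨j₂, y', τ', τ, d, h₂, hy', hys, hd, hyd, hdn⟩ := hy
  obtain ⟨T, hT, hTj⟩ := exists_common hG nondeg_q4 h₁ h₂ (by rw [finrank_VV]; omega)
  refine MPQ.conj_right hT ?_
  have hj : T.toLinearMap ∘ₗ j₂ = j₁ := LinearMap.ext hTj
  have hy'' : Cov j₁ (toA T * y * (toA T)⁻¹) y' := by
    rw [← hj]
    exact hy'.left T
  refine mpq_coreE hp hp5 hpF h₁ hxs hys hx' hy'' hc hd hxc hyd hxp ?_ hcn hdn
  rw [conj_pow]
  exact isScal_conj (semi_toA T) hyp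

theorem norm_smul' (s : F) (z : EE F a b) : norm (s • z) = s ^ 2 * norm z := by
  rw [QuadraticAlgebra.norm_def, QuadraticAlgebra.norm_def]
  simp only [QuadraticAlgebra.re_smul, QuadraticAlgebra.im_smul, smul_eq_mul]
  ring

/-- replace `x` by a scalar multiple -/
theorem FrE.of_smul {x : Equiv.Perm V} (s : Fˣ) (h : FrE Q a b (smulA s x)) : FrE Q a b x := by
  obtain ⟨j, x', σ', σ, c, hj, hx', hxs, hc, ⟨l, hl, hlc⟩, hcn⟩ := h
  have h1 : ∀ u, x (j u) = j ((s⁻¹ : Fˣ) • x' u) := by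
    intro u
    have := hx' u
    rw [smulA_apply] at this
    rw [Units.smul_def, map_smul, ← this, smul_smul, Units.inv_mul, one_smul]
  refine ⟨j, smulA s⁻¹ x', σ', σ, c, hj, h1, hxs.smulA _, hc, ⟨((s⁻¹ : Fˣ) : F) * l, mul_ne_zero (Units.ne_zero _) hl,
    fun u => ?_⟩, hcn⟩
  rw [smulA_apply, hlc, smul_smul]

/-! ### linear isometries -/

theorem mem_isom_of_mem_O {g : VV F a b ≃ₗ[F] VV F a b} (hg : g ∈ O (q4 F a b)) :
    g ∈ isom (Cfsg.Agent.LieClassical.OrthFourMinus.Q (-b) a) := fun v => by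
  have := hg v
  rw [q4_apply, q4_apply] at this
  exact this

theorem exists_psi [Finite F] {g : VV F a b ≃ₗ[F] VV F a b} (hg : g ∈ O (q4 F a b)) {p : ℕ} (hodd : Odd p)
    (hgp : g ^ p = 1) : ∃ P : Gam F (-b) a, ∀ v, g v = actFun (P.1 : ME F (-b) a) v := by
  obtain ⟨P, hP⟩ := exists_eq (Cfsg.Agent.LieClassical.OrthFourMinus.norm_surjective (F := F) (c := -b) (d := a))
    (⟨g, mem_isom_of_mem_O hg⟩ : isom _)
  set G : isom (Cfsg.Agent.LieClassical.OrthFourMinus.Q (-b) a) := ⟨g, mem_isom_of_mem_O hg⟩ with hG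
  have htau : tau (F := F) (c := -b) (d := a) * tau = 1 := by
    refine Subtype.ext (LinearEquiv.ext fun v => ?_)
    show (tau (F := F) (c := -b) (d := a)).1 ((tau (F := F) (c := -b) (d := a)).1 v) = v
    rw [tau_apply, tau_apply, star_star]
  have h2 : ∃ P₂ : Gam F (-b) a, G ^ 2 = psi P₂ := by
    rcases hP with h | h
    · exact ⟨P ^ 2, by rw [h, map_pow]⟩
    · refine ⟨P * sw P, ?_⟩
      rw [map_mul, ← tau_conj, h, pow_two]
      have : tau⁻¹ = tau (F := F) (c := -b) (d := a) := inv_eq_of_mul_eq_one_left htau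
      rw [this]
      group
  obtain ⟨P₂, h2⟩ := h2
  obtain ⟨k, hk⟩ := hodd
  have hGp : G ^ p = 1 := Subtype.ext (by
    show g ^ p = 1
    exact hgp)
  have h3 : G = psi (P₂ ^ (k + 1)) := by
    rw [map_pow, ← h2, ← pow_mul]
    have : 2 * (k + 1) = p + 1 := by omega
    rw [this, pow_succ, hGp, one_mul]
  refine ⟨P₂ ^ (k + 1), fun v => ?_⟩
  rw [← psi_apply, ← h3]

theorem frE_of_isom [Finite F] (he : Emb Q (q4 F a b) j) {g : V ≃ₗ[F] V} {g' : VV F a b ≃ₗ[F] VV F a b}
    (hg' : g' ∈ O (q4 F a b)) (hgg' : ∀ u, g (j u) = j (g' u)) {p : ℕ} (hodd : Odd p) (hgp : g' ^ p = 1)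
    (h1 : g' ≠ 1) : FrE Q a b (toA g) := by
  obtain ⟨P, hP⟩ := exists_psi hg' hodd hgp
  refine ⟨j, toA g', 1, 1, rhoGL P.1, he, hgg', semi_toA g', semi_rhoGL _, ⟨1, one_ne_zero, fun u => ?_⟩, ?_⟩
  · rw [one_smul, rhoGL_apply, ← act_wv]
    exact hP _
  · intro hs
    obtain ⟨u, hu⟩ := hs
    have hu' := eq_scalar_of_isScal hu
    have hN : norm u ^ 2 = 1 := by
      have h2 := mem_Gam.1 P.2
      rw [hu', Matrix.det_smul, Matrix.det_one, mul_one, Fintype.card_fin, map_pow] at h2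
      exact h2
    have hg : ∀ v, g' v = norm u • v := by
      intro v
      rw [hP, hu']
      apply toM_injective
      rw [toM_actFun, map_smul, Matrix.conjTranspose_smul, Matrix.conjTranspose_one, Matrix.smul_mul, Matrix.mul_smul,
        one_mul, mul_one, smul_smul, mul_comm, ← QuadraticAlgebra.algebraMap_norm_eq_mul_star, algebraMap_smul]
    have hgn : ∀ (n : ℕ) v, (g' ^ n) v = (norm u) ^ n • v := by
      intro n
      induction n with
      | zero => intro v; simp
      | succ n ih => intro v; rw [pow_succ, LinearEquiv.mul_apply, hg, map_smul, ih, smul_smul, pow_succ, mul_comm]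
    have h3 : norm u ^ p = 1 := by
      have h4 := hgn p (1, 0, 0)
      rw [hgp] at h4
      have h5 := congrArg Prod.fst h4
      simpa using h5.symm
    have h4 : norm u = 1 := by
      obtain ⟨k, hk⟩ := hodd
      rw [hk, pow_succ, pow_mul, hN, one_pow, one_mul] at h3
      exact h3
    apply h1
    ext1 v
    rw [hg, h4, one_smul]
    rfl

/-! ### nonlinear maps -/

section nl

variable {σ : F ≃+* F} (ha : σ a = a) (hb : σ b = b)

/-- the automorphism of the quadratic extension -/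
def sigE : EE F a b ≃+* EE F a b where
  toFun z := ⟨σ z.re, σ z.im⟩
  invFun z := ⟨σ.symm z.re, σ.symm z.im⟩
  left_inv z := by ext <;> simp
  right_inv z := by ext <;> simp
  map_add' z w := by ext <;> simp
  map_mul' z w := by
    ext
    · simp [hb]
    · simp [ha]

include ha hb in
theorem norm_sigE (z : EE F a b) : norm (sigE ha hb z) = σ (norm z) := by
  rw [QuadraticAlgebra.norm_def, QuadraticAlgebra.norm_def]
  simp [sigE, ha, hb]

theorem star_sigE (z : EE F a b) : star (sigE ha hb z) = sigE ha hb (star z) := by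
  ext <;> simp [sigE, ha]

theorem sigE_ne_one (h : σ ≠ 1) : sigE (a := a) (b := b) ha hb ≠ 1 := by
  intro h1
  apply h
  ext z
  have h2 := congrArg (fun f : EE F a b ≃+* EE F a b => (f ⟨z, 0⟩).re) h1
  exact h2

/-- the semilinear map of the space of vectors -/
def SigV : Equiv.Perm (Fin 2 → EE F a b) where
  toFun u i := sigE ha hb (u i)
  invFun u i := (sigE ha hb).symm (u i)
  left_inv u := by funext i; simp
  right_inv u := by funext i; simp

theorem semi_SigV : Semi (sigE ha hb) (SigV (a := a) (b := b) ha hb) where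
  add u v := by funext i; exact map_add (sigE ha hb) (u i) (v i)
  smul r v := by funext i; exact map_mul (sigE ha hb) r (v i)

/-- the semilinear map of the Hermitian matrices -/
def SigW : Equiv.Perm (VV F a b) where
  toFun v := (σ v.1, σ v.2.1, sigE ha hb v.2.2)
  invFun v := (σ.symm v.1, σ.symm v.2.1, (sigE ha hb).symm v.2.2)
  left_inv v := by simp
  right_inv v := by simp

theorem semi_SigW : Semi σ (SigW (a := a) (b := b) ha hb) where
  add u v := by simp [SigW]
  smul r v := by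
    refine Prod.ext (map_mul _ _ _) (Prod.ext (map_mul _ _ _) ?_)
    ext
    · exact map_mul _ _ _
    · exact map_mul _ _ _

theorem tre_Sig : TRE (SigW (a := a) (b := b) ha hb) (SigV ha hb) := ⟨1, one_ne_zero, fun u => by
  rw [one_smul]
  refine Prod.ext ?_ (Prod.ext ?_ ?_)
  · exact (norm_sigE ha hb _).symm
  · show σ (-norm (u 1)) = -norm (sigE ha hb (u 1))
    rw [norm_sigE, map_neg]
  · show sigE ha hb (u 0 * star (u 1)) = sigE ha hb (u 0) * star (sigE ha hb (u 1))
    rw [map_mul, star_sigE]⟩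

end nl

/-- `diag(s, 1)` -/
def dg (s : (EE F a b)ˣ) : (Fin 2 → EE F a b) ≃ₗ[EE F a b] (Fin 2 → EE F a b) where
  toFun u := ![s * u 0, u 1]
  invFun u := ![((s⁻¹ : (EE F a b)ˣ) : EE F a b) * u 0, u 1]
  map_add' u v := by
    funext i
    fin_cases i <;> simp [mul_add]
  map_smul' r u := by
    funext i
    fin_cases i <;> simp
    ring
  left_inv u := by
    funext i
    fin_cases i <;> simp
  right_inv u := by
    funext i
    fin_cases i <;> simp

/-- the action of `diag(s, 1)` -/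
def dgW (s : (EE F a b)ˣ) : VV F a b ≃ₗ[F] VV F a b where
  toFun v := (norm (s : EE F a b) * v.1, v.2.1, s * v.2.2)
  invFun v := (norm ((s⁻¹ : (EE F a b)ˣ) : EE F a b) * v.1, v.2.1, ((s⁻¹ : (EE F a b)ˣ) : EE F a b) * v.2.2)
  map_add' u v := by simp [mul_add]
  map_smul' r u := by
    refine Prod.ext ?_ (Prod.ext rfl ?_)
    · simp
      ring
    · simp
  left_inv v := by
    refine Prod.ext ?_ (Prod.ext rfl ?_)
    · show norm ((s⁻¹ : (EE F a b)ˣ) : EE F a b) * (norm (s : EE F a b) * v.1) = v.1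
      rw [← mul_assoc, ← map_mul, Units.inv_mul, map_one, one_mul]
    · show ((s⁻¹ : (EE F a b)ˣ) : EE F a b) * (s * v.2.2) = v.2.2
      rw [← mul_assoc, Units.inv_mul, one_mul]
  right_inv v := by
    refine Prod.ext ?_ (Prod.ext rfl ?_)
    · show norm (s : EE F a b) * (norm ((s⁻¹ : (EE F a b)ˣ) : EE F a b) * v.1) = v.1
      rw [← mul_assoc, ← map_mul, Units.mul_inv, map_one, one_mul]
    · show s * (((s⁻¹ : (EE F a b)ˣ) : EE F a b) * v.2.2) = v.2.2
      rw [← mul_assoc, Units.mul_inv, one_mul]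

theorem tre_dg (s : (EE F a b)ˣ) : TRE (toA (dgW s)) (toA (dg s)) := ⟨1, one_ne_zero, fun u => by
  rw [one_smul]
  refine Prod.ext ?_ (Prod.ext ?_ ?_)
  · show norm (s : EE F a b) * norm (u 0) = norm ((s : EE F a b) * u 0)
    rw [map_mul]
  · rfl
  · show s * (u 0 * star (u 1)) = s * u 0 * star (u 1)
    ring⟩

theorem tre_dg_inv (s : (EE F a b)ˣ) : TRE (toA (dgW s))⁻¹ (toA (dg s))⁻¹ := ⟨1, one_ne_zero, fun u => by
  rw [one_smul]
  refine Prod.ext ?_ (Prod.ext ?_ ?_)
  · show norm ((s⁻¹ : (EE F a b)ˣ) : EE F a b) * norm (u 0) = norm (((s⁻¹ : (EE F a b)ˣ) : EE F a b) * u 0)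
    rw [map_mul]
  · rfl
  · show ((s⁻¹ : (EE F a b)ˣ) : EE F a b) * (u 0 * star (u 1)) = ((s⁻¹ : (EE F a b)ˣ) : EE F a b) * u 0 * star (u 1)
    ring⟩

theorem q4_dgW (s : (EE F a b)ˣ) (v : VV F a b) : q4 F a b (dgW s v) = norm (s : EE F a b) * q4 F a b v := by
  rw [q4_apply, q4_apply]
  show norm (s : EE F a b) * v.1 * v.2.1 + norm ((s : EE F a b) * v.2.2) = _
  rw [map_mul]
  ring

open Cfsg.Agent.ClassicalGeometry.OrthSemi Cfsg.Agent.H966.Frob Cfsg.Agent.H208.Ext Cfsg.Agent.H208.Frame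

/-- **Nonlinear semisimilitudes.** -/
theorem frE_nl [Finite F] [FiniteDimensional F V] (hG : Good Q) {σ : F ≃+* F} (ha : σ a = a) (hb : σ b = b) {c : F}
    {M : Equiv.Perm V} (hM : IsSS Q σ c M) (hσ1 : σ ≠ 1) {l : ℕ} (hσ : orderOf σ = l) (hl : 0 < l)
    (hMl : M ^ l = 1) : FrE Q a b M := by
  have := H208.ConjSS.nontrivial_of_good hG
  have hab0 : ∀ z₁ z₂ : fix σ, z₁ ^ 2 + (⟨a, ha⟩ : fix σ) * z₁ * z₂ + (⟨b, hb⟩ : fix σ) * z₂ ^ 2 = 0 →
      z₁ = 0 ∧ z₂ = 0 := by
    intro z₁ z₂ h1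
    have h2 := aniso (a := a) (b := b) (z₁ : F) (z₂ : F) (by simpa using congrArg Subtype.val h1)
    exact ⟨Subtype.ext h2.1, Subtype.ext h2.2⟩
  obtain ⟨j, e, he, hj, hjM⟩ := ONonlin.exists_frame_nl hG.nondeg hM hσ hl hMl (κ' := (Fin 1 ⊕ Fin 1) ⊕ Fin 2) (k := 2)
    (by simp) (by have := hG.dim; omega) (P₀ := minusForm 1 (fix σ) ⟨a, ha⟩ ⟨b, hb⟩) (by
      rw [← AutOrth.Main.minusForm_eq]
      exact Cfsg.Agent.LieClassical.OrthForms.nondeg_minusForm 1 (fix σ) _ _ hab0)
    (P := minusForm 1 F a b) (fun x => by rw [coe_minusForm, coe_minusForm, coe_minus])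
  obtain ⟨s, hs⟩ := Cfsg.Agent.LieClassical.OrthFourMinus.norm_surjective (F := F) (c := -b) (d := a) e⁻¹
  have hs0 : s ≠ 0 := by
    rintro rfl
    rw [QuadraticAlgebra.norm_zero] at hs
    exact inv_ne_zero he hs.symm
  let u : (EE F a b)ˣ := Units.mk0 s hs0
  refine ⟨j ∘ₗ (coord F (-b) a).symm.toLinearMap ∘ₗ (dgW u).toLinearMap,
    (toA (dgW u))⁻¹ * SigW ha hb * toA (dgW u), _, _, (toA (dg u))⁻¹ * SigV ha hb * toA (dg u), ⟨fun v => ?_⟩,
    fun v => ?_, ((semi_toA (dgW u)).inv.mul (semi_SigW ha hb)).mul (semi_toA (dgW u)),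
    ((semi_toA (dg u)).inv.mul (semi_SigV ha hb)).mul (semi_toA (dg u)),
    ((tre_dg_inv u).mul (semi_toA (dgW u)).inv (tre_Sig ha hb)).mul
      ((semi_toA (dgW u)).inv.mul (semi_SigW ha hb)) (tre_dg u), ?_⟩
  · rw [LinearMap.comp_apply, hj]
    have h1 : minusForm 1 F a b (((coord F (-b) a).symm.toLinearMap ∘ₗ (dgW u).toLinearMap) v) =
        q4 F a b (dgW u v) := rfl
    rw [h1, q4_dgW, Units.val_mk0, hs, ← mul_assoc, mul_inv_cancel₀ he, one_mul]
  · rw [LinearMap.comp_apply, hjM]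
    show j (frob ((Fin 1 ⊕ Fin 1) ⊕ Fin 2) σ ((coord F (-b) a).symm (dgW u v))) = j ((coord F (-b) a).symm (dgW u
      ((dgW u).symm (SigW ha hb (dgW u v)))))
    rw [LinearEquiv.apply_symm_apply]
    generalize dgW u v = w
    congr 1
    rw [LinearEquiv.eq_symm_apply]
    obtain ⟨w', rfl⟩ := (coord F (-b) a).surjective w
    rw [LinearEquiv.symm_apply_apply]
    rfl
  · apply ONonlin.not_isScal_of_semi ?_ (((semi_toA (dg u)).inv.mul (semi_SigV ha hb)).mul (semi_toA (dg u)))
    rw [inv_one, one_mul, mul_one]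
    exact sigE_ne_one ha hb hσ1

end Cfsg.Agent.H862.T5.OMinusFour
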