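import Cfsg.Agent.H862.T5.OAA
import Cfsg.Agent.H862.T5.OMinusFour

/-!
# The pair predicate for orthogonal groups in cross characteristic (T5)

`mpq_gam` : two semisimilitudes of order `p ≥ 5` modulo scalars satisfy `MPQ Q p`.
-/

set_option autoImplicit false
set_option linter.unusedSectionVars false

namespace Cfsg.Agent.H862.T5.OMain

open QuadraticMap Module Cfsg.Agent.LieClassical.OrthCore Cfsg.Agent.LieClassical.OrthTrans
  Cfsg.Agent.ClassicalGeometry.OrthSemi Cfsg.Agent.ClassicalGeometry.OrthAut1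
open Cfsg.Agent.LieClassical.QuadForms
open Cfsg.Agent.LieClassical.OrthSimple (good_isSimpleGroup)
open Cfsg.Agent.H208.ConjSS (exists_normal isSS_scal_mul Psi_scal nontrivial_of_good)
open Cfsg.Agent.H862.T5.OBase Cfsg.Agent.H862.T5.OFrame Cfsg.Agent.H862.T5.OLinFour Cfsg.Agent.H862.T5.OBlock
  Cfsg.Agent.H862.T5.OFix Cfsg.Agent.H862.T5.OAA
open Cfsg.Agent.H957.T5V Cfsg.Agent.H957.T5M
open Cfsg.Agent.H208.Parity (ofO)
open Cfsg.Agent.H951
open Cfsg.Agent.H106.MT Cfsg.Agent.H106.MB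
open Cfsg.Agent.H966.Frob Cfsg.Agent.H208.Ext Cfsg.Agent.H208.Frame

universe u

section gen

variable {F V U : Type*} [Field F] [AddCommGroup V] [Module F V] [AddCommGroup U] [Module F U]
  {Q : QuadraticForm F V} {q : QuadraticForm F U}

theorem MPQ.of_scl {p : ℕ} {σ τ : F ≃+* F} {c c' d d' : Equiv.Perm V} (hc : Semi σ c)
    (hd : Semi τ d) (hcc : Scl F c' c) (hdd : Scl F d' d) (h : MPQ Q p c' d') : MPQ Q p c d := by
  obtain ⟨g, hg, i, j, h⟩ := h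
  refine ⟨g, hg, i, j, fun k hk => h k ?_⟩
  have h1 : Scl F (toA g * d' * (toA g)⁻¹) (toA g * d * (toA g)⁻¹) :=
    Scl.mul ((semi_toA g).mul hd) (Scl.mul (semi_toA g) (Scl.refl _) hdd) (Scl.refl _)
  have h2 : Scl F (c' ^ i * (toA g * d' * (toA g)⁻¹) ^ j) (c ^ i * (toA g * d * (toA g)⁻¹) ^ j) :=
    Scl.mul (hc.pow i) (hcc.pow hc i) (h1.pow (hd.conj g) j)
  exact ((h2.pow ((hc.pow i).mul ((hd.conj g).pow j)) _).isScal_iff).2 hk

theorem mpq_pair [Finite F] [FiniteDimensional F V] [FiniteDimensional F U] (hG : Good Q) (hq : Nondeg q)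
    (h3 : 3 ≤ finrank F U) {j₁ j₂ : U →ₗ[F] V} (h₁ : Emb Q q j₁) (h₂ : Emb Q q j₂) {p : ℕ}
    {x y : Equiv.Perm V} {x' y' : Equiv.Perm U} (hx : Cov j₁ x x') (hy : Cov j₂ y y')
    (h : ∀ g ∈ O q, MPQ q p x' (toA g * y' * (toA g)⁻¹)) : MPQ Q p x y := by
  obtain ⟨T, hT, g, hg, hTj⟩ := exists_common' hG hq h₁ h₂ h3
  refine MPQ.conj_right hT ?_
  have hy2 : Cov (T.toLinearMap ∘ₗ j₂) (toA T * y * (toA T)⁻¹) y' := hy.left T
  have hy3 : Cov j₁ (toA T * y * (toA T)⁻¹) (toA g * y' * (toA g)⁻¹) := hy2.right hTj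
  exact mpq_lift h₁ hq hx hy3 (h g hg)

theorem psi_pow_eq_one {p : ℕ} (hG : Good Q) {X : Gam Q} (h : IsScal F (X.1 ^ p)) : Psi Q X ^ p = 1 := by
  obtain ⟨a, ha⟩ := h
  have hne : a ≠ 0 := by
    rintro rfl
    have := nontrivial_of_good hG
    obtain ⟨v, hv⟩ := exists_ne (0 : V)
    apply hv
    apply (X.1 ^ p).injective
    rw [ha, ha, zero_smul, zero_smul]
  have h1 : X ^ p ∈ (Psi Q).ker := by
    rw [ker_Psi hG]
    refine ⟨Units.mk0 a hne, Subtype.ext ?_⟩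
    ext1 v
    rw [SubmonoidClass.coe_pow, ha, scal_apply, Units.val_mk0]
  rw [← map_pow]
  exact h1

theorem psi_ne_one (hG : Good Q) {X : Gam Q} (h : ¬ IsScal F X.1) : Psi Q X ≠ 1 := by
  intro h1
  obtain ⟨a, rfl⟩ := exists_scal hG h1
  exact h ⟨a, fun v => rfl⟩

theorem exists_cov_lin [FiniteDimensional F V] {j : U →ₗ[F] V} (hj : Emb Q q j) (hq : Nondeg q)
    {g : V ≃ₗ[F] V} (hg : g ∈ O Q) (hji : Inv (en g) (LinearMap.range j)) (hjc : LinearMap.range j ≤ cm (en g))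
    {p : ℕ} (hpF : (p : F) ≠ 0) (hgp : g ^ p = 1) [Nontrivial U] :
    ∃ g' ∈ O q, (∀ u, g (j u) = j (g' u)) ∧ g' ^ p = 1 ∧ g' ≠ 1 := by
  obtain ⟨g', hg', hgg'⟩ := exists_restrict hj hq hg hji (inv_of_inv hji)
  have hpow : ∀ (n : ℕ) (u : U), (g ^ n) (j u) = j ((g' ^ n) u) := by
    intro n
    induction n with
    | zero => intro u; rfl
    | succ n ih => intro u; rw [pow_succ', LinearEquiv.mul_apply, ih, hgg', pow_succ', LinearEquiv.mul_apply]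
  refine ⟨g', hg', hgg', ?_, ?_⟩
  · ext1 u
    apply hj.injective hq
    rw [← hpow, hgp]
    rfl
  · rintro rfl
    obtain ⟨u, hu⟩ := exists_ne (0 : U)
    have h0 : j u ≠ 0 := fun h => hu (hj.injective hq (by rw [h, map_zero]))
    exact ne_of_mem_cm hpF hgp (hjc ⟨u, rfl⟩) h0 (hgg' u)

end gen

section block

variable {F V : Type u} [Field F] [AddCommGroup V] [Module F V] {Q : QuadraticForm F V}

theorem isScal_of_pow_one {U : Type*} [AddCommGroup U] [Module F U] {x : Equiv.Perm U} {p : ℕ} (h : x ^ p = 1) :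
    IsScal F (x ^ p) := ⟨1, fun v => by rw [h, one_smul]; rfl⟩

theorem toA_pow_one {U : Type*} [AddCommGroup U] [Module F U] {g : U ≃ₗ[F] U} {p : ℕ} (h : g ^ p = 1) :
    (toA g) ^ p = 1 := by rw [← map_pow, h, map_one]

/-- the pair predicate in a space of the dimension of a block -/
theorem mpq_block {p : ℕ} (hAA : AAHyp.{u} p) [hp : Fact p.Prime] [Fintype F] [FiniteDimensional F V]
    (hG : Good Q) {m : ℕ} (hm : 3 ≤ m) (hd : finrank F V = 2 * m) (hp2 : p ≠ 2) (hpF : (p : F) ≠ 0)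
    (hc : 2 * m = if Even (orderOf (Fintype.card F : ZMod p)) then orderOf (Fintype.card F : ZMod p) else
      2 * orderOf (Fintype.card F : ZMod p)) {X Y : Gam Q} {μ : F} (hX : IsSS Q (RingEquiv.refl F) μ X.1)
    (hXp : Psi Q X ^ p = 1) (hX1 : Psi Q X ≠ 1) (hYp : Psi Q Y ^ p = 1) (hY1 : Psi Q Y ≠ 1) :
    MPQ Q p X.1 Y.1 := by
  apply mpq_of_mpair hG
  have hcyc := cyclic_sylow hG hp2 hpF hc hd
  obtain ⟨σ, c, hY⟩ := Y.2
  have hXo := orderOf_eq_prime hXp hX1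
  have hYo := orderOf_eq_prime hYp hY1
  by_cases hσ : σ = 1
  · subst hσ
    exact mpair_lin_lin hAA hG hp2 hcyc hX hXo hY hYo
  · exact mpair_lin_nl hAA hG hm hd hp2 hcyc hX hXo hY hσ hYo

end block

section pairs

variable {F V : Type u} [Field F] [Fintype F] [AddCommGroup V] [Module F V] [FiniteDimensional F V]
  {Q : QuadraticForm F V} {κ : Type} [Fintype κ] [DecidableEq κ]

theorem mpq_lin_lin {p : ℕ} (hAA : AAHyp.{u} p) [hp : Fact p.Prime] (hG : Good Q) (hp2 : p ≠ 2)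
    (hpF : (p : F) ≠ 0) {m : ℕ} (hm : 3 ≤ m) (hκ : Fintype.card κ = 2 * m)
    (hc : 2 * m = if Even (orderOf (Fintype.card F : ZMod p)) then orderOf (Fintype.card F : ZMod p) else
      2 * orderOf (Fintype.card F : ZMod p)) {P' : QuadraticForm F (κ → F)} (hP : Good P')
    {g₁ g₂ : V ≃ₗ[F] V} (h₁ : g₁ ∈ O Q) (h₂ : g₂ ∈ O Q) (hg₁ : g₁ ^ p = 1) (hg₂ : g₂ ^ p = 1)
    {j₁ j₂ : (κ → F) →ₗ[F] V} (e₁ : Emb Q P' j₁) (e₂ : Emb Q P' j₂)
    (i₁ : Inv (en g₁) (LinearMap.range j₁)) (i₂ : Inv (en g₂) (LinearMap.range j₂))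
    (c₁ : LinearMap.range j₁ ≤ cm (en g₁)) (c₂ : LinearMap.range j₂ ≤ cm (en g₂)) :
    MPQ Q p (toA g₁) (toA g₂) := by
  have hfr : finrank F (κ → F) = 2 * m := by rw [Module.finrank_fintype_fun_eq_card, hκ]
  have := nontrivial_of_good hP
  obtain ⟨g₁', hg₁', hj₁, hp₁, hn₁⟩ := exists_cov_lin e₁ hP.nondeg h₁ i₁ c₁ hpF hg₁
  obtain ⟨g₂', hg₂', hj₂, hp₂, hn₂⟩ := exists_cov_lin e₂ hP.nondeg h₂ i₂ c₂ hpF hg₂
  have hodd := hp.out.odd_of_ne_two hp2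
  refine mpq_pair hG hP.nondeg (by rw [hfr]; omega) e₁ e₂ (cov_toA hj₁) (cov_toA hj₂) fun g hg => ?_
  have hk : g * g₂' * g⁻¹ ∈ O P' := (O P').mul_mem ((O P').mul_mem hg hg₂') ((O P').inv_mem hg)
  have hkp : (g * g₂' * g⁻¹) ^ p = 1 := by rw [conj_pow, hp₂, mul_one, mul_inv_cancel]
  have hk1 : g * g₂' * g⁻¹ ≠ 1 := by
    intro h
    apply hn₂
    have h2 : g * g₂' = g := mul_inv_eq_one.1 h
    exact mul_eq_left.1 h2
  have hp' : ∀ {f : (κ → F) ≃ₗ[F] (κ → F)} (hf : f ∈ O P'), f ^ p = 1 → Psi P' (ofO f hf) ^ p = 1 := by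
    intro f hf hfp
    apply psi_pow_eq_one hP
    have h1 : (ofO f hf).1 = toA f := rfl
    rw [h1]
    exact isScal_of_pow_one (toA_pow_one hfp)
  exact mpq_block hAA hP hm hfr hp2 hpF hc (X := ofO g₁' hg₁') (Y := ofO _ hk) (isSS_ofO _) (hp' _ hp₁)
    (fun h => hn₁ (eq_one_of_Psi hP hodd hg₁' hp₁ h)) (hp' _ hkp) (fun h => hk1 (eq_one_of_Psi hP hodd hk hkp h))

theorem nondeg_smul {P' : QuadraticForm F (κ → F)} (hP : Nondeg P') {e : F} (he : e ≠ 0) : Nondeg (e • P') := by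
  intro x hx
  apply hP
  intro y
  have h := hx y
  have h1 : polar (⇑(e • P')) x y = e * polar P' x y := by
    rw [FunLike.coe_smul, polar_smul]
    rfl
  rw [h1] at h
  exact (mul_eq_zero.1 h).resolve_left he

theorem mpq_lin_nl {p : ℕ} (hAA : AAHyp.{u} p) [hp : Fact p.Prime] (hG : Good Q) (hp2 : p ≠ 2)
    (hpF : (p : F) ≠ 0) {m : ℕ} (hm : 3 ≤ m) (hκ : Fintype.card κ = 2 * m)
    (hc : 2 * m = if Even (orderOf (Fintype.card F : ZMod p)) then orderOf (Fintype.card F : ZMod p) else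
      2 * orderOf (Fintype.card F : ZMod p)) {P' : QuadraticForm F (κ → F)} (hP : Good P')
    {g₁ : V ≃ₗ[F] V} (h₁ : g₁ ∈ O Q) (hg₁ : g₁ ^ p = 1)
    {j₁ : (κ → F) →ₗ[F] V} (e₁ : Emb Q P' j₁)
    (i₁ : Inv (en g₁) (LinearMap.range j₁)) (c₁ : LinearMap.range j₁ ≤ cm (en g₁))
    {σ : F ≃+* F} (hσ1 : σ ≠ 1) (hσP : ∀ v, P' (frob κ σ v) = σ (P' v))
    {M : Equiv.Perm V} (hMp : M ^ p = 1)
    {j₂ : (κ → F) →ₗ[F] V} {e : F} (he : e ≠ 0) (hj₂ : ∀ x, Q (j₂ x) = e * P' x)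
    (hM : ∀ x, M (j₂ x) = j₂ (frob κ σ x))
    {ψ : (κ → F) ≃ₗ[F] (κ → F)} (hψ : ∀ x, P' (ψ x) = e * P' x) :
    MPQ Q p (toA g₁) M := by
  have hfr : finrank F (κ → F) = 2 * m := by rw [Module.finrank_fintype_fun_eq_card, hκ]
  have hnd : Nondeg (e • P') := nondeg_smul hP.nondeg he
  have hGq : Good (e • P') := Cfsg.Agent.LieClassical.OrthFinite.good_of_finite hnd (by rw [hfr]; omega)
  have := nontrivial_of_good hGq
  have e₁' : Emb Q (e • P') (j₁ ∘ₗ ψ.toLinearMap) := ⟨fun u => by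
    rw [LinearMap.comp_apply, e₁.form]
    exact hψ u⟩
  have hr : LinearMap.range (j₁ ∘ₗ ψ.toLinearMap) = LinearMap.range j₁ := by
    rw [LinearMap.range_comp, LinearEquiv.range, Submodule.map_top]
  have e₂' : Emb Q (e • P') j₂ := ⟨fun u => hj₂ u⟩
  obtain ⟨g₁', hg₁', hj₁, hp₁, hn₁⟩ := exists_cov_lin e₁' hnd h₁ (by rw [hr]; exact i₁) (by rw [hr]; exact c₁) hpF hg₁
  have hodd := hp.out.odd_of_ne_two hp2
  refine mpq_pair hG hnd (by rw [hfr]; omega) e₁' e₂' (cov_toA hj₁) (y' := frob κ σ) hM fun g hg => ?_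
  have hfrob : IsSS (e • P') σ (e * (σ e)⁻¹) (frob κ σ) := by
    refine ⟨mul_ne_zero he (inv_ne_zero (by simpa using he)), fun u v => ?_, fun a v => ?_, fun v => ?_⟩
    · funext i
      exact map_add σ _ _
    · funext i
      exact map_mul σ _ _
    · have hσe : σ e ≠ 0 := by simpa using he
      show e * P' (frob κ σ v) = e * (σ e)⁻¹ * σ (e * P' v)
      rw [hσP, map_mul]
      field_simp
  have hfp : (frob κ σ) ^ p = 1 := by
    ext1 u
    apply e₂'.injective hnd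
    have h1 := Cov.pow (x := M) (x' := frob κ σ) (j := j₂) hM p u
    rw [hMp] at h1
    exact h1.symm
  let Y₀ : Gam (e • P') := ⟨frob κ σ, σ, _, hfrob⟩
  let Y : Gam (e • P') := ofO g hg * Y₀ * (ofO g hg)⁻¹
  have hY1 : Y.1 = toA g * frob κ σ * (toA g)⁻¹ := rfl
  have hYp : Psi _ Y ^ p = 1 := by
    apply psi_pow_eq_one hGq
    rw [hY1, conj_pow, hfp, mul_one, mul_inv_cancel]
    exact ⟨1, fun v => by rw [one_smul]; rfl⟩
  have hYn : Psi _ Y ≠ 1 := by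
    intro h
    have h2 : Psi _ Y₀ = 1 := by
      have h3 : Psi _ Y = Psi _ (ofO g hg) * Psi _ Y₀ * (Psi _ (ofO g hg))⁻¹ := by
        rw [← map_inv, ← map_mul, ← map_mul]
      rw [h3, mul_inv_eq_one] at h
      exact mul_eq_left.1 h
    refine psi_ne_one hGq (X := Y₀) ?_ h2
    exact ONonlin.not_isScal_of_semi hσ1 ⟨hfrob.add, hfrob.smul⟩
  have hX : Psi _ (ofO g₁' hg₁') ^ p = 1 := by
    apply psi_pow_eq_one hGq
    have h1 : (ofO g₁' hg₁').1 = toA g₁' := rfl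
    rw [h1]
    exact isScal_of_pow_one (toA_pow_one hp₁)
  exact mpq_block hAA hGq hm hfr hp2 hpF hc (X := ofO g₁' hg₁') (Y := Y) (isSS_ofO _) hX
    (fun h => hn₁ (eq_one_of_Psi hGq hodd hg₁' hp₁ h)) hYp hYn

end pairs

theorem exists_aniso (F : Type*) [Field F] [Finite F] :
    ∃ a b : F, ∀ z₁ z₂ : F, z₁ ^ 2 + a * z₁ * z₂ + b * z₂ ^ 2 = 0 → z₁ = 0 ∧ z₂ = 0 := by
  obtain ⟨c, hc⟩ : ∃ c : F, ∀ t : F, t ^ 2 + t ≠ c := by
    by_contra hno
    push Not at hno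
    have hs : Function.Surjective (fun t : F => t ^ 2 + t) := hno
    have hi := Finite.injective_iff_surjective.2 hs
    have h1 : (-1 : F) = 0 := hi (by ring)
    exact one_ne_zero (neg_eq_zero.1 h1)
  refine ⟨1, -c, fun z₁ z₂ h => ?_⟩
  by_cases hz : z₂ = 0
  · subst hz
    refine ⟨?_, rfl⟩
    have : z₁ ^ 2 = 0 := by linear_combination h
    exact (pow_eq_zero_iff two_ne_zero).1 this
  · exfalso
    apply hc (z₁ / z₂)
    field_simp
    linear_combination h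

section main

variable {F V : Type u} [Field F] [Fintype F] [AddCommGroup V] [Module F V] [FiniteDimensional F V]
  {Q : QuadraticForm F V}

/-- normalised linear -/
def NLin (Q : QuadraticForm F V) (p : ℕ) (g : V ≃ₗ[F] V) : Prop := g ∈ O Q ∧ g ^ p = 1 ∧ g ≠ 1

/-- normalised nonlinear -/
def NNl (Q : QuadraticForm F V) (p : ℕ) (σ : F ≃+* F) (M : Equiv.Perm V) : Prop :=
  (∃ c, IsSS Q σ c M) ∧ σ ≠ 1 ∧ orderOf σ = p ∧ M ^ p = 1

theorem NNl.fr4 {p : ℕ} (hp : p.Prime) (hG : Good Q) {σ : F ≃+* F} {M : Equiv.Perm V} (h : NNl Q p σ M) :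
    OPlusFour.Fr4 Q M := by
  obtain ⟨⟨c, hc⟩, h1, h2, h3⟩ := h
  exact ONonlin.fr4_nl hG hc h1 h2 hp.pos h3

theorem NLin.isScal {p : ℕ} {g : V ≃ₗ[F] V} (h : NLin Q p g) : IsScal F (toA g ^ p) :=
  isScal_of_pow_one (toA_pow_one h.2.1)

theorem NNl.isScal {p : ℕ} {σ : F ≃+* F} {M : Equiv.Perm V} (h : NNl Q p σ M) : IsScal F (M ^ p) :=
  isScal_of_pow_one h.2.2.2

theorem aniso_fix {σ : F ≃+* F} {p : ℕ} (ho : orderOf σ = p) (hp : Odd p) {a b : fix σ}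
    (h : ∀ z₁ z₂ : fix σ, z₁ ^ 2 + a * z₁ * z₂ + b * z₂ ^ 2 = 0 → z₁ = 0 ∧ z₂ = 0) (z₁ z₂ : F)
    (hz : z₁ ^ 2 + (a : F) * z₁ * z₂ + (b : F) * z₂ ^ 2 = 0) : z₁ = 0 ∧ z₂ = 0 := by
  refine H885.FC.Orth.aniso_of_fix ho hp a.2 b.2 (fun w₁ w₂ h1 h2 h3 => ?_) z₁ z₂ hz
  have h4 := h ⟨w₁, h1⟩ ⟨w₂, h2⟩ (Subtype.ext (by push_cast; exact h3))
  exact ⟨congrArg Subtype.val h4.1, congrArg Subtype.val h4.2⟩

/-- `ord_p(q) ≤ 2` -/
theorem mpq_small {p : ℕ} [hp : Fact p.Prime] (hG : Good Q) (h7 : 7 ≤ finrank F V) (hp5 : 5 ≤ p) (hpF : (p : F) ≠ 0)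
    {x y : Equiv.Perm V} (hx : OPlusFour.Fr4 Q x) (hy : OPlusFour.Fr4 Q y)
    (hxp : IsScal F (x ^ p)) (hyp : IsScal F (y ^ p)) : MPQ Q p x y :=
  OPlusFour.mpq_of_fr4 hG h7 hp.out hp5 hpF hx hy hxp hyp

/-- a linear isometry, `ord_p(q) = 4` -/
theorem frE_lin {p : ℕ} [hp : Fact p.Prime] (hG : Good Q) (hp5 : 5 ≤ p) (hpF : (p : F) ≠ 0)
    (h4 : orderOf (Fintype.card F : ZMod p) = 4) {g : V ≃ₗ[F] V} (hg : NLin Q p g) {a b : F}
    [hab : Fact (∀ r : F, r ^ 2 ≠ -b + a * r)] : OMinusFour.FrE Q a b (toA g) := by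
  obtain ⟨j, hj, hji, hjc⟩ := exists_minus_block hG.nondeg hg.1 (by omega) hpF hg.2.1 hg.2.2 (m := 2)
    (by rw [h4]) (a := a) (b := b) OMinusFour.aniso
  have h1 : Emb Q (OMinusFour.q4 F a b) (j ∘ₗ (Cfsg.Agent.LieClassical.OrthFourMinus.coord F (-b) a).symm.toLinearMap) :=
    ⟨fun u => by
      rw [LinearMap.comp_apply, hj.form, AutOrth.Main.minusForm_eq]
      rfl⟩
  have hr : LinearMap.range (j ∘ₗ (Cfsg.Agent.LieClassical.OrthFourMinus.coord F (-b) a).symm.toLinearMap) =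
      LinearMap.range j := by
    rw [LinearMap.range_comp, LinearEquiv.range, Submodule.map_top]
  obtain ⟨g', hg', hgg', hgp, hg1⟩ := exists_cov_lin h1 OMinusFour.nondeg_q4 hg.1 (by rw [hr]; exact hji)
    (by rw [hr]; exact hjc) hpF hg.2.1
  exact OMinusFour.frE_of_isom h1 hg' hgg' (hp.out.odd_of_ne_two (by omega)) hgp hg1

theorem NLin.fr4 {p : ℕ} [hp : Fact p.Prime] (hG : Good Q) (hp2 : p ≠ 2) (hpF : (p : F) ≠ 0)
    (he : orderOf (Fintype.card F : ZMod p) = 1 ∨ orderOf (Fintype.card F : ZMod p) = 2) {g : V ≃ₗ[F] V}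
    (hg : NLin Q p g) : OPlusFour.Fr4 Q (toA g) := fr4_lin hG hg.1 hp2 hpF hg.2.1 hg.2.2 he

theorem plusForm_frob {σ : F ≃+* F} (k : ℕ) (v : Fin k ⊕ Fin k → F) :
    plusForm k F (frob _ σ v) = σ (plusForm k F v) := by
  rw [coe_plusForm]
  unfold Cfsg.quadFormPlus
  simp only [map_sum, map_mul, frob_apply]

theorem minusForm_frob {σ : F ≃+* F} (k : ℕ) {a b : F} (ha : σ a = a) (hb : σ b = b)
    (v : (Fin k ⊕ Fin k) ⊕ Fin 2 → F) : minusForm k F a b (frob _ σ v) = σ (minusForm k F a b v) := by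
  rw [coe_minusForm]
  unfold Cfsg.quadFormMinus
  simp only [map_add, map_sum, map_mul, map_pow, frob_apply, ha, hb]

theorem mpq_ll {p : ℕ} (hAA : AAHyp.{u} p) [hp : Fact p.Prime] (hG : Good Q) (h7 : 7 ≤ finrank F V)
    (hp5 : 5 ≤ p) (hpF : (p : F) ≠ 0) {g₁ g₂ : V ≃ₗ[F] V} (h₁ : NLin Q p g₁) (h₂ : NLin Q p g₂) :
    MPQ Q p (toA g₁) (toA g₂) := by
  obtain ⟨e, he⟩ : ∃ e, e = orderOf (Fintype.card F : ZMod p) := ⟨_, rfl⟩
  have he0 : 0 < e := by rw [he]; exact ord_pos hpF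
  by_cases h12 : e = 1 ∨ e = 2
  · rw [he] at h12
    exact mpq_small hG h7 hp5 hpF (h₁.fr4 hG (by omega) hpF h12) (h₂.fr4 hG (by omega) hpF h12) h₁.isScal h₂.isScal
  by_cases h4 : e = 4
  · rw [he] at h4
    obtain ⟨a, b, hab⟩ := exists_aniso F
    have := OMinusFour.fact_of_aniso hab
    exact OMinusFour.mpq_of_frE (a := a) (b := b) hG h7 hp.out hp5 hpF (frE_lin hG hp5 hpF h4 h₁)
      (frE_lin hG hp5 hpF h4 h₂) h₁.isScal h₂.isScal
  rcases Nat.even_or_odd e with hev | hodd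
  · obtain ⟨m, hm⟩ := hev
    obtain ⟨a, b, hab⟩ := exists_aniso F
    obtain ⟨j₁, e₁, i₁, c₁⟩ := exists_minus_block hG.nondeg h₁.1 (by omega) hpF h₁.2.1 h₁.2.2 (m := m)
      (by omega) (a := a) (b := b) hab
    obtain ⟨j₂, e₂, i₂, c₂⟩ := exists_minus_block hG.nondeg h₂.1 (by omega) hpF h₂.2.1 h₂.2.2 (m := m)
      (by omega) (a := a) (b := b) hab
    rw [AutOrth.Main.minusForm_eq] at e₁ e₂
    refine mpq_lin_lin hAA hG (by omega) hpF (m := m) (by omega) ?_ ?_ (AutOrth.Main.good_minus (by omega) hab)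
      h₁.1 h₂.1 h₁.2.1 h₂.2.1 e₁ e₂ i₁ i₂ c₁ c₂
    · simp only [Fintype.card_sum, Fintype.card_fin]
      omega
    · rw [← he, if_pos ⟨m, hm⟩]
      omega
  · obtain ⟨j₁, e₁, i₁, c₁⟩ := exists_plus_block hG.nondeg h₁.1 (by omega) hpF h₁.2.1 h₁.2.2 he.symm hodd
    obtain ⟨j₂, e₂, i₂, c₂⟩ := exists_plus_block hG.nondeg h₂.1 (by omega) hpF h₂.2.1 h₂.2.2 he.symm hodd
    rw [AutOrth.Main.plusForm_eq] at e₁ e₂
    have he3 : 3 ≤ e := by
      obtain ⟨k, hk⟩ := hodd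
      omega
    refine mpq_lin_lin hAA hG (by omega) hpF (m := e) he3 ?_ ?_ (AutOrth.Main.good_plus he3)
      h₁.1 h₂.1 h₁.2.1 h₂.2.1 e₁ e₂ i₁ i₂ c₁ c₂
    · simp only [Fintype.card_sum, Fintype.card_fin]
      omega
    · rw [← he, if_neg (Nat.not_even_iff_odd.2 hodd)]

theorem mpq_ln {p : ℕ} (hAA : AAHyp.{u} p) [hp : Fact p.Prime] (hG : Good Q) (h7 : 7 ≤ finrank F V)
    (hp5 : 5 ≤ p) (hpF : (p : F) ≠ 0) {g₁ : V ≃ₗ[F] V} (h₁ : NLin Q p g₁) {σ : F ≃+* F} {M : Equiv.Perm V}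
    (hM : NNl Q p σ M) : MPQ Q p (toA g₁) M := by
  have hpodd := hp.out.odd_of_ne_two (by omega : p ≠ 2)
  obtain ⟨e, he⟩ : ∃ e, e = orderOf (Fintype.card F : ZMod p) := ⟨_, rfl⟩
  have he0 : 0 < e := by rw [he]; exact ord_pos hpF
  by_cases h12 : e = 1 ∨ e = 2
  · rw [he] at h12
    exact mpq_small hG h7 hp5 hpF (h₁.fr4 hG (by omega) hpF h12) (hM.fr4 hp.out hG) h₁.isScal hM.isScal
  obtain ⟨⟨c, hc⟩, hσ1, hσp, hMp⟩ := id hM
  have := nontrivial_of_good hG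
  have := Fintype.ofFinite (fix σ)
  obtain ⟨a, b, hab⟩ := exists_aniso (fix σ)
  have habF : ∀ z₁ z₂ : F, z₁ ^ 2 + (a : F) * z₁ * z₂ + (b : F) * z₂ ^ 2 = 0 → z₁ = 0 ∧ z₂ = 0 :=
    aniso_fix hσp hpodd hab
  by_cases h4 : e = 4
  · rw [he] at h4
    have := OMinusFour.fact_of_aniso habF
    exact OMinusFour.mpq_of_frE (a := (a : F)) (b := (b : F)) hG h7 hp.out hp5 hpF (frE_lin hG hp5 hpF h4 h₁)
      (OMinusFour.frE_nl hG a.2 b.2 hc hσ1 hσp hp.out.pos hMp) h₁.isScal hM.isScal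
  -- the whole space is one block
  have hwhole : ∀ m : ℕ, 3 ≤ m → (2 * m = if Even (orderOf (Fintype.card F : ZMod p)) then
      orderOf (Fintype.card F : ZMod p) else 2 * orderOf (Fintype.card F : ZMod p)) → finrank F V = 2 * m →
      MPQ Q p (toA g₁) M := by
    intro m hm hcm hd
    refine mpq_block hAA hG hm hd (by omega) hpF hcm (X := ofO g₁ h₁.1) (Y := ⟨M, σ, c, hc⟩) (isSS_ofO _)
      (psi_pow_eq_one hG h₁.isScal) (fun h => h₁.2.2 (eq_one_of_Psi hG hpodd h₁.1 h₁.2.1 h))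
      (psi_pow_eq_one hG hM.isScal) (psi_ne_one hG ?_)
    exact ONonlin.not_isScal_of_semi hσ1 ⟨hc.add, hc.smul⟩
  rcases Nat.even_or_odd e with hev | hodd
  · obtain ⟨m, hm⟩ := hev
    obtain ⟨j₁, e₁, i₁, c₁⟩ := exists_minus_block hG.nondeg h₁.1 (by omega) hpF h₁.2.1 h₁.2.2 (m := m)
      (by omega) (a := (a : F)) (b := (b : F)) habF
    rw [AutOrth.Main.minusForm_eq] at e₁
    have hGm : Good (minusForm (m - 1) F (a : F) b) := AutOrth.Main.good_minus (by omega) habF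
    have hκ : Fintype.card ((Fin (m - 1) ⊕ Fin (m - 1)) ⊕ Fin 2) = 2 * m := by
      simp only [Fintype.card_sum, Fintype.card_fin]
      omega
    have hcm : 2 * m = if Even (orderOf (Fintype.card F : ZMod p)) then orderOf (Fintype.card F : ZMod p) else
        2 * orderOf (Fintype.card F : ZMod p) := by
      rw [← he, if_pos ⟨m, hm⟩]
      omega
    have hle : 2 * m ≤ finrank F V := by
      rw [← hκ, ← Module.finrank_fintype_fun_eq_card F]
      exact LinearMap.finrank_le_finrank_of_injective (e₁.injective hGm.nondeg)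
    rcases hle.eq_or_lt with hEq | hlt
    · exact hwhole m (by omega) hcm hEq.symm
    obtain ⟨j₂, s, hs, hj₂, hMj⟩ := ONonlin.exists_frame_nl hG.nondeg hc hσp hp.out.pos hMp hκ hlt
      (P₀ := minusForm (m - 1) (fix σ) a b) (by
        rw [← AutOrth.Main.minusForm_eq]
        exact Cfsg.Agent.LieClassical.OrthForms.nondeg_minusForm _ (fix σ) _ _ hab)
      (P := minusForm (m - 1) F a b) (fun x => by rw [coe_minusForm, coe_minusForm, coe_minus])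
    obtain ⟨ψ, hψ⟩ := H193.QuadEmb.minus_iso (F := F) (m - 1) habF habF hs
    exact mpq_lin_nl hAA hG (by omega) hpF (m := m) (by omega) hκ hcm hGm h₁.1 h₁.2.1 e₁ i₁ c₁ hσ1
      (minusForm_frob _ a.2 b.2) hMp hs hj₂ hMj (ψ := ψ) (fun x => by rw [coe_minusForm]; exact hψ x)
  · obtain ⟨j₁, e₁, i₁, c₁⟩ := exists_plus_block hG.nondeg h₁.1 (by omega) hpF h₁.2.1 h₁.2.2 he.symm hodd
    rw [AutOrth.Main.plusForm_eq] at e₁
    have he3 : 3 ≤ e := by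
      obtain ⟨k, hk⟩ := hodd
      omega
    have hGm : Good (plusForm e F) := AutOrth.Main.good_plus he3
    have hκ : Fintype.card (Fin e ⊕ Fin e) = 2 * e := by
      simp only [Fintype.card_sum, Fintype.card_fin]
      omega
    have hcm : 2 * e = if Even (orderOf (Fintype.card F : ZMod p)) then orderOf (Fintype.card F : ZMod p) else
        2 * orderOf (Fintype.card F : ZMod p) := by
      rw [← he, if_neg (Nat.not_even_iff_odd.2 hodd)]
    have hle : 2 * e ≤ finrank F V := by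
      rw [← hκ, ← Module.finrank_fintype_fun_eq_card F]
      exact LinearMap.finrank_le_finrank_of_injective (e₁.injective hGm.nondeg)
    rcases hle.eq_or_lt with hEq | hlt
    · exact hwhole e he3 hcm hEq.symm
    obtain ⟨j₂, s, hs, hj₂, hMj⟩ := ONonlin.exists_frame_nl hG.nondeg hc hσp hp.out.pos hMp hκ hlt
      (P₀ := plusForm e (fix σ)) (polar_plusForm_nondeg e)
      (P := plusForm e F) (fun x => by rw [coe_plusForm, coe_plusForm, coe_plus])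
    obtain ⟨ψ, hψ⟩ := H193.QuadEmb.plus_iso (F := F) e hs
    exact mpq_lin_nl hAA hG (by omega) hpF (m := e) he3 hκ hcm hGm h₁.1 h₁.2.1 e₁ i₁ c₁ hσ1
      (plusForm_frob _) hMp hs hj₂ hMj (ψ := ψ) (fun x => by rw [coe_plusForm]; exact hψ x)

end main

end Cfsg.Agent.H862.T5.OMain
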